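import Mathlib

set_option autoImplicit false

namespace Cfsg.Agent.Lib.Helper18

/-! ### Torsion elements of `ZMod (2 ^ k)` -/

theorem zmod_tor_cases (k : ℕ) (hk : 1 ≤ k) (x : ZMod (2 ^ k)) (h : x + x = 0) :
    x = 0 ∨ x = ((2 ^ (k - 1) : ℕ) : ZMod (2 ^ k)) := by
  have hne : NeZero (2 ^ k) := ⟨by positivity⟩
  have hx : ((x.val : ℕ) : ZMod (2 ^ k)) = x := ZMod.natCast_zmod_val x
  have hlt : x.val < 2 ^ k := ZMod.val_lt x
  have h2 : (((x.val + x.val : ℕ)) : ZMod (2 ^ k)) = 0 := by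
    rw [Nat.cast_add, hx]; exact h
  rw [ZMod.natCast_eq_zero_iff] at h2
  have hpow : 2 ^ k = 2 * 2 ^ (k - 1) := by
    rw [← pow_succ']; congr 1; omega
  obtain ⟨c, hc0⟩ := h2
  have hc : x.val + x.val = 2 * 2 ^ (k - 1) * c := hc0.trans (by rw [hpow])
  replace hlt : x.val < 2 * 2 ^ (k - 1) := lt_of_lt_of_eq hlt hpow
  have h3 : x.val = 2 ^ (k - 1) * c := by
    have h4 : 2 * x.val = 2 * (2 ^ (k - 1) * c) := by rw [two_mul, hc]; ring
    exact Nat.eq_of_mul_eq_mul_left (by norm_num) h4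
  have h5 : c < 2 := by
    rw [h3, mul_comm 2 _] at hlt
    exact Nat.lt_of_mul_lt_mul_left hlt
  interval_cases c
  · left
    rw [← hx, h3]; simp
  · right
    rw [← hx, h3]; simp

theorem zmod_half_ne_zero (k : ℕ) (hk : 1 ≤ k) : ((2 ^ (k - 1) : ℕ) : ZMod (2 ^ k)) ≠ 0 := by
  intro h
  rw [ZMod.natCast_eq_zero_iff] at h
  have h1 := Nat.le_of_dvd (by positivity) h
  have h2 : 2 ^ (k - 1) < 2 ^ k := Nat.pow_lt_pow_right (by norm_num) (by omega)
  omega

theorem zmod_half_add_half (k : ℕ) (hk : 1 ≤ k) :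
    ((2 ^ (k - 1) : ℕ) : ZMod (2 ^ k)) + ((2 ^ (k - 1) : ℕ) : ZMod (2 ^ k)) = 0 := by
  rw [← Nat.cast_add]
  have h : 2 ^ (k - 1) + 2 ^ (k - 1) = 2 ^ k := by
    rw [← two_mul, ← pow_succ']; congr 1; omega
  rw [h]
  exact ZMod.natCast_self (2 ^ k)

theorem zmod_tor_mul (k : ℕ) (hk : 2 ≤ k) (x y : ZMod (2 ^ k)) (hx : x + x = 0)
    (hy : y + y = 0) : x * y = 0 := by
  rcases zmod_tor_cases k (by omega) x hx with h | h
  · rw [h, zero_mul]
  · rcases zmod_tor_cases k (by omega) y hy with h' | h'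
    · rw [h', mul_zero]
    · rw [h, h', ← Nat.cast_mul, ZMod.natCast_eq_zero_iff, ← pow_add]
      exact pow_dvd_pow 2 (by omega)

theorem zmod_tor_eq (k : ℕ) (hk : 1 ≤ k) (x y : ZMod (2 ^ k)) (hx : x + x = 0)
    (hy : y + y = 0) (h : x = 0 ↔ y = 0) : x = y := by
  rcases zmod_tor_cases k hk x hx with h1 | h1
  · rw [h1, h.mp h1]
  · rcases zmod_tor_cases k hk y hy with h2 | h2
    · rw [h2, h.mpr h2]
    · rw [h1, h2]

/-! ### Torsion matrices -/

theorem mat_tor_mul (k : ℕ) (hk : 2 ≤ k) (m m' : Matrix (Fin 2) (Fin 2) (ZMod (2 ^ k)))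
    (h : m + m = 0) (h' : m' + m' = 0) : m * m' = 0 := by
  have hm : ∀ i j, m i j + m i j = 0 := fun i j => by
    have := congrFun (congrFun h i) j
    simpa using this
  have hm' : ∀ i j, m' i j + m' i j = 0 := fun i j => by
    have := congrFun (congrFun h' i) j
    simpa using this
  ext i j
  rw [Matrix.mul_apply]
  exact Finset.sum_eq_zero (fun l _ => zmod_tor_mul k hk _ _ (hm i l) (hm' l j))

/-! ### The ring computation -/

theorem ring_key {M : Type*} [Ring M] (TP : ∀ X Y : M, X + X = 0 → Y + Y = 0 → X * Y = 0)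
    (V H Hi A : M) (hA : ∀ X : M, A * X = X * A) (hH : H * Hi = 1) (hN : (V - A) + (V - A) = 0)
    (hV2 : V * V = 1) (hrel : V = (H * V * Hi) * (H * H * V * Hi * Hi)) :
    (V - 1) + (V - 1) = 0 := by
  have conj_tor : ∀ X : M, X + X = 0 → H * X * Hi + H * X * Hi = 0 := by
    intro X hX
    rw [← add_mul, ← mul_add, hX, mul_zero, zero_mul]
  have conj_add : ∀ X : M, H * (A + X) * Hi = A + H * X * Hi := by
    intro X
    rw [mul_add, add_mul, ← hA H, mul_assoc, hH, mul_one]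
  obtain ⟨N, hNdef⟩ : ∃ N : M, N = V - A := ⟨_, rfl⟩
  rw [← hNdef] at hN
  have hVN : V = A + N := by rw [hNdef]; abel
  have hN' := conj_tor N hN
  have hN'' := conj_tor (H * N * Hi) hN'
  have e1 : H * V * Hi = A + H * N * Hi := by rw [hVN, conj_add]
  have e2 : H * H * V * Hi * Hi = A + H * (H * N * Hi) * Hi := by
    have h0 : H * H * V * Hi * Hi = H * (H * V * Hi) * Hi := by simp only [mul_assoc]
    rw [h0, e1, conj_add]
  have hAA : A * A = 1 := by
    have h1 : (A + N) * (A + N) = A * A + A * (N + N) + N * N := by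
      rw [mul_add, add_mul, add_mul, mul_add, ← hA N]; abel
    rw [← hVN, hV2, hN, mul_zero, add_zero, TP N N hN hN, add_zero] at h1
    exact h1.symm
  have h3 : (A + H * N * Hi) * (A + H * (H * N * Hi) * Hi) =
      A * A + A * (H * (H * N * Hi) * Hi) + A * (H * N * Hi) +
        (H * N * Hi) * (H * (H * N * Hi) * Hi) := by
    rw [add_mul, mul_add, mul_add, ← hA (H * N * Hi)]; abel
  rw [← e1, ← e2, ← hrel, hAA, TP _ _ hN' hN'', add_zero] at h3
  have h4 : V - 1 = A * (H * (H * N * Hi) * Hi) + A * (H * N * Hi) := by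
    rw [h3]; abel
  rw [h4]
  calc A * (H * (H * N * Hi) * Hi) + A * (H * N * Hi) +
        (A * (H * (H * N * Hi) * Hi) + A * (H * N * Hi))
      = A * ((H * (H * N * Hi) * Hi) + (H * (H * N * Hi) * Hi)) +
          A * ((H * N * Hi) + (H * N * Hi)) := by
        rw [mul_add, mul_add]; abel
    _ = 0 := by rw [hN', hN'', mul_zero, add_zero]

end Cfsg.Agent.Lib.Helper18
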