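import Cfsg.Agent.Lib.Helper18.A4GL2a
import Cfsg.Agent.Lib.Helper18.Basic

set_option autoImplicit false

namespace Cfsg.Agent.Lib.Helper18

/-- The subgroup of `GL₂(ℤ/2ᵏ)` of matrices `1 + m` with `2m = 0`. -/
def torSub (k : ℕ) (hk : 2 ≤ k) : Subgroup (GL (Fin 2) (ZMod (2 ^ k))) where
  carrier := {g | ((g : Matrix (Fin 2) (Fin 2) (ZMod (2 ^ k))) - 1) +
    ((g : Matrix (Fin 2) (Fin 2) (ZMod (2 ^ k))) - 1) = 0}
  one_mem' := by simp
  mul_mem' := by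
    intro a b ha hb
    have ha' : ((a : Matrix (Fin 2) (Fin 2) (ZMod (2 ^ k))) - 1) +
        ((a : Matrix (Fin 2) (Fin 2) (ZMod (2 ^ k))) - 1) = 0 := ha
    have hb' : ((b : Matrix (Fin 2) (Fin 2) (ZMod (2 ^ k))) - 1) +
        ((b : Matrix (Fin 2) (Fin 2) (ZMod (2 ^ k))) - 1) = 0 := hb
    have h1 : ((a * b : GL (Fin 2) (ZMod (2 ^ k))) : Matrix (Fin 2) (Fin 2) (ZMod (2 ^ k))) - 1 =
        ((a : Matrix (Fin 2) (Fin 2) (ZMod (2 ^ k))) - 1) +
          ((b : Matrix (Fin 2) (Fin 2) (ZMod (2 ^ k))) - 1) +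
          ((a : Matrix (Fin 2) (Fin 2) (ZMod (2 ^ k))) - 1) *
            ((b : Matrix (Fin 2) (Fin 2) (ZMod (2 ^ k))) - 1) := by
      rw [Matrix.GeneralLinearGroup.coe_mul]; noncomm_ring
    show ((a * b : GL (Fin 2) (ZMod (2 ^ k))) : Matrix (Fin 2) (Fin 2) (ZMod (2 ^ k))) - 1 +
      (((a * b : GL (Fin 2) (ZMod (2 ^ k))) : Matrix (Fin 2) (Fin 2) (ZMod (2 ^ k))) - 1) = 0
    rw [h1, mat_tor_mul k hk _ _ ha' hb', add_zero]
    calc ((a : Matrix (Fin 2) (Fin 2) (ZMod (2 ^ k))) - 1) +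
          ((b : Matrix (Fin 2) (Fin 2) (ZMod (2 ^ k))) - 1) +
          (((a : Matrix (Fin 2) (Fin 2) (ZMod (2 ^ k))) - 1) +
          ((b : Matrix (Fin 2) (Fin 2) (ZMod (2 ^ k))) - 1))
        = (((a : Matrix (Fin 2) (Fin 2) (ZMod (2 ^ k))) - 1) +
          ((a : Matrix (Fin 2) (Fin 2) (ZMod (2 ^ k))) - 1)) +
          (((b : Matrix (Fin 2) (Fin 2) (ZMod (2 ^ k))) - 1) +
          ((b : Matrix (Fin 2) (Fin 2) (ZMod (2 ^ k))) - 1)) := by abel
      _ = 0 := by rw [ha', hb', add_zero]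
  inv_mem' := by
    intro a ha
    have ha' : ((a : Matrix (Fin 2) (Fin 2) (ZMod (2 ^ k))) - 1) +
        ((a : Matrix (Fin 2) (Fin 2) (ZMod (2 ^ k))) - 1) = 0 := ha
    have h1 : a * a = 1 := by
      apply Units.ext
      rw [Units.val_mul, Units.val_one]
      have h2 : (a : Matrix (Fin 2) (Fin 2) (ZMod (2 ^ k))) * a =
          1 + (((a : Matrix (Fin 2) (Fin 2) (ZMod (2 ^ k))) - 1) +
            ((a : Matrix (Fin 2) (Fin 2) (ZMod (2 ^ k))) - 1)) +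
            ((a : Matrix (Fin 2) (Fin 2) (ZMod (2 ^ k))) - 1) *
            ((a : Matrix (Fin 2) (Fin 2) (ZMod (2 ^ k))) - 1) := by noncomm_ring
      rw [h2, ha', mat_tor_mul k hk _ _ ha' ha', add_zero, add_zero]
    have h3 : a⁻¹ = a := inv_eq_of_mul_eq_one_left h1
    rw [h3]; exact ha

theorem mem_torSub_iff (k : ℕ) (hk : 2 ≤ k) (g : GL (Fin 2) (ZMod (2 ^ k))) :
    g ∈ torSub k hk ↔ ((g : Matrix (Fin 2) (Fin 2) (ZMod (2 ^ k))) - 1) +
      ((g : Matrix (Fin 2) (Fin 2) (ZMod (2 ^ k))) - 1) = 0 := Iff.rfl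

theorem card_torSub_le (k : ℕ) (hk : 2 ≤ k) : Nat.card (torSub k hk) ≤ 16 := by
  classical
  have h16 : Nat.card (Fin 2 → Fin 2 → Bool) = 16 := by
    rw [Nat.card_eq_fintype_card]; rfl
  rw [← h16]
  apply Nat.card_le_card_of_injective (fun g : torSub k hk => fun i j =>
    decide (((g.1 : Matrix (Fin 2) (Fin 2) (ZMod (2 ^ k))) - 1) i j = 0))
  intro g g' hgg
  apply Subtype.ext
  apply Matrix.GeneralLinearGroup.ext
  intro i j
  have h1 := congrFun (congrFun hgg i) j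
  have h2 : ((g.1 : Matrix (Fin 2) (Fin 2) (ZMod (2 ^ k))) - 1) i j = 0 ↔
      ((g'.1 : Matrix (Fin 2) (Fin 2) (ZMod (2 ^ k))) - 1) i j = 0 :=
    decide_eq_decide.mp h1
  have hg : ∀ i j, ((g.1 : Matrix (Fin 2) (Fin 2) (ZMod (2 ^ k))) - 1) i j +
      ((g.1 : Matrix (Fin 2) (Fin 2) (ZMod (2 ^ k))) - 1) i j = 0 := fun i j => by
    have := congrFun (congrFun ((mem_torSub_iff k hk g.1).mp g.2) i) j
    simpa using this
  have hg' : ∀ i j, ((g'.1 : Matrix (Fin 2) (Fin 2) (ZMod (2 ^ k))) - 1) i j +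
      ((g'.1 : Matrix (Fin 2) (Fin 2) (ZMod (2 ^ k))) - 1) i j = 0 := fun i j => by
    have := congrFun (congrFun ((mem_torSub_iff k hk g'.1).mp g'.2) i) j
    simpa using this
  have h3 := zmod_tor_eq k (by omega) _ _ (hg i j) (hg' i j) h2
  have h4 : (g.1 : Matrix (Fin 2) (Fin 2) (ZMod (2 ^ k))) i j -
      (1 : Matrix (Fin 2) (Fin 2) (ZMod (2 ^ k))) i j =
      (g'.1 : Matrix (Fin 2) (Fin 2) (ZMod (2 ^ k))) i j -
      (1 : Matrix (Fin 2) (Fin 2) (ZMod (2 ^ k))) i j := h3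
  exact sub_left_inj.mp h4

theorem exists_central_tor (k : ℕ) (hk : 2 ≤ k) :
    ∃ z : GL (Fin 2) (ZMod (2 ^ k)), z ∈ torSub k hk ∧ z ≠ 1 ∧
      ∀ g : GL (Fin 2) (ZMod (2 ^ k)), z * g = g * z := by
  obtain ⟨c, hc⟩ : ∃ c : ZMod (2 ^ k), c = ((2 ^ (k - 1) : ℕ) : ZMod (2 ^ k)) := ⟨_, rfl⟩
  have hcc : c + c = 0 := by rw [hc]; exact zmod_half_add_half k (by omega)
  have hc0 : c ≠ 0 := by rw [hc]; exact zmod_half_ne_zero k (by omega)
  have hc2 : c * c = 0 := zmod_tor_mul k hk c c hcc hcc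
  have hu : (1 + c) * (1 + c) = 1 := by
    calc (1 + c) * (1 + c) = 1 + (c + c) + c * c := by ring
      _ = 1 := by rw [hcc, hc2]; ring
  have hZZ : ((1 + c) • (1 : Matrix (Fin 2) (Fin 2) (ZMod (2 ^ k)))) *
      ((1 + c) • (1 : Matrix (Fin 2) (Fin 2) (ZMod (2 ^ k)))) = 1 := by
    rw [Matrix.smul_mul, Matrix.mul_smul, mul_one, smul_smul, hu, one_smul]
  refine ⟨⟨(1 + c) • (1 : Matrix (Fin 2) (Fin 2) (ZMod (2 ^ k))),
    (1 + c) • (1 : Matrix (Fin 2) (Fin 2) (ZMod (2 ^ k))), hZZ, hZZ⟩, ?_, ?_, ?_⟩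
  · rw [mem_torSub_iff]
    show ((1 + c) • (1 : Matrix (Fin 2) (Fin 2) (ZMod (2 ^ k))) - 1) +
      ((1 + c) • (1 : Matrix (Fin 2) (Fin 2) (ZMod (2 ^ k))) - 1) = 0
    have h1 : (1 + c) • (1 : Matrix (Fin 2) (Fin 2) (ZMod (2 ^ k))) - 1 =
        c • (1 : Matrix (Fin 2) (Fin 2) (ZMod (2 ^ k))) := by
      rw [add_smul, one_smul]; abel
    rw [h1, ← add_smul, hcc, zero_smul]
  · intro h
    have h1 : (1 + c) • (1 : Matrix (Fin 2) (Fin 2) (ZMod (2 ^ k))) = 1 := congrArg Units.val h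
    have h2 := congrFun (congrFun h1 0) 0
    simp at h2
    exact hc0 h2
  · intro g
    apply Units.ext
    show ((1 + c) • (1 : Matrix (Fin 2) (Fin 2) (ZMod (2 ^ k)))) *
      (g : Matrix (Fin 2) (Fin 2) (ZMod (2 ^ k))) =
      (g : Matrix (Fin 2) (Fin 2) (ZMod (2 ^ k))) *
        ((1 + c) • (1 : Matrix (Fin 2) (Fin 2) (ZMod (2 ^ k))))
    rw [Matrix.smul_mul, Matrix.mul_smul, one_mul, mul_one]

theorem mat_key (k : ℕ) (V : Matrix (Fin 2) (Fin 2) (ZMod (2 ^ k))) (hdet : V.det = 1)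
    (hV2 : V * V = 1) : ∃ a : ZMod (2 ^ k),
      (V - a • (1 : Matrix (Fin 2) (Fin 2) (ZMod (2 ^ k)))) +
      (V - a • (1 : Matrix (Fin 2) (Fin 2) (ZMod (2 ^ k)))) = 0 := by
  have hadj : Matrix.adjugate V = V := by
    have h1 : V * Matrix.adjugate V = 1 := by
      rw [Matrix.mul_adjugate, hdet, one_smul]
    calc Matrix.adjugate V = (V * V) * Matrix.adjugate V := by rw [hV2, one_mul]
      _ = V * (V * Matrix.adjugate V) := by rw [mul_assoc]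
      _ = V := by rw [h1, mul_one]
  rw [Matrix.adjugate_fin_two] at hadj
  have e00 : V 1 1 = V 0 0 := by
    have := congrFun (congrFun hadj 0) 0; simpa using this
  have e01 : -V 0 1 = V 0 1 := by
    have := congrFun (congrFun hadj 0) 1; simpa using this
  have e10 : -V 1 0 = V 1 0 := by
    have := congrFun (congrFun hadj 1) 0; simpa using this
  refine ⟨V 0 0, ?_⟩
  ext i j
  fin_cases i <;> fin_cases j
  · simp
  · simpa using neg_eq_iff_add_eq_zero.mp e01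
  · simpa using neg_eq_iff_add_eq_zero.mp e10
  · simp [e00]

theorem mem_torSub_of_rel (k : ℕ) (hk : 2 ≤ k) (v h : GL (Fin 2) (ZMod (2 ^ k)))
    (hv2 : v * v = 1) (hrel : v = (h * v * h⁻¹) * (h * h * v * h⁻¹ * h⁻¹)) :
    v ∈ torSub k hk := by
  have hdet : Matrix.GeneralLinearGroup.det v = 1 := by
    have h1 := congrArg Matrix.GeneralLinearGroup.det hrel
    simp only [map_mul, map_inv] at h1
    generalize Matrix.GeneralLinearGroup.det v = d at h1 ⊢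
    generalize Matrix.GeneralLinearGroup.det h = e at h1
    have c1 : e * d * e⁻¹ = d := mul_inv_cancel_comm e d
    have c2 : e * e * d * e⁻¹ * e⁻¹ = d := by
      rw [show e * e * d * e⁻¹ * e⁻¹ = e * (e * d * e⁻¹) * e⁻¹ by group, c1, c1]
    rw [c1, c2] at h1
    exact mul_left_cancel (a := d) (by rw [mul_one]; exact h1.symm)
  have hdetm : (v : Matrix (Fin 2) (Fin 2) (ZMod (2 ^ k))).det = 1 := by
    rw [← Matrix.GeneralLinearGroup.val_det_apply, hdet]; rfl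
  have hV2 : (v : Matrix (Fin 2) (Fin 2) (ZMod (2 ^ k))) * v = 1 := by
    have h1 := congrArg Units.val hv2
    simpa only [Units.val_mul, Units.val_one] using h1
  obtain ⟨a, hN⟩ := mat_key k (v : Matrix (Fin 2) (Fin 2) (ZMod (2 ^ k))) hdetm hV2
  rw [mem_torSub_iff]
  refine ring_key (mat_tor_mul k hk) (v : Matrix (Fin 2) (Fin 2) (ZMod (2 ^ k)))
    (h : Matrix (Fin 2) (Fin 2) (ZMod (2 ^ k)))
    ((h⁻¹ : GL (Fin 2) (ZMod (2 ^ k))) : Matrix (Fin 2) (Fin 2) (ZMod (2 ^ k)))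
    (a • (1 : Matrix (Fin 2) (Fin 2) (ZMod (2 ^ k)))) ?_ ?_ hN hV2 ?_
  · intro X
    rw [Matrix.smul_mul, Matrix.mul_smul, one_mul, mul_one]
  · rw [← Units.val_mul, mul_inv_cancel, Units.val_one]
  · have h1 := congrArg Units.val hrel
    simpa only [Units.val_mul] using h1

end Cfsg.Agent.Lib.Helper18
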