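import Cfsg.Agent.Lib.Helper18.A4GL2b

set_option autoImplicit false

namespace Cfsg.Agent.Lib.Helper18

theorem one_add_two_smul_pow {R M : Type*} [CommRing R] [Ring M] [Algebra R M] (m : M) (j : ℕ) :
    ∃ m' : M, (1 + (2 : R) • m) ^ (2 ^ j) = 1 + ((2 : R) ^ (j + 1)) • m' := by
  induction j with
  | zero => exact ⟨m, by simp⟩
  | succ j ih =>
    obtain ⟨m', hm'⟩ := ih
    refine ⟨m' + ((2 : R) ^ j) • (m' * m'), ?_⟩
    rw [pow_succ, pow_mul, hm', sq]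
    have hx : (((2 : R) ^ (j + 1)) • m') * (((2 : R) ^ (j + 1)) • m') =
        ((2 : R) ^ (j + 1) * (2 : R) ^ (j + 1)) • (m' * m') := by
      rw [smul_mul_assoc, mul_smul_comm, smul_smul]
    have hy : (1 + ((2 : R) ^ (j + 1)) • m') * (1 + ((2 : R) ^ (j + 1)) • m') =
        1 + ((2 : R) ^ (j + 1)) • m' + ((2 : R) ^ (j + 1)) • m' +
          (((2 : R) ^ (j + 1)) • m') * (((2 : R) ^ (j + 1)) • m') := by
      simp only [mul_add, add_mul, one_mul, mul_one]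
      abel
    rw [hy, hx, smul_add, smul_smul]
    have e1 : (2 : R) ^ (j + 1 + 1) = 2 ^ (j + 1) + 2 ^ (j + 1) := by ring
    have e2 : (2 : R) ^ (j + 1 + 1) * 2 ^ j = 2 ^ (j + 1) * 2 ^ (j + 1) := by ring
    rw [e2, e1, add_smul]; abel

/-- Reduction mod 2. -/
def redGL (k : ℕ) (hk : 1 ≤ k) : GL (Fin 2) (ZMod (2 ^ k)) →* GL (Fin 2) (ZMod 2) :=
  Matrix.GeneralLinearGroup.map
    (ZMod.castHom (dvd_pow_self 2 (Nat.one_le_iff_ne_zero.mp hk)) (ZMod 2))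

theorem zmod_even_of_cast (k : ℕ) (hk : 1 ≤ k) (x : ZMod (2 ^ k))
    (h : ZMod.castHom (dvd_pow_self 2 (Nat.one_le_iff_ne_zero.mp hk)) (ZMod 2) x = 0) :
    ∃ y : ZMod (2 ^ k), x = 2 * y := by
  have hne : NeZero (2 ^ k) := ⟨by positivity⟩
  have hx : ((x.val : ℕ) : ZMod (2 ^ k)) = x := ZMod.natCast_zmod_val x
  rw [← hx, map_natCast, ZMod.natCast_eq_zero_iff] at h
  obtain ⟨t, ht⟩ := h
  exact ⟨(t : ZMod (2 ^ k)), by rw [← hx, ht]; push_cast; ring⟩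

theorem ker_redGL_pow (k : ℕ) (hk : 1 ≤ k) (g : GL (Fin 2) (ZMod (2 ^ k)))
    (hg : redGL k hk g = 1) : g ^ (2 ^ (k - 1)) = 1 := by
  have hent : ∀ i j : Fin 2, ZMod.castHom (dvd_pow_self 2 (Nat.one_le_iff_ne_zero.mp hk)) (ZMod 2)
      (((g : Matrix (Fin 2) (Fin 2) (ZMod (2 ^ k))) - 1) i j) = 0 := by
    intro i j
    have h1 : (redGL k hk g : Matrix (Fin 2) (Fin 2) (ZMod 2)) i j =
        (1 : Matrix (Fin 2) (Fin 2) (ZMod 2)) i j := by rw [hg]; rfl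
    have h2 : (redGL k hk g : Matrix (Fin 2) (Fin 2) (ZMod 2)) i j =
        ZMod.castHom (dvd_pow_self 2 (Nat.one_le_iff_ne_zero.mp hk)) (ZMod 2)
          ((g : Matrix (Fin 2) (Fin 2) (ZMod (2 ^ k))) i j) := rfl
    rw [Matrix.sub_apply, map_sub, ← h2, h1, Matrix.one_apply, Matrix.one_apply]
    split_ifs with hij
    · rw [map_one, sub_self]
    · rw [map_zero, sub_zero]
  choose y hy using fun i j => zmod_even_of_cast k hk _ (hent i j)
  have hm : (g : Matrix (Fin 2) (Fin 2) (ZMod (2 ^ k))) =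
      1 + (2 : ZMod (2 ^ k)) • (Matrix.of y : Matrix (Fin 2) (Fin 2) (ZMod (2 ^ k))) := by
    ext i j
    have h1 := hy i j
    rw [Matrix.sub_apply] at h1
    rw [Matrix.add_apply, Matrix.smul_apply, Matrix.of_apply, smul_eq_mul, ← h1]
    ring
  obtain ⟨m', hm'⟩ := one_add_two_smul_pow (R := ZMod (2 ^ k))
    (Matrix.of y : Matrix (Fin 2) (Fin 2) (ZMod (2 ^ k))) (k - 1)
  apply Units.ext
  rw [Units.val_pow_eq_pow_val, Units.val_one, hm, hm']
  have h0 : (2 : ZMod (2 ^ k)) ^ (k - 1 + 1) = 0 := by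
    rw [Nat.sub_add_cancel hk]
    have h1 : ((2 ^ k : ℕ) : ZMod (2 ^ k)) = 0 := ZMod.natCast_self (2 ^ k)
    exact_mod_cast h1
  rw [h0, zero_smul, add_zero]

theorem ker_redGL_isPGroup (k : ℕ) (hk : 1 ≤ k) : IsPGroup 2 (redGL k hk).ker := by
  intro g
  refine ⟨k - 1, Subtype.ext ?_⟩
  have h1 := ker_redGL_pow k hk g.1 (MonoidHom.mem_ker.mp g.2)
  simpa using h1

theorem card_sylow_three_le (k : ℕ) (hk : 1 ≤ k) (S : Sylow 3 (GL (Fin 2) (ZMod (2 ^ k)))) :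
    Nat.card S ≤ 3 := by
  have hne : NeZero (2 ^ k) := ⟨by positivity⟩
  have hp3 : Fact (Nat.Prime 3) := ⟨Nat.prime_three⟩
  have hker := ker_redGL_isPGroup k hk
  have hinj : Function.Injective ((redGL k hk).comp (S : Subgroup _).subtype) := by
    rw [injective_iff_map_eq_one]
    intro s hs
    have h1 : (s : GL (Fin 2) (ZMod (2 ^ k))) ∈ (redGL k hk).ker := hs
    have h2 : (orderOf (s : GL (Fin 2) (ZMod (2 ^ k)))).Coprime 2 := by
      obtain ⟨n, hn⟩ := exists_pow_eq_one_of_mem S.isPGroup' s.2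
      have h3 : orderOf (s : GL (Fin 2) (ZMod (2 ^ k))) ∣ 3 ^ n := orderOf_dvd_of_pow_eq_one hn
      exact Nat.Coprime.coprime_dvd_left h3 (Nat.Coprime.pow_left n (by norm_num))
    exact Subtype.ext (eq_one_of_mem_of_coprime hker h1 h2)
  have hdvd := Subgroup.card_dvd_of_injective _ hinj
  have h6 : Nat.card (GL (Fin 2) (ZMod 2)) = 6 := by
    rw [Matrix.card_GL_field]
    simp [Fin.prod_univ_two]
  rw [h6] at hdvd
  obtain ⟨m, hm⟩ := IsPGroup.iff_card.mp S.isPGroup'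
  rw [hm] at hdvd ⊢
  have hm1 : m ≤ 1 := by
    by_contra hlt
    push Not at hlt
    have h9 : 3 ^ 2 ∣ 6 := dvd_trans (pow_dvd_pow 3 hlt) hdvd
    norm_num at h9
  interval_cases m <;> norm_num

end Cfsg.Agent.Lib.Helper18
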