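import Cfsg.Agent.Lib.Helper18.A4GL2c
import Cfsg.Agent.Lib.Helper18.SylowL

set_option autoImplicit false

namespace Cfsg.Agent.Lib.Helper18

/-! ### Facts about `A₄` by enumeration -/

theorem a4_d1 : ∀ a b : alternatingGroup (Fin 4), a * a = 1 → b * b = 1 →
    (a * b) * (a * b) = 1 := by
  decide

theorem a4_d2 : ∃ c : alternatingGroup (Fin 4), c ≠ 1 ∧ c * c * c = 1 := by
  decide

theorem a4_d3 : ∀ c a : alternatingGroup (Fin 4), (c ≠ 1 ∧ c * c * c = 1 ∧ a * a = 1 ∧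
    c * a * c⁻¹ = a) → a = 1 := by
  decide

theorem a4_d4 : ∀ c x : alternatingGroup (Fin 4), (c ≠ 1 ∧ c * c * c = 1) →
    ∃ a : alternatingGroup (Fin 4), a * a = 1 ∧ (x = a ∨ x = a * c ∨ x = a * c * c) := by
  decide

set_option synthInstance.maxHeartbeats 400000 in
set_option synthInstance.maxSize 4096 in
set_option maxRecDepth 100000 in
theorem a4_d7 : ∀ c a x : alternatingGroup (Fin 4), (c ≠ 1 ∧ c * c * c = 1 ∧ a ≠ 1 ∧ a * a = 1 ∧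
    x * x = 1) → (x = 1 ∨ x = a ∨ x = c * a * c⁻¹ ∨ x = c * c * a * c⁻¹ * c⁻¹) := by
  decide

set_option maxRecDepth 100000 in
theorem a4_d9 : ∀ c a : alternatingGroup (Fin 4), (c ≠ 1 ∧ c * c * c = 1 ∧ a * a = 1) →
    a = (c * a * c⁻¹) * (c * c * a * c⁻¹ * c⁻¹) := by
  decide

theorem a4_card_sq : Nat.card {a : alternatingGroup (Fin 4) // a * a = 1} = 4 := by
  rw [Nat.card_eq_fintype_card]
  decide

/-! ### Transport to a subgroup isomorphic to `A₄` -/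

section Transport

variable {G : Type*} [Group G]

/-- The properties of a subgroup isomorphic to `A₄` that we use. -/
def A4Like (H : Subgroup G) : Prop :=
  (∀ a b, a ∈ H → b ∈ H → a * a = 1 → b * b = 1 → (a * b) * (a * b) = 1) ∧
  (∃ c, c ∈ H ∧ c ≠ 1 ∧ c * c * c = 1) ∧
  (∀ c a, c ∈ H → a ∈ H → c ≠ 1 → c * c * c = 1 → a * a = 1 → c * a * c⁻¹ = a → a = 1) ∧
  (∀ c x, c ∈ H → x ∈ H → c ≠ 1 → c * c * c = 1 →
    ∃ a, a ∈ H ∧ a * a = 1 ∧ (x = a ∨ x = a * c ∨ x = a * c * c)) ∧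
  (∀ c a x, c ∈ H → a ∈ H → x ∈ H → c ≠ 1 → c * c * c = 1 → a ≠ 1 → a * a = 1 → x * x = 1 →
    (x = 1 ∨ x = a ∨ x = c * a * c⁻¹ ∨ x = c * c * a * c⁻¹ * c⁻¹)) ∧
  (∀ c a, c ∈ H → a ∈ H → c ≠ 1 → c * c * c = 1 → a * a = 1 →
    a = (c * a * c⁻¹) * (c * c * a * c⁻¹ * c⁻¹)) ∧
  (∃ f : {a : alternatingGroup (Fin 4) // a * a = 1} → G, Function.Injective f ∧
    ∀ a, f a ∈ H ∧ f a * f a = 1)

theorem sub_eq_of_map_eq {A : Type*} [Group A] {H : Subgroup G} (φ : H ≃* A) {w w' : H}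
    (h : φ w = φ w') : (w : G) = w' := congrArg Subtype.val (φ.injective h)

theorem map_eq_of_sub_eq {A : Type*} [Group A] {H : Subgroup G} (φ : H ≃* A) {w w' : H}
    (h : (w : G) = w') : φ w = φ w' := congrArg φ (Subtype.ext h)

theorem a4Like_of_equiv (H : Subgroup G) (φ : H ≃* alternatingGroup (Fin 4)) : A4Like H := by
  have sq : ∀ a (ha : a ∈ H), a * a = 1 → φ ⟨a, ha⟩ * φ ⟨a, ha⟩ = 1 := by
    intro a ha h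
    rw [← map_mul, ← map_one φ]
    exact map_eq_of_sub_eq φ h
  have cube : ∀ a (ha : a ∈ H), a * a * a = 1 → φ ⟨a, ha⟩ * φ ⟨a, ha⟩ * φ ⟨a, ha⟩ = 1 := by
    intro a ha h
    rw [← map_mul, ← map_mul, ← map_one φ]
    exact map_eq_of_sub_eq φ h
  have ne1 : ∀ a (ha : a ∈ H), a ≠ 1 → φ ⟨a, ha⟩ ≠ 1 := by
    intro a ha h h'
    rw [← map_one φ] at h'
    exact h (sub_eq_of_map_eq φ h')
  refine ⟨?_, ?_, ?_, ?_, ?_, ?_, ?_⟩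
  · intro a b ha hb ha2 hb2
    have h := a4_d1 (φ ⟨a, ha⟩) (φ ⟨b, hb⟩) (sq a ha ha2) (sq b hb hb2)
    exact sub_eq_of_map_eq φ (w := ⟨a, ha⟩ * ⟨b, hb⟩ * (⟨a, ha⟩ * ⟨b, hb⟩)) (w' := 1)
      (by rw [map_mul, map_mul, map_one]; exact h)
  · obtain ⟨c₀, hc1, hc3⟩ := a4_d2
    obtain ⟨c, rfl⟩ := φ.surjective c₀
    refine ⟨c.1, c.2, ?_, ?_⟩
    · intro h
      apply hc1
      rw [← map_one φ]
      exact map_eq_of_sub_eq φ h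
    · exact sub_eq_of_map_eq φ (w := c * c * c) (w' := 1)
        (by rw [map_mul, map_mul, map_one]; exact hc3)
  · intro c a hc ha hc1 hc3 ha2 hca
    have h := a4_d3 (φ ⟨c, hc⟩) (φ ⟨a, ha⟩) ⟨ne1 c hc hc1, cube c hc hc3, sq a ha ha2, by
      rw [← map_inv, ← map_mul, ← map_mul]
      exact map_eq_of_sub_eq φ hca⟩
    exact sub_eq_of_map_eq φ (w := ⟨a, ha⟩) (w' := 1) (by rw [map_one]; exact h)
  · intro c x hc hx hc1 hc3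
    obtain ⟨a₀, h1, h2⟩ := a4_d4 (φ ⟨c, hc⟩) (φ ⟨x, hx⟩) ⟨ne1 c hc hc1, cube c hc hc3⟩
    obtain ⟨a, rfl⟩ := φ.surjective a₀
    refine ⟨a.1, a.2, ?_, ?_⟩
    · exact sub_eq_of_map_eq φ (w := a * a) (w' := 1) (by rw [map_mul, map_one]; exact h1)
    · rcases h2 with h2 | h2 | h2
      · left
        exact sub_eq_of_map_eq φ (w := ⟨x, hx⟩) (w' := a) h2
      · right; left
        exact sub_eq_of_map_eq φ (w := ⟨x, hx⟩) (w' := a * ⟨c, hc⟩) (by rw [map_mul]; exact h2)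
      · right; right
        exact sub_eq_of_map_eq φ (w := ⟨x, hx⟩) (w' := a * ⟨c, hc⟩ * ⟨c, hc⟩)
          (by rw [map_mul, map_mul]; exact h2)
  · intro c a x hc ha hx hc1 hc3 ha1 ha2 hx2
    have h := a4_d7 (φ ⟨c, hc⟩) (φ ⟨a, ha⟩) (φ ⟨x, hx⟩)
      ⟨ne1 c hc hc1, cube c hc hc3, ne1 a ha ha1, sq a ha ha2, sq x hx hx2⟩
    rcases h with h | h | h | h
    · left
      exact sub_eq_of_map_eq φ (w := ⟨x, hx⟩) (w' := 1) (by rw [map_one]; exact h)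
    · right; left
      exact sub_eq_of_map_eq φ (w := ⟨x, hx⟩) (w' := ⟨a, ha⟩) h
    · right; right; left
      exact sub_eq_of_map_eq φ (w := ⟨x, hx⟩) (w' := ⟨c, hc⟩ * ⟨a, ha⟩ * ⟨c, hc⟩⁻¹)
        (by rw [map_mul, map_mul, map_inv]; exact h)
    · right; right; right
      exact sub_eq_of_map_eq φ (w := ⟨x, hx⟩)
        (w' := ⟨c, hc⟩ * ⟨c, hc⟩ * ⟨a, ha⟩ * ⟨c, hc⟩⁻¹ * ⟨c, hc⟩⁻¹)
        (by rw [map_mul, map_mul, map_mul, map_mul, map_inv]; exact h)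
  · intro c a hc ha hc1 hc3 ha2
    have h := a4_d9 (φ ⟨c, hc⟩) (φ ⟨a, ha⟩) ⟨ne1 c hc hc1, cube c hc hc3, sq a ha ha2⟩
    exact sub_eq_of_map_eq φ (w := ⟨a, ha⟩)
      (w' := (⟨c, hc⟩ * ⟨a, ha⟩ * ⟨c, hc⟩⁻¹) *
        (⟨c, hc⟩ * ⟨c, hc⟩ * ⟨a, ha⟩ * ⟨c, hc⟩⁻¹ * ⟨c, hc⟩⁻¹))
      (by rw [map_mul, map_mul, map_mul, map_mul, map_mul, map_mul, map_mul, map_inv]; exact h)
  · refine ⟨fun a => ((φ.symm a.1 : H) : G), ?_, ?_⟩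
    · intro a b hab
      apply Subtype.ext
      exact φ.symm.injective (Subtype.ext hab)
    · intro a
      refine ⟨(φ.symm a.1).2, ?_⟩
      exact sub_eq_of_map_eq φ (w := φ.symm a.1 * φ.symm a.1) (w' := 1)
        (by rw [map_mul, map_one, MulEquiv.apply_symm_apply]; exact a.2)

end Transport

section Count

variable {G : Type*} [Group G]

theorem card_mul_le_of_fpf (K V₁ V₂ : Subgroup G) [Finite K] (hV₁ : V₁ ≤ K) (hV₂ : V₂ ≤ K)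
    (z : G) (hzK : z ∈ K) (hz1 : z ≠ 1) (hzc : ∀ g : G, z * g = g * z) (h : G)
    (hc₁ : ∀ u ∈ V₁, h * u * h⁻¹ ∈ V₁) (hc₂ : ∀ u ∈ V₂, h * u * h⁻¹ ∈ V₂)
    (hf₁ : ∀ u ∈ V₁, h * u * h⁻¹ = u → u = 1) (hf₂ : ∀ u ∈ V₂, h * u * h⁻¹ = u → u = 1)
    (hbot : V₁ ⊓ V₂ = ⊥) : Nat.card V₁ * (Nat.card V₂ * 2) ≤ Nat.card K := by
  have hcen : ∀ e : Bool, ∀ g : G, (if e then z else 1) * g = g * (if e then z else 1) := by
    intro e g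
    cases e
    · simp
    · simpa using hzc g
  have hceninv : ∀ e : Bool, ∀ g : G,
      (if e then z else 1)⁻¹ * g = g * (if e then z else 1)⁻¹ := by
    intro e g
    have h1 := hcen e g
    generalize (if e then z else 1) = ζ at h1 ⊢
    calc ζ⁻¹ * g = ζ⁻¹ * (g * ζ) * ζ⁻¹ := by group
      _ = ζ⁻¹ * (ζ * g) * ζ⁻¹ := by rw [h1]
      _ = g * ζ⁻¹ := by group
  have hmemK : ∀ p : V₁ × V₂ × Bool, p.1.1 * p.2.1.1 * (if p.2.2 then z else 1) ∈ K := by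
    intro p
    refine K.mul_mem (K.mul_mem (hV₁ p.1.2) (hV₂ p.2.1.2)) ?_
    cases p.2.2
    · simpa using K.one_mem
    · simpa using hzK
  have h2 : Nat.card (V₁ × V₂ × Bool) = Nat.card V₁ * (Nat.card V₂ * 2) := by
    rw [Nat.card_prod, Nat.card_prod, Nat.card_eq_fintype_card (α := Bool), Fintype.card_bool]
  rw [← h2]
  apply Nat.card_le_card_of_injective
    (fun p : V₁ × V₂ × Bool => (⟨p.1.1 * p.2.1.1 * (if p.2.2 then z else 1), hmemK p⟩ : K))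
  rintro ⟨⟨u₁, hu₁⟩, ⟨u₂, hu₂⟩, e⟩ ⟨⟨u₁', hu₁'⟩, ⟨u₂', hu₂'⟩, e'⟩ hp
  have E : u₁ * u₂ * (if e then z else 1) = u₁' * u₂' * (if e' then z else 1) :=
    congrArg Subtype.val hp
  have hw : ∀ g : G, ((if e' then z else 1) * (if e then z else 1)⁻¹) * g =
      g * ((if e' then z else 1) * (if e then z else 1)⁻¹) := by
    intro g
    rw [mul_assoc, hceninv e g, ← mul_assoc, hcen e' g, mul_assoc]
  obtain ⟨ζ, hζ⟩ : ∃ ζ : G, ζ = if e then z else 1 := ⟨_, rfl⟩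
  obtain ⟨ζ', hζ'⟩ : ∃ ζ' : G, ζ' = if e' then z else 1 := ⟨_, rfl⟩
  rw [← hζ, ← hζ'] at E hw
  have hab : (u₁'⁻¹ * u₁) * (u₂ * u₂'⁻¹) = ζ' * ζ⁻¹ := by
    calc (u₁'⁻¹ * u₁) * (u₂ * u₂'⁻¹) = u₁'⁻¹ * (u₁ * u₂ * ζ) * ζ⁻¹ * u₂'⁻¹ := by group
      _ = u₁'⁻¹ * (u₁' * u₂' * ζ') * ζ⁻¹ * u₂'⁻¹ := by rw [E]
      _ = (u₂' * (ζ' * ζ⁻¹)) * u₂'⁻¹ := by group
      _ = ((ζ' * ζ⁻¹) * u₂') * u₂'⁻¹ := by rw [hw u₂']
      _ = ζ' * ζ⁻¹ := by group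
  have ha : u₁'⁻¹ * u₁ ∈ V₁ := V₁.mul_mem (V₁.inv_mem hu₁') hu₁
  have hb : u₂ * u₂'⁻¹ ∈ V₂ := V₂.mul_mem hu₂ (V₂.inv_mem hu₂')
  have hfix : h * ((u₁'⁻¹ * u₁) * (u₂ * u₂'⁻¹)) * h⁻¹ = (u₁'⁻¹ * u₁) * (u₂ * u₂'⁻¹) := by
    rw [hab]
    calc h * (ζ' * ζ⁻¹) * h⁻¹ = ((ζ' * ζ⁻¹) * h) * h⁻¹ := by rw [hw h]
      _ = ζ' * ζ⁻¹ := by group
  have hd : (u₁'⁻¹ * u₁)⁻¹ * (h * (u₁'⁻¹ * u₁) * h⁻¹) =
      (u₂ * u₂'⁻¹) * (h * (u₂ * u₂'⁻¹) * h⁻¹)⁻¹ := by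
    calc (u₁'⁻¹ * u₁)⁻¹ * (h * (u₁'⁻¹ * u₁) * h⁻¹)
        = (u₁'⁻¹ * u₁)⁻¹ * (h * ((u₁'⁻¹ * u₁) * (u₂ * u₂'⁻¹)) * h⁻¹) *
            (h * (u₂ * u₂'⁻¹) * h⁻¹)⁻¹ := by group
      _ = (u₁'⁻¹ * u₁)⁻¹ * ((u₁'⁻¹ * u₁) * (u₂ * u₂'⁻¹)) * (h * (u₂ * u₂'⁻¹) * h⁻¹)⁻¹ := by
          rw [hfix]
      _ = (u₂ * u₂'⁻¹) * (h * (u₂ * u₂'⁻¹) * h⁻¹)⁻¹ := by group
  have hd1 : (u₁'⁻¹ * u₁)⁻¹ * (h * (u₁'⁻¹ * u₁) * h⁻¹) ∈ V₁ ⊓ V₂ := by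
    refine Subgroup.mem_inf.mpr ⟨V₁.mul_mem (V₁.inv_mem ha) (hc₁ _ ha), ?_⟩
    rw [hd]
    exact V₂.mul_mem hb (V₂.inv_mem (hc₂ _ hb))
  rw [hbot, Subgroup.mem_bot] at hd1
  have ha1 : u₁'⁻¹ * u₁ = 1 := hf₁ _ ha (inv_mul_eq_one.mp hd1).symm
  have hb1 : u₂ * u₂'⁻¹ = 1 := by
    rw [hd1] at hd
    exact hf₂ _ hb (mul_inv_eq_one.mp hd.symm).symm
  have e1 : u₁' = u₁ := inv_mul_eq_one.mp ha1
  have e2 : u₂ = u₂' := mul_inv_eq_one.mp hb1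
  subst e1
  subst e2
  have e3 : ζ = ζ' := mul_left_cancel E
  rw [hζ, hζ'] at e3
  have e4 : e = e' := by
    cases e <;> cases e'
    · rfl
    · exact absurd (by simpa using e3.symm) hz1
    · exact absurd (by simpa using e3) hz1
    · rfl
  subst e4
  rfl

end Count

section Final

variable {G : Type*} [Group G]

/-- The elements of `H` squaring to `1`, as a subgroup. -/
def sqSub (H : Subgroup G)
    (hmul : ∀ a b, a ∈ H → b ∈ H → a * a = 1 → b * b = 1 → (a * b) * (a * b) = 1) :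
    Subgroup G where
  carrier := {g | g ∈ H ∧ g * g = 1}
  one_mem' := ⟨H.one_mem, by simp⟩
  mul_mem' := fun {a b} ha hb => ⟨H.mul_mem ha.1 hb.1, hmul a b ha.1 hb.1 ha.2 hb.2⟩
  inv_mem' := fun {a} ha => ⟨H.inv_mem ha.1, by
    have h1 : a⁻¹ * a⁻¹ = (a * a)⁻¹ := by group
    rw [h1, ha.2, inv_one]⟩

theorem a4_unique_of_common (K : Subgroup G) [Finite K] (hK16 : Nat.card K ≤ 16)
    (z : G) (hzK : z ∈ K) (hz1 : z ≠ 1) (hzc : ∀ g : G, z * g = g * z)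
    (hKey : ∀ v h : G, v * v = 1 → v = (h * v * h⁻¹) * (h * h * v * h⁻¹ * h⁻¹) → v ∈ K)
    (H₁ H₂ : Subgroup G) (L₁ : A4Like H₁) (L₂ : A4Like H₂) (h : G) (hH₁ : h ∈ H₁)
    (hH₂ : h ∈ H₂) (hne : h ≠ 1) (h3 : h * h * h = 1) : H₁ = H₂ := by
  obtain ⟨m₁, -, f₁, d₁, s₁, r₁, ⟨φ₁, φ₁inj, φ₁mem⟩⟩ := L₁
  obtain ⟨m₂, -, f₂, d₂, s₂, r₂, ⟨φ₂, φ₂inj, φ₂mem⟩⟩ := L₂
  have gen : ∀ (H : Subgroup G)
      (m : ∀ a b, a ∈ H → b ∈ H → a * a = 1 → b * b = 1 → (a * b) * (a * b) = 1), h ∈ H →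
      (∀ c a, c ∈ H → a ∈ H → c ≠ 1 → c * c * c = 1 → a * a = 1 → c * a * c⁻¹ = a → a = 1) →
      (∀ c a, c ∈ H → a ∈ H → c ≠ 1 → c * c * c = 1 → a * a = 1 →
        a = (c * a * c⁻¹) * (c * c * a * c⁻¹ * c⁻¹)) →
      (∃ f : {a : alternatingGroup (Fin 4) // a * a = 1} → G, Function.Injective f ∧
        ∀ a, f a ∈ H ∧ f a * f a = 1) →
      sqSub H m ≤ K ∧ (∀ u ∈ sqSub H m, h * u * h⁻¹ ∈ sqSub H m) ∧
        (∀ u ∈ sqSub H m, h * u * h⁻¹ = u → u = 1) ∧ 4 ≤ Nat.card (sqSub H m) := by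
    rintro H m hH f r ⟨φ, φinj, φmem⟩
    have hle : sqSub H m ≤ K := fun v hv => hKey v h hv.2 (r h v hH hv.1 hne h3 hv.2)
    refine ⟨hle, ?_, ?_, ?_⟩
    · intro u hu
      refine ⟨H.mul_mem (H.mul_mem hH hu.1) (H.inv_mem hH), ?_⟩
      calc h * u * h⁻¹ * (h * u * h⁻¹) = h * (u * u) * h⁻¹ := by group
        _ = 1 := by rw [hu.2]; group
    · intro u hu hfix
      exact f h u hH hu.1 hne h3 hu.2 hfix
    · have hfin : Finite (sqSub H m) :=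
        Finite.of_injective (Subgroup.inclusion hle) (Subgroup.inclusion_injective hle)
      rw [← a4_card_sq]
      apply Nat.card_le_card_of_injective (fun a => (⟨φ a, φmem a⟩ : sqSub H m))
      intro a b hab
      exact φinj (congrArg Subtype.val hab)
  obtain ⟨le₁, c₁, fp₁, card₁⟩ := gen H₁ m₁ hH₁ f₁ r₁ ⟨φ₁, φ₁inj, φ₁mem⟩
  obtain ⟨le₂, c₂, fp₂, card₂⟩ := gen H₂ m₂ hH₂ f₂ r₂ ⟨φ₂, φ₂inj, φ₂mem⟩
  have hnb : sqSub H₁ m₁ ⊓ sqSub H₂ m₂ ≠ ⊥ := by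
    intro hbot
    have h1 := card_mul_le_of_fpf K _ _ le₁ le₂ z hzK hz1 hzc h c₁ c₂ fp₁ fp₂ hbot
    have h2 : 4 * (4 * 2) ≤ Nat.card (sqSub H₁ m₁) * (Nat.card (sqSub H₂ m₂) * 2) :=
      Nat.mul_le_mul card₁ (Nat.mul_le_mul_right 2 card₂)
    omega
  obtain ⟨u, hu, hu1⟩ : ∃ u ∈ sqSub H₁ m₁ ⊓ sqSub H₂ m₂, u ≠ 1 := by
    by_contra hno
    push Not at hno
    exact hnb ((Subgroup.eq_bot_iff_forall _).mpr hno)
  obtain ⟨hu₁, hu₂⟩ := Subgroup.mem_inf.mp hu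
  have hsq12 : ∀ x, x ∈ H₁ → x * x = 1 → x ∈ H₂ := by
    intro x hx hx2
    rcases s₁ h u x hH₁ hu₁.1 hx hne h3 hu1 hu₁.2 hx2 with e | e | e | e
    · rw [e]; exact H₂.one_mem
    · rw [e]; exact hu₂.1
    · rw [e]; exact H₂.mul_mem (H₂.mul_mem hH₂ hu₂.1) (H₂.inv_mem hH₂)
    · rw [e]
      exact H₂.mul_mem (H₂.mul_mem (H₂.mul_mem (H₂.mul_mem hH₂ hH₂) hu₂.1) (H₂.inv_mem hH₂))
        (H₂.inv_mem hH₂)
  have hsq21 : ∀ x, x ∈ H₂ → x * x = 1 → x ∈ H₁ := by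
    intro x hx hx2
    rcases s₂ h u x hH₂ hu₂.1 hx hne h3 hu1 hu₂.2 hx2 with e | e | e | e
    · rw [e]; exact H₁.one_mem
    · rw [e]; exact hu₁.1
    · rw [e]; exact H₁.mul_mem (H₁.mul_mem hH₁ hu₁.1) (H₁.inv_mem hH₁)
    · rw [e]
      exact H₁.mul_mem (H₁.mul_mem (H₁.mul_mem (H₁.mul_mem hH₁ hH₁) hu₁.1) (H₁.inv_mem hH₁))
        (H₁.inv_mem hH₁)
  apply le_antisymm
  · intro x hx
    obtain ⟨a, ha, ha2, e⟩ := d₁ h x hH₁ hx hne h3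
    have haH₂ := hsq12 a ha ha2
    rcases e with e | e | e
    · rw [e]; exact haH₂
    · rw [e]; exact H₂.mul_mem haH₂ hH₂
    · rw [e]; exact H₂.mul_mem (H₂.mul_mem haH₂ hH₂) hH₂
  · intro x hx
    obtain ⟨a, ha, ha2, e⟩ := d₂ h x hH₂ hx hne h3
    have haH₁ := hsq21 a ha ha2
    rcases e with e | e | e
    · rw [e]; exact haH₁
    · rw [e]; exact H₁.mul_mem haH₁ hH₁
    · rw [e]; exact H₁.mul_mem (H₁.mul_mem haH₁ hH₁) hH₁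

theorem a4_conj_GL2 (k : ℕ) (hk : 2 ≤ k) (H₁ H₂ : Subgroup (GL (Fin 2) (ZMod (2 ^ k))))
    (φ₁ : H₁ ≃* alternatingGroup (Fin 4)) (φ₂ : H₂ ≃* alternatingGroup (Fin 4)) :
    ∃ g : GL (Fin 2) (ZMod (2 ^ k)), H₂ = H₁.map (MulAut.conj g).toMonoidHom := by
  have hne : NeZero (2 ^ k) := ⟨by positivity⟩
  have hp3 : Fact (Nat.Prime 3) := ⟨Nat.prime_three⟩
  have L₁ := a4Like_of_equiv H₁ φ₁
  have L₂ := a4Like_of_equiv H₂ φ₂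
  obtain ⟨c₁, hc₁H, hc₁1, hc₁3⟩ := L₁.2.1
  obtain ⟨c₂, hc₂H, hc₂1, hc₂3⟩ := L₂.2.1
  have hord : ∀ c : GL (Fin 2) (ZMod (2 ^ k)), c ≠ 1 → c * c * c = 1 →
      Nat.card (Subgroup.zpowers c) = 3 := by
    intro c hc1 hc3
    rw [Nat.card_zpowers]
    exact orderOf_eq_prime (by rw [pow_succ, pow_two]; exact hc3) hc1
  have hsyl : ∀ c : GL (Fin 2) (ZMod (2 ^ k)), c ≠ 1 → c * c * c = 1 →
      ∃ S : Sylow 3 (GL (Fin 2) (ZMod (2 ^ k))),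
        (S : Subgroup (GL (Fin 2) (ZMod (2 ^ k)))) = Subgroup.zpowers c := by
    intro c hc1 hc3
    have hP : IsPGroup 3 (Subgroup.zpowers c) :=
      IsPGroup.of_card (n := 1) (by rw [hord c hc1 hc3, pow_one])
    obtain ⟨S, hS⟩ := hP.exists_le_sylow
    refine ⟨S, (Subgroup.eq_of_le_of_card_ge hS ?_).symm⟩
    rw [hord c hc1 hc3]
    exact card_sylow_three_le k (by omega) S
  obtain ⟨S₁, hS₁⟩ := hsyl c₁ hc₁1 hc₁3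
  obtain ⟨S₂, hS₂⟩ := hsyl c₂ hc₂1 hc₂3
  obtain ⟨g, hg⟩ := MulAction.exists_smul_eq (GL (Fin 2) (ZMod (2 ^ k))) S₁ S₂
  have hmem : g * c₁ * g⁻¹ ∈ Subgroup.zpowers c₂ := by
    rw [← hS₂, ← hg, coe_smul_sylow, hS₁]
    exact conj_mem_map_conj _ g (Subgroup.mem_zpowers c₁)
  refine ⟨g, ?_⟩
  have φ₁' : Nonempty (↥(H₁.map (MulAut.conj g).toMonoidHom) ≃* alternatingGroup (Fin 4)) :=
    ⟨(Subgroup.equivMapOfInjective H₁ (MulAut.conj g).toMonoidHom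
      (MulAut.conj g).injective).symm.trans φ₁⟩
  obtain ⟨φ₁''⟩ := φ₁'
  have L₁' := a4Like_of_equiv _ φ₁''
  obtain ⟨z, hzK, hz1, hzc⟩ := exists_central_tor k hk
  symm
  apply a4_unique_of_common (torSub k hk) (card_torSub_le k hk) z hzK hz1 hzc
    (fun v h hv2 hrel => mem_torSub_of_rel k hk v h hv2 hrel) _ _ L₁' L₂ (g * c₁ * g⁻¹)
  · exact conj_mem_map_conj _ g hc₁H
  · exact (Subgroup.zpowers_le.mpr hc₂H) hmem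
  · intro h
    apply hc₁1
    calc c₁ = g⁻¹ * (g * c₁ * g⁻¹) * g := by group
      _ = 1 := by rw [h]; group
  · calc g * c₁ * g⁻¹ * (g * c₁ * g⁻¹) * (g * c₁ * g⁻¹) = g * (c₁ * c₁ * c₁) * g⁻¹ := by group
      _ = 1 := by rw [hc₁3]; group

end Final

end Cfsg.Agent.Lib.Helper18
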