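import Mathlib
import Cfsg.Agent.Lib.Helper18.Basic
import Cfsg.Agent.Lib.Helper18.Large
import Cfsg.Agent.Lib.Helper18.Subnormal

set_option autoImplicit false

namespace Cfsg.Agent.Lib.Helper18

variable {G : Type*} [Group G] {p : ℕ}

/-- Abstract data for the asymmetric case: a `p`-subgroup `D` centralizing `Y ≤ D`, which is
"Sylow in `C(Y)`" in the weak sense `syl`, with `N(D) ≤ N(Y)` and `Y` asymmetric. -/
structure AsymData (p : ℕ) (D Y : Subgroup G) : Prop where
  pgroup : IsPGroup p D
  le : Y ≤ D
  cent : D ≤ Subgroup.centralizer (Y : Set G)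
  norm : Subgroup.normalizer (D : Set G) ≤ Subgroup.normalizer (Y : Set G)
  syl : ∀ P : Subgroup G, IsPGroup p P → P ≤ Subgroup.centralizer (Y : Set G) →
    P ≤ Subgroup.normalizer (D : Set G) → P ≤ D
  asym : ∀ g : G,
    ⁅Y, Y.map (MulAut.conj g).toMonoidHom⁆ ≤ Y ⊓ Y.map (MulAut.conj g).toMonoidHom →
    ⁅Y, Y.map (MulAut.conj g).toMonoidHom⁆ = ⊥

namespace AsymData

variable {D Y : Subgroup G}

theorem cent_conj (h : AsymData p D Y) (g : G) :
    D.map (MulAut.conj g).toMonoidHom ≤
      Subgroup.centralizer ((Y.map (MulAut.conj g).toMonoidHom : Subgroup G) : Set G) := by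
  rw [centralizer_map_conj]
  exact Subgroup.map_mono h.cent

theorem norm_conj (h : AsymData p D Y) (g : G) :
    Subgroup.normalizer ((D.map (MulAut.conj g).toMonoidHom : Subgroup G) : Set G) ≤
      Subgroup.normalizer ((Y.map (MulAut.conj g).toMonoidHom : Subgroup G) : Set G) := by
  rw [normalizer_map_conj, normalizer_map_conj]
  exact Subgroup.map_mono h.norm

theorem syl_conj (h : AsymData p D Y) (g : G) (P : Subgroup G) (hP : IsPGroup p P)
    (hc : P ≤ Subgroup.centralizer ((Y.map (MulAut.conj g).toMonoidHom : Subgroup G) : Set G))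
    (hn : P ≤ Subgroup.normalizer ((D.map (MulAut.conj g).toMonoidHom : Subgroup G) : Set G)) :
    P ≤ D.map (MulAut.conj g).toMonoidHom := by
  have h1 : P.map (MulAut.conj g⁻¹).toMonoidHom ≤ D := by
    apply h.syl _ (isPGroup_map_conj hP _)
    · apply (map_conj_le_iff P _ g⁻¹).mpr
      rw [inv_inv, ← centralizer_map_conj]
      exact hc
    · apply (map_conj_le_iff P _ g⁻¹).mpr
      rw [inv_inv, ← normalizer_map_conj]
      exact hn
  have h2 := (map_conj_le_iff P D g⁻¹).mp h1
  rwa [inv_inv] at h2

theorem asym_conj (h : AsymData p D Y) (a b : G)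
    (hle : ⁅Y.map (MulAut.conj a).toMonoidHom, Y.map (MulAut.conj b).toMonoidHom⁆ ≤
      Y.map (MulAut.conj a).toMonoidHom ⊓ Y.map (MulAut.conj b).toMonoidHom) :
    ⁅Y.map (MulAut.conj a).toMonoidHom, Y.map (MulAut.conj b).toMonoidHom⁆ = ⊥ := by
  have e : Y.map (MulAut.conj b).toMonoidHom =
      (Y.map (MulAut.conj (a⁻¹ * b)).toMonoidHom).map (MulAut.conj a).toMonoidHom := by
    rw [← map_conj_mul, mul_inv_cancel_left]
  rw [e] at hle ⊢
  rw [← Subgroup.map_commutator] at hle ⊢
  have h1 : ⁅Y, Y.map (MulAut.conj (a⁻¹ * b)).toMonoidHom⁆ ≤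
      Y ⊓ Y.map (MulAut.conj (a⁻¹ * b)).toMonoidHom := by
    apply le_inf
    · exact (Subgroup.map_le_map_iff_of_injective (MulAut.conj a).injective).mp
        (hle.trans inf_le_left)
    · exact (Subgroup.map_le_map_iff_of_injective (MulAut.conj a).injective).mp
        (hle.trans inf_le_right)
  rw [h.asym _ h1, Subgroup.map_bot]

/-- The basic step: along adjacent vertices, `Y^a ≤ D^b` and `Y^b ≤ D^a`. -/
theorem good_step (h : AsymData p D Y) {a b a' b' : G}
    (ha : D.map (MulAut.conj a').toMonoidHom ≤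
      Subgroup.normalizer ((D.map (MulAut.conj a).toMonoidHom : Subgroup G) : Set G))
    (hb : D.map (MulAut.conj b').toMonoidHom ≤
      Subgroup.normalizer ((D.map (MulAut.conj b).toMonoidHom : Subgroup G) : Set G))
    (h1 : Y.map (MulAut.conj a).toMonoidHom ≤ D.map (MulAut.conj b').toMonoidHom)
    (h2 : Y.map (MulAut.conj b).toMonoidHom ≤ D.map (MulAut.conj a').toMonoidHom) :
    Y.map (MulAut.conj a).toMonoidHom ≤ D.map (MulAut.conj b).toMonoidHom ∧
      Y.map (MulAut.conj b).toMonoidHom ≤ D.map (MulAut.conj a).toMonoidHom := by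
  have n1 : Y.map (MulAut.conj a).toMonoidHom ≤
      Subgroup.normalizer ((Y.map (MulAut.conj b).toMonoidHom : Subgroup G) : Set G) :=
    h1.trans (hb.trans (h.norm_conj b))
  have n2 : Y.map (MulAut.conj b).toMonoidHom ≤
      Subgroup.normalizer ((Y.map (MulAut.conj a).toMonoidHom : Subgroup G) : Set G) :=
    h2.trans (ha.trans (h.norm_conj a))
  have hc : ⁅Y.map (MulAut.conj a).toMonoidHom, Y.map (MulAut.conj b).toMonoidHom⁆ = ⊥ :=
    h.asym_conj a b (le_inf (commutator_le_of_le_normalizer' n2)
      (commutator_le_of_le_normalizer n1))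
  have c1 : Y.map (MulAut.conj a).toMonoidHom ≤
      Subgroup.centralizer ((Y.map (MulAut.conj b).toMonoidHom : Subgroup G) : Set G) :=
    Subgroup.commutator_eq_bot_iff_le_centralizer.mp hc
  have c2 : Y.map (MulAut.conj b).toMonoidHom ≤
      Subgroup.centralizer ((Y.map (MulAut.conj a).toMonoidHom : Subgroup G) : Set G) := by
    rw [Subgroup.commutator_comm] at hc
    exact Subgroup.commutator_eq_bot_iff_le_centralizer.mp hc
  have pY : ∀ g : G, IsPGroup p (Y.map (MulAut.conj g).toMonoidHom) :=
    fun g => isPGroup_map_conj (h.pgroup.to_le h.le) g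
  exact ⟨h.syl_conj b _ (pY a) c1 (h1.trans hb), h.syl_conj a _ (pY b) c2 (h2.trans ha)⟩

/-- Along any chain of mutually normalizing conjugates of `D` starting at `D`, all the
conjugates of `Y` lie in `D`. -/
theorem good_list (h : AsymData p D Y) : ∀ (n : ℕ) (l : List G), l.length = n →
    (∀ g ∈ l, D.map (MulAut.conj g).toMonoidHom ≤ Subgroup.normalizer (D : Set G) ∧
      D ≤ Subgroup.normalizer ((D.map (MulAut.conj g).toMonoidHom : Subgroup G) : Set G)) →
    Y ≤ D.map (MulAut.conj l.prod).toMonoidHom ∧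
      Y.map (MulAut.conj l.prod).toMonoidHom ≤ D := by
  intro n
  induction n with
  | zero =>
    intro l hl _
    have hnil : l = [] := List.length_eq_zero_iff.mp hl
    subst hnil
    rw [List.prod_nil, map_conj_one, map_conj_one]
    exact ⟨h.le, h.le⟩
  | succ n ih =>
    intro l hl hadj
    cases l with
    | nil => simp at hl
    | cons g t =>
      obtain ⟨i, z, hiz⟩ : ∃ i z, g :: t = i ++ [z] := by
        rcases List.eq_nil_or_concat (g :: t) with h0 | ⟨i, z, h0⟩
        · exact absurd h0 (List.cons_ne_nil _ _)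
        · exact ⟨i, z, by rw [h0, List.concat_eq_append]⟩
      have ht : t.length = n := by simpa using hl
      have hi : i.length = n := by
        have h3 := congrArg List.length hiz
        simp only [List.length_cons, List.length_append, List.length_nil] at h3
        omega
      have hadj_t : ∀ x ∈ t, D.map (MulAut.conj x).toMonoidHom ≤
          Subgroup.normalizer (D : Set G) ∧
          D ≤ Subgroup.normalizer ((D.map (MulAut.conj x).toMonoidHom : Subgroup G) : Set G) :=
        fun x hx => hadj x (List.mem_cons_of_mem _ hx)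
      have hadj_i : ∀ x ∈ i, D.map (MulAut.conj x).toMonoidHom ≤
          Subgroup.normalizer (D : Set G) ∧
          D ≤ Subgroup.normalizer ((D.map (MulAut.conj x).toMonoidHom : Subgroup G) : Set G) :=
        fun x hx => hadj x (by rw [hiz]; exact List.mem_append_left _ hx)
      have hg := hadj g List.mem_cons_self
      have hz := hadj z (by rw [hiz]; simp)
      obtain ⟨-, it2⟩ := ih t ht hadj_t
      obtain ⟨ii1, -⟩ := ih i hi hadj_i
      have e1 : (g :: t).prod = g * t.prod := List.prod_cons
      have e2 : (g :: t).prod = i.prod * z := by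
        rw [hiz, List.prod_append, List.prod_singleton]
      have key := h.good_step (a := 1) (b := (g :: t).prod) (a' := g) (b' := i.prod)
        (by rw [map_conj_one]; exact hg.1)
        (by
          rw [e2, map_conj_mul, normalizer_map_conj]
          exact Subgroup.map_mono hz.2)
        (by rw [map_conj_one]; exact ii1)
        (by
          rw [e1, map_conj_mul]
          exact Subgroup.map_mono it2)
      rw [map_conj_one, map_conj_one] at key
      exact key

/-- The asymmetric weak-closure criterion: if every nontrivial `p`-subgroup normalized by `M`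
has its normalizer inside `N(Y)`, then a conjugate of `D` which normalizes `D` and is
normalized by `D` equals `D`. -/
theorem core [Finite G] (h : AsymData p D Y) (M : Subgroup G)
    (hMD : M ≤ Subgroup.normalizer (D : Set G))
    (hmax : ∀ U : Subgroup G, U ≠ ⊥ → IsPGroup p U → M ≤ Subgroup.normalizer (U : Set G) →
      Subgroup.normalizer (U : Set G) ≤ Subgroup.normalizer (Y : Set G))
    (g : G) (h1 : D.map (MulAut.conj g).toMonoidHom ≤ Subgroup.normalizer (D : Set G))
    (h2 : D ≤ Subgroup.normalizer ((D.map (MulAut.conj g).toMonoidHom : Subgroup G) : Set G)) :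
    D.map (MulAut.conj g).toMonoidHom = D := by
  by_cases hY : Y = ⊥
  · have hle : D.map (MulAut.conj g).toMonoidHom ≤ D := by
      apply h.syl _ (isPGroup_map_conj h.pgroup g) _ h1
      intro x _
      rw [Subgroup.mem_centralizer_iff]
      intro y hy
      rw [hY] at hy
      have hy1 : y = 1 := Subgroup.mem_bot.mp hy
      rw [hy1, one_mul, mul_one]
    exact Subgroup.eq_of_le_of_card_ge hle (by rw [card_map_conj])
  obtain ⟨C, hC⟩ : ∃ C : Set G, C = {x | ∃ l : List G,
      (∀ y ∈ l, D.map (MulAut.conj y).toMonoidHom ≤ Subgroup.normalizer (D : Set G) ∧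
        D ≤ Subgroup.normalizer ((D.map (MulAut.conj y).toMonoidHom : Subgroup G) : Set G)) ∧
      l.prod = x} := ⟨_, rfl⟩
  obtain ⟨U, hU⟩ : ∃ U : Subgroup G, U = ⨆ x : C, Y.map (MulAut.conj (x : G)).toMonoidHom :=
    ⟨_, rfl⟩
  have hUD : U ≤ D := by
    rw [hU]
    apply iSup_le
    rintro ⟨x, hx⟩
    rw [hC] at hx
    obtain ⟨l, hl, rfl⟩ := hx
    exact (h.good_list _ l rfl hl).2
  have h1C : (1 : G) ∈ C := by
    rw [hC]
    exact ⟨[], by simp, List.prod_nil⟩
  have hYU : Y ≤ U := by
    rw [hU]
    have h3 := le_iSup (fun x : C => Y.map (MulAut.conj (x : G)).toMonoidHom) ⟨1, h1C⟩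
    rwa [map_conj_one] at h3
  have hUne : U ≠ ⊥ := fun e => hY (le_bot_iff.mp (e ▸ hYU))
  have hstep : ∀ k : G, (D.map (MulAut.conj k).toMonoidHom ≤ Subgroup.normalizer (D : Set G) ∧
      D ≤ Subgroup.normalizer ((D.map (MulAut.conj k).toMonoidHom : Subgroup G) : Set G)) →
      U.map (MulAut.conj k).toMonoidHom ≤ U := by
    intro k hk
    rw [hU, Subgroup.map_iSup]
    apply iSup_le
    rintro ⟨x, hx⟩
    rw [← map_conj_mul]
    have hkx : k * x ∈ C := by
      rw [hC] at hx ⊢
      obtain ⟨l, hl, rfl⟩ := hx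
      refine ⟨k :: l, ?_, List.prod_cons⟩
      intro y hy
      rcases List.mem_cons.mp hy with rfl | hy
      · exact hk
      · exact hl y hy
    exact le_iSup (fun x : C => Y.map (MulAut.conj (x : G)).toMonoidHom) ⟨k * x, hkx⟩
  have hM : M ≤ Subgroup.normalizer (U : Set G) := by
    apply le_normalizer_of_forall_map_conj_le
    intro m hm
    apply hstep m
    rw [map_conj_eq_of_mem_normalizer D (hMD hm)]
    exact ⟨Subgroup.le_normalizer, Subgroup.le_normalizer⟩
  have hg : g ∈ Subgroup.normalizer (U : Set G) := by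
    apply mem_normalizer_of_map_conj_eq
    exact Subgroup.eq_of_le_of_card_ge (hstep g ⟨h1, h2⟩) (by rw [card_map_conj])
  have hgY : g ∈ Subgroup.normalizer (Y : Set G) := hmax U hUne (h.pgroup.to_le hUD) hM hg
  have hYg : Y.map (MulAut.conj g).toMonoidHom = Y := map_conj_eq_of_mem_normalizer Y hgY
  have hle : D.map (MulAut.conj g).toMonoidHom ≤ D := by
    apply h.syl _ (isPGroup_map_conj h.pgroup g) _ h1
    have h3 := h.cent_conj g
    rwa [hYg] at h3
  exact Subgroup.eq_of_le_of_card_ge hle (by rw [card_map_conj])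

end AsymData

end Cfsg.Agent.Lib.Helper18
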