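import Mathlib
import Cfsg.Agent.Lib.Helper18.Basic
import Cfsg.Agent.Lib.Helper18.PGroupFrat
import Cfsg.Agent.Lib.Helper1.Coprime

/-!
Burnside: a `p'`-element normalising a `p`-group `A` and acting trivially on `A / [A, A]`
centralises `A`.
-/

set_option autoImplicit false
open Cfsg

namespace Cfsg.Agent.Lib.Helper18

universe u

variable {G : Type u} [Group G] {p : ℕ}

theorem centralizes_of_commutator_le [Finite G] [Fact p.Prime] {A : Subgroup G}
    (hA : IsPGroup p A) {x : G} (hxA : x ∈ Subgroup.normalizer (A : Set G))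
    (hx : (orderOf x).Coprime p) (h : ⁅A, Subgroup.zpowers x⁆ ≤ ⁅A, A⁆) :
    x ∈ Subgroup.centralizer (A : Set G) := by
  have hAK : Subgroup.zpowers x ≤ Subgroup.normalizer (A : Set G) :=
    (Subgroup.zpowers_le).mpr hxA
  have hcop : (Nat.card (Subgroup.zpowers x)).Coprime (Nat.card A) := by
    obtain ⟨k, hk⟩ := IsPGroup.iff_card.mp hA
    rw [Nat.card_zpowers, hk]
    exact Nat.Coprime.pow_right k hx
  have hnil : Group.IsNilpotent A := hA.isNilpotent
  have hsup := Cfsg.Agent.Lib.Helper1.coprime_commutator_sup (Subgroup.zpowers x) A hAK hcop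
    (Or.inr inferInstance)
  have hΦ : ⁅A, A⁆ ≤ (frattini ↥A).map A.subtype := commutator_le_map_frattini hA
  have h1 : (frattini ↥A).map A.subtype ⊔
      (A ⊓ Subgroup.centralizer ((Subgroup.zpowers x : Subgroup G) : Set G)) = A := by
    apply le_antisymm (sup_le (Subgroup.map_subtype_le _) inf_le_left)
    conv_lhs => rw [← hsup]
    exact sup_le_sup_right (h.trans hΦ) _
  have h2 : (A ⊓ Subgroup.centralizer ((Subgroup.zpowers x : Subgroup G) : Set G)).subgroupOf A ⊔
      frattini ↥A = ⊤ := by
    apply Subgroup.map_injective A.subtype_injective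
    rw [Subgroup.map_sup, Subgroup.map_subgroupOf_eq_of_le inf_le_left, sup_comm, h1,
      ← MonoidHom.range_eq_map, Subgroup.range_subtype]
  have h3 := frattini_nongenerating h2
  rw [Subgroup.mem_centralizer_iff]
  intro a ha
  have h4 : (⟨a, ha⟩ : A) ∈
      (A ⊓ Subgroup.centralizer ((Subgroup.zpowers x : Subgroup G) : Set G)).subgroupOf A := by
    rw [h3]; exact Subgroup.mem_top _
  rw [Subgroup.mem_subgroupOf] at h4
  exact ((Subgroup.mem_centralizer_iff.mp (Subgroup.mem_inf.mp h4).2) x
    (Subgroup.mem_zpowers x)).symm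

end Cfsg.Agent.Lib.Helper18
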