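import Cfsg.Agent.Lib.Helper18.CharP

set_option autoImplicit false

namespace Cfsg.Agent.Lib.Helper18

open Cfsg

variable {G : Type*} [Group G]

theorem map_subtype_comap_of_le {M N : Subgroup G} (h : N ≤ M) :
    (N.comap M.subtype).map M.subtype = N := by
  have := Subgroup.map_subgroupOf_eq_of_le h
  exact this

/-- `O_p` of a subgroup of a subgroup, viewed in the big group. -/
theorem pCoreOf_map_subtype (p : ℕ) (M : Subgroup G) (K : Subgroup ↥M) :
    pCoreOf p (K.map M.subtype) = (pCoreOf p K).map M.subtype := by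
  apply le_antisymm
  · have hle : pCoreOf p (K.map M.subtype) ≤ M :=
      (pCoreOf_le p _).trans (Subgroup.map_subtype_le K)
    rw [← map_subtype_comap_of_le hle]
    apply Subgroup.map_mono
    apply le_pCoreOf
    · intro x hx
      have h1 : (x : G) ∈ K.map M.subtype := pCoreOf_le p _ hx
      obtain ⟨y, hy, e⟩ := h1
      have : y = x := Subtype.ext e
      rw [← this]; exact hy
    · intro k hk
      have h1 : (k : G) ∈ Subgroup.normalizer (pCoreOf p (K.map M.subtype) : Set G) :=
        le_normalizer_pCoreOf p _ ⟨k, hk, rfl⟩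
      exact Subgroup.le_normalizer_comap M.subtype h1
    · exact (pCoreOf_isPGroup p _).comap_of_injective M.subtype M.subtype_injective
  · apply le_pCoreOf
    · exact Subgroup.map_mono (pCoreOf_le p K)
    · refine le_trans ?_ (Subgroup.le_normalizer_map M.subtype)
      exact Subgroup.map_mono (le_normalizer_pCoreOf p K)
    · exact (pCoreOf_isPGroup p K).map _

/-- `CharP` for a subgroup of a subgroup can be tested in the big group. -/
theorem charP_map_subtype_iff (p : ℕ) (M : Subgroup G) (K : Subgroup ↥M) :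
    Cfsg.Agent.Lib.Helper18.CharP p (K.map M.subtype) ↔ Cfsg.Agent.Lib.Helper18.CharP p K := by
  unfold Cfsg.Agent.Lib.Helper18.CharP
  rw [pCoreOf_map_subtype]
  constructor
  · intro h x hx
    obtain ⟨hxK, hxC⟩ := Subgroup.mem_inf.mp hx
    have h1 : (x : G) ∈ K.map M.subtype ⊓
        Subgroup.centralizer (((pCoreOf p K).map M.subtype : Subgroup G) : Set G) := by
      refine Subgroup.mem_inf.mpr ⟨⟨x, hxK, rfl⟩, ?_⟩
      rw [Subgroup.mem_centralizer_iff]
      rintro _ ⟨y, hy, rfl⟩
      have := Subgroup.mem_centralizer_iff.mp hxC y hy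
      exact congrArg Subtype.val this
    obtain ⟨y, hy, e⟩ := h h1
    have : y = x := Subtype.ext e
    rw [← this]; exact hy
  · rintro h _ hx
    obtain ⟨⟨x, hxK, rfl⟩, hxC⟩ := Subgroup.mem_inf.mp hx
    refine ⟨x, h (Subgroup.mem_inf.mpr ⟨hxK, ?_⟩), rfl⟩
    rw [Subgroup.mem_centralizer_iff]
    intro y hy
    apply Subtype.ext
    exact Subgroup.mem_centralizer_iff.mp hxC (y : G) ⟨y, hy, rfl⟩

/-- The normaliser inside a subgroup, viewed in the big group. -/
theorem normalizer_map_subtype (M : Subgroup G) (R : Subgroup ↥M) :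
    (Subgroup.normalizer (R : Set ↥M)).map M.subtype =
      M ⊓ Subgroup.normalizer ((R.map M.subtype : Subgroup G) : Set G) := by
  have h1 : R = (R.map M.subtype).subgroupOf M :=
    (Subgroup.comap_map_eq_self_of_injective M.subtype_injective R).symm
  have h2 := Subgroup.subgroupOf_normalizer_eq (Subgroup.map_subtype_le R)
  conv_lhs => rw [h1, ← h2]
  rw [Subgroup.subgroupOf_map_subtype, inf_comm]

end Cfsg.Agent.Lib.Helper18
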