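import Cfsg.Agent.Lib.Helper18.FixSum
import Cfsg.Agent.Lib.Helper18.Basic

set_option autoImplicit false

namespace Cfsg.Agent.Lib.Helper18

variable {G : Type*} [Group G]

/-- Conjugation by an element of the normalizer of `A`, as an endomorphism of `Additive A`. -/
def conjEnd (A : Subgroup G) :
    ↥(Subgroup.normalizer (A : Set G)) →* AddMonoid.End (Additive ↥A) where
  toFun u := AddMonoidHom.mk'
    (fun m => Additive.ofMul (⟨(u : G) * ((Additive.toMul m : ↥A) : G) * (u : G)⁻¹,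
      (Subgroup.mem_normalizer_iff.mp u.2 _).mp (Additive.toMul m).2⟩ : ↥A))
    (by
      intro a b
      apply Additive.toMul.injective
      apply Subtype.ext
      simp [mul_assoc])
  map_one' := by
    apply AddMonoidHom.ext
    intro m
    apply Additive.toMul.injective
    apply Subtype.ext
    show ((1 : ↥(Subgroup.normalizer (A : Set G))) : G) * ((Additive.toMul m : ↥A) : G) *
      ((1 : ↥(Subgroup.normalizer (A : Set G))) : G)⁻¹ = ((Additive.toMul m : ↥A) : G)
    simp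
  map_mul' u v := by
    apply AddMonoidHom.ext
    intro m
    apply Additive.toMul.injective
    apply Subtype.ext
    show ((u * v : ↥(Subgroup.normalizer (A : Set G))) : G) * ((Additive.toMul m : ↥A) : G) *
      ((u * v : ↥(Subgroup.normalizer (A : Set G))) : G)⁻¹ =
      (u : G) * ((v : G) * ((Additive.toMul m : ↥A) : G) * (v : G)⁻¹) * (u : G)⁻¹
    simp [mul_assoc]

theorem conjEnd_apply (A : Subgroup G) (u : ↥(Subgroup.normalizer (A : Set G)))
    (m : Additive ↥A) :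
    ((Additive.toMul (conjEnd A u m) : ↥A) : G) =
      (u : G) * ((Additive.toMul m : ↥A) : G) * (u : G)⁻¹ := rfl

theorem mem_centralizer_singleton_iff' (u a : G) :
    a ∈ Subgroup.centralizer ({u} : Set G) ↔ u * a * u⁻¹ = a := by
  rw [Subgroup.mem_centralizer_iff]
  constructor
  · intro h
    rw [h u rfl]; group
  · intro h v hv
    rw [Set.mem_singleton_iff] at hv
    subst hv
    calc v * a = v * a * v⁻¹ * v := by group
      _ = a * v := by rw [h]

theorem conj_fix_main [Finite G] {p : ℕ} [hp : Fact p.Prime] (A : Subgroup G)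
    (hcomm : ∀ a ∈ A, ∀ b ∈ A, a * b = b * a) (hcop : (Nat.card A).Coprime p)
    (x z : G) (hx : x ∈ Subgroup.normalizer (A : Set G))
    (hz : z ∈ Subgroup.normalizer (A : Set G))
    (hxz : x * z = z * x) (hxp : x ^ p = 1) (hzp : z ^ p = 1)
    (hfix : ∀ a ∈ A, z * a * z⁻¹ = a → a = 1) :
    (A ≠ ⊥ → ∃ i < p, A ⊓ Subgroup.centralizer ({x * z ^ i} : Set G) ≠ ⊥) ∧
    ∏ i : Fin p, Nat.card ↥(A ⊓ Subgroup.centralizer ({x * z ^ (i : ℕ)} : Set G)) ≤
      Nat.card A := by
  let _ : CommGroup ↥A := { (inferInstance : Group ↥A) with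
    mul_comm := fun a b => Subtype.ext (hcomm a a.2 b b.2) }
  obtain ⟨σ, hσdef⟩ : ∃ σ : AddMonoid.End (Additive ↥A), σ = conjEnd A ⟨x, hx⟩ := ⟨_, rfl⟩
  obtain ⟨τ, hτdef⟩ : ∃ τ : AddMonoid.End (Additive ↥A), τ = conjEnd A ⟨z, hz⟩ := ⟨_, rfl⟩
  have hc : Commute σ τ := by
    have h0 : Commute (⟨x, hx⟩ : ↥(Subgroup.normalizer (A : Set G))) ⟨z, hz⟩ :=
      Subtype.ext hxz
    rw [hσdef, hτdef]
    exact h0.map (conjEnd A)
  have hσ : σ ^ p = 1 := by
    rw [hσdef, ← map_pow]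
    have h0 : (⟨x, hx⟩ : ↥(Subgroup.normalizer (A : Set G))) ^ p = 1 :=
      Subtype.ext (by simpa using hxp)
    rw [h0, map_one]
  have hτ : τ ^ p = 1 := by
    rw [hτdef, ← map_pow]
    have h0 : (⟨z, hz⟩ : ↥(Subgroup.normalizer (A : Set G))) ^ p = 1 :=
      Subtype.ext (by simpa using hzp)
    rw [h0, map_one]
  have hfix' : ∀ m, τ m = m → m = 0 := by
    intro m hm
    have h1 : z * ((Additive.toMul m : ↥A) : G) * z⁻¹ = ((Additive.toMul m : ↥A) : G) := by
      rw [hτdef] at hm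
      exact congrArg (fun m' => ((Additive.toMul m' : ↥A) : G)) hm
    have h2 := hfix _ (Additive.toMul m).2 h1
    apply Additive.toMul.injective
    apply Subtype.ext
    exact h2
  have htor : ∀ m : Additive ↥A, p • m = 0 → m = 0 := by
    intro m hm
    have h1 : (Additive.toMul m : ↥A) ^ p = 1 := by
      have := congrArg Additive.toMul hm
      simpa using this
    have h2 : orderOf (Additive.toMul m : ↥A) ∣ p := orderOf_dvd_of_pow_eq_one h1
    have h3 : orderOf (Additive.toMul m : ↥A) ∣ Nat.card ↥A := orderOf_dvd_natCard _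
    have h4 : orderOf (Additive.toMul m : ↥A) = 1 := Nat.eq_one_of_dvd_coprimes hcop h3 h2
    exact Additive.toMul.injective (orderOf_eq_one_iff.mp h4)
  have hρ : ∀ (i : ℕ) (m : Additive ↥A), (σ * τ ^ i) m = m ↔
      (x * z ^ i) * ((Additive.toMul m : ↥A) : G) * (x * z ^ i)⁻¹ =
        ((Additive.toMul m : ↥A) : G) := by
    intro i m
    have e : σ * τ ^ i = conjEnd A (⟨x, hx⟩ * ⟨z, hz⟩ ^ i) := by
      rw [map_mul, map_pow, hσdef, hτdef]
    rw [e]
    constructor
    · intro h; exact congrArg (fun m' => ((Additive.toMul m' : ↥A) : G)) h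
    · intro h
      apply Additive.toMul.injective
      apply Subtype.ext
      exact h
  constructor
  · intro hA
    have hne : ∃ m : Additive ↥A, m ≠ 0 := by
      obtain ⟨a, ha1⟩ := (Subgroup.ne_bot_iff_exists_ne_one).mp hA
      exact ⟨Additive.ofMul a, fun h => ha1 (Additive.ofMul.injective h)⟩
    obtain ⟨i, hi, m, hm0, hm⟩ := exists_fix_of_commute hp.out σ τ hc hσ hτ hfix' htor hne
    refine ⟨i, hi, ?_⟩
    intro hbot
    apply hm0
    have hmem : ((Additive.toMul m : ↥A) : G) ∈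
        A ⊓ Subgroup.centralizer ({x * z ^ i} : Set G) :=
      ⟨(Additive.toMul m).2, (mem_centralizer_singleton_iff' _ _).mpr ((hρ i m).mp hm)⟩
    rw [hbot, Subgroup.mem_bot] at hmem
    apply Additive.toMul.injective
    apply Subtype.ext
    exact hmem
  · have h1 := prod_card_fix_le hp.out σ τ hc hτ hfix' htor
    have h2 : ∀ i : Fin p, Nat.card ↥(A ⊓ Subgroup.centralizer ({x * z ^ (i : ℕ)} : Set G)) =
        Nat.card {m : Additive ↥A // (σ * τ ^ (i : ℕ)) m = m} := by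
      intro i
      apply Nat.card_congr
      exact
        { toFun := fun a => ⟨Additive.ofMul ⟨a.1, a.2.1⟩,
            (hρ i _).mpr ((mem_centralizer_singleton_iff' _ _).mp a.2.2)⟩
          invFun := fun m => ⟨((Additive.toMul m.1 : ↥A) : G), ⟨(Additive.toMul m.1).2,
            (mem_centralizer_singleton_iff' _ _).mpr ((hρ i _).mp m.2)⟩⟩
          left_inv := fun a => rfl
          right_inv := fun m => rfl }
    rw [Finset.prod_congr rfl (fun i _ => h2 i)]
    exact h1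

theorem eq_one_of_pow_eq_one_of_coprime [Finite G] {p : ℕ} {A : Subgroup G}
    (hcop : (Nat.card A).Coprime p) {a : G} (ha : a ∈ A) (h : a ^ p = 1) : a = 1 := by
  have h2 : orderOf a ∣ p := orderOf_dvd_of_pow_eq_one h
  have h3 : orderOf a ∣ Nat.card ↥A := Subgroup.orderOf_dvd_natCard A ha
  exact orderOf_eq_one_iff.mp (Nat.eq_one_of_dvd_coprimes hcop h3 h2)

/-- An abelian `p'`-group `A` on which an element `z` of order `p` acts nontrivially has a
nontrivial subgroup on which `z` acts without fixed points, invariant under every subgroup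
`E ≤ N(A)` centralizing `z`. -/
theorem exists_fpf_sub [Finite G] {p : ℕ} [hp : Fact p.Prime] (A E : Subgroup G)
    (hcomm : ∀ a ∈ A, ∀ b ∈ A, a * b = b * a) (hcop : (Nat.card A).Coprime p)
    (z : G) (hz : z ∈ Subgroup.normalizer (A : Set G)) (hzp : z ^ p = 1)
    (hnc : ∃ a ∈ A, z * a * z⁻¹ ≠ a)
    (hEA : E ≤ Subgroup.normalizer (A : Set G)) (hEz : ∀ e ∈ E, e * z = z * e) :
    ∃ A₁ : Subgroup G, A₁ ≤ A ∧ A₁ ≠ ⊥ ∧ E ≤ Subgroup.normalizer (A₁ : Set G) ∧
      ∀ a ∈ A₁, z * a * z⁻¹ = a → a = 1 := by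
  let _ : CommGroup ↥A := { (inferInstance : Group ↥A) with
    mul_comm := fun a b => Subtype.ext (hcomm a a.2 b b.2) }
  obtain ⟨τ, hτdef⟩ : ∃ τ : AddMonoid.End (Additive ↥A), τ = conjEnd A ⟨z, hz⟩ := ⟨_, rfl⟩
  have hτ : τ ^ p = 1 := by
    rw [hτdef, ← map_pow]
    have h0 : (⟨z, hz⟩ : ↥(Subgroup.normalizer (A : Set G))) ^ p = 1 :=
      Subtype.ext (by simpa using hzp)
    rw [h0, map_one]
  obtain ⟨N, hN⟩ : ∃ N : AddMonoid.End (Additive ↥A), N = ∑ k ∈ Finset.range p, τ ^ k :=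
    ⟨_, rfl⟩
  obtain ⟨A₁, hA₁⟩ : ∃ A₁ : Subgroup G, ∀ a : G, a ∈ A₁ ↔
      ∃ ha : a ∈ A, N (Additive.ofMul (⟨a, ha⟩ : ↥A)) = 0 := by
    refine ⟨{ carrier := {a | ∃ ha : a ∈ A, N (Additive.ofMul (⟨a, ha⟩ : ↥A)) = 0}
              one_mem' := ⟨A.one_mem, map_zero N⟩
              mul_mem' := ?_
              inv_mem' := ?_ }, fun a => Iff.rfl⟩
    · rintro a b ⟨ha, h1⟩ ⟨hb, h2⟩
      refine ⟨A.mul_mem ha hb, ?_⟩
      have e : Additive.ofMul (⟨a * b, A.mul_mem ha hb⟩ : ↥A) =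
          Additive.ofMul (⟨a, ha⟩ : ↥A) + Additive.ofMul (⟨b, hb⟩ : ↥A) := rfl
      rw [e, map_add, h1, h2, add_zero]
    · rintro a ⟨ha, h1⟩
      refine ⟨A.inv_mem ha, ?_⟩
      have e : Additive.ofMul (⟨a⁻¹, A.inv_mem ha⟩ : ↥A) =
          - Additive.ofMul (⟨a, ha⟩ : ↥A) := rfl
      rw [e, map_neg, h1, neg_zero]
  have key : ∀ e ∈ E, ∀ a ∈ A₁, e * a * e⁻¹ ∈ A₁ := by
    intro e he a ha
    rw [hA₁] at ha ⊢
    obtain ⟨haA, h1⟩ := ha
    have heN : e ∈ Subgroup.normalizer (A : Set G) := hEA he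
    refine ⟨(Subgroup.mem_normalizer_iff.mp heN a).mp haA, ?_⟩
    have hc0 : Commute (⟨e, heN⟩ : ↥(Subgroup.normalizer (A : Set G))) ⟨z, hz⟩ :=
      Subtype.ext (hEz e he)
    have hc1 : Commute (conjEnd A ⟨e, heN⟩) τ := by
      rw [hτdef]; exact hc0.map (conjEnd A)
    have hc2 : Commute (conjEnd A ⟨e, heN⟩) N := by
      rw [hN]
      exact Commute.sum_right _ _ _ (fun k _ => hc1.pow_right k)
    have e1 : Additive.ofMul (⟨e * a * e⁻¹, (Subgroup.mem_normalizer_iff.mp heN a).mp haA⟩ : ↥A)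
        = conjEnd A ⟨e, heN⟩ (Additive.ofMul (⟨a, haA⟩ : ↥A)) := rfl
    rw [e1, ← end_mul_apply, ← hc2.eq, end_mul_apply, h1, map_zero]
  refine ⟨A₁, ?_, ?_, ?_, ?_⟩
  · intro a ha
    rw [hA₁] at ha
    exact ha.1
  · obtain ⟨a, ha, hne⟩ := hnc
    intro hbot
    have hzaA : z * a * z⁻¹ ∈ A := (Subgroup.mem_normalizer_iff.mp hz a).mp ha
    have hNτ : N * τ = N := by
      have h := geom_sum_mul τ p
      rw [hτ, sub_self, mul_sub, mul_one, sub_eq_zero, ← hN] at h
      exact h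
    have hb : z * a * z⁻¹ * a⁻¹ ∈ A₁ := by
      rw [hA₁]
      refine ⟨A.mul_mem hzaA (A.inv_mem ha), ?_⟩
      have e1 : Additive.ofMul (⟨z * a * z⁻¹ * a⁻¹, A.mul_mem hzaA (A.inv_mem ha)⟩ : ↥A) =
          τ (Additive.ofMul (⟨a, ha⟩ : ↥A)) + - (Additive.ofMul (⟨a, ha⟩ : ↥A)) := by
        rw [hτdef]; rfl
      rw [e1, map_add, map_neg, ← end_mul_apply, hNτ, add_neg_cancel]
    rw [hbot, Subgroup.mem_bot] at hb
    exact hne (mul_inv_eq_one.mp hb)
  · intro e he
    rw [Subgroup.mem_normalizer_iff]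
    intro a
    constructor
    · exact key e he a
    · intro h
      have h2 := key e⁻¹ (E.inv_mem he) _ h
      have e2 : e⁻¹ * (e * a * e⁻¹) * e⁻¹⁻¹ = a := by group
      rwa [e2] at h2
  · intro a ha hfix
    rw [hA₁] at ha
    obtain ⟨haA, h1⟩ := ha
    have hfm : τ (Additive.ofMul (⟨a, haA⟩ : ↥A)) = Additive.ofMul (⟨a, haA⟩ : ↥A) := by
      rw [hτdef]
      apply Additive.toMul.injective
      apply Subtype.ext
      exact hfix
    have h2 := geom_apply_of_fix τ _ hfm p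
    rw [← hN, h1] at h2
    have h3 : (⟨a, haA⟩ : ↥A) ^ p = 1 := by
      have := congrArg Additive.toMul h2.symm
      simpa using this
    have h4 : a ^ p = 1 := by
      have := congrArg Subtype.val h3
      simpa using this
    exact eq_one_of_pow_eq_one_of_coprime hcop haA h4

end Cfsg.Agent.Lib.Helper18
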