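import Cfsg.Agent.Lib.Helper18.ExtW

set_option autoImplicit false

namespace Cfsg.Agent.Lib.Helper18

variable {G : Type*} [Group G]

/-- If `C_O(y) = 1` for a normal subgroup `O`, every element of the coset `O y` is an
`O`-conjugate of `y`. -/
theorem co_conj [Finite G] (O : Subgroup G) [hO : O.Normal] (y : G)
    (h : ∀ u ∈ O, u * y = y * u → u = 1) : ∀ o ∈ O, ∃ u ∈ O, o * y = u * y * u⁻¹ := by
  have hmem : ∀ u ∈ O, u * y * u⁻¹ * y⁻¹ ∈ O := by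
    intro u hu
    have h1 : y * u⁻¹ * y⁻¹ ∈ O := hO.conj_mem _ (O.inv_mem hu) y
    have h2 : u * y * u⁻¹ * y⁻¹ = u * (y * u⁻¹ * y⁻¹) := by group
    rw [h2]; exact O.mul_mem hu h1
  have hinj : Function.Injective
      (fun u : O => (⟨u.1 * y * u.1⁻¹ * y⁻¹, hmem u.1 u.2⟩ : O)) := by
    intro u v huv
    have h1 : u.1 * y * u.1⁻¹ * y⁻¹ = v.1 * y * v.1⁻¹ * y⁻¹ := congrArg Subtype.val huv
    have h2 : u.1 * y * u.1⁻¹ = v.1 * y * v.1⁻¹ := mul_right_cancel h1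
    have h3 : (v.1⁻¹ * u.1) * y = y * (v.1⁻¹ * u.1) := by
      calc (v.1⁻¹ * u.1) * y = v.1⁻¹ * (u.1 * y * u.1⁻¹) * u.1 := by group
        _ = v.1⁻¹ * (v.1 * y * v.1⁻¹) * u.1 := by rw [h2]
        _ = y * (v.1⁻¹ * u.1) := by group
    have h4 := h _ (O.mul_mem (O.inv_mem v.2) u.2) h3
    apply Subtype.ext
    exact (inv_mul_eq_one.mp h4).symm
  have hsurj := Finite.injective_iff_surjective.mp hinj
  intro o ho
  obtain ⟨u, hu⟩ := hsurj ⟨o, ho⟩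
  refine ⟨u.1, u.2, ?_⟩
  have h1 : u.1 * y * u.1⁻¹ * y⁻¹ = o := congrArg Subtype.val hu
  rw [← h1]; group

theorem co_free [Finite G] (O : Subgroup G) [hO : O.Normal] (y : G)
    (h : ∀ u ∈ O, u * y = y * u → u = 1) {o : G} (ho : o ∈ O) :
    ∀ v ∈ O, v * (o * y) = (o * y) * v → v = 1 := by
  obtain ⟨u, hu, e⟩ := co_conj O y h o ho
  intro v hv hc
  rw [e] at hc
  have h1 : (u⁻¹ * v * u) * y = y * (u⁻¹ * v * u) := by
    calc (u⁻¹ * v * u) * y = u⁻¹ * (v * (u * y * u⁻¹)) * u := by group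
      _ = u⁻¹ * ((u * y * u⁻¹) * v) * u := by rw [hc]
      _ = y * (u⁻¹ * v * u) := by group
  have h2 : u⁻¹ * v * u ∈ O := by
    have := hO.conj_mem v hv u⁻¹
    rwa [inv_inv] at this
  have h3 := h _ h2 h1
  calc v = u * (u⁻¹ * v * u) * u⁻¹ := by group
    _ = 1 := by rw [h3]; group

theorem exists_inj_comm (H : Subgroup G) (u : G) (Z : Set G)
    (h : ∀ a ∈ H, u * a * u⁻¹ * a⁻¹ ∈ Z) :
    ∃ f : H → Z × ↥(H ⊓ Subgroup.centralizer ({u} : Set G)), Function.Injective f ∧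
      ∀ a : H, (((f a).1 : Z) : G) = u * a.1 * u⁻¹ * a.1⁻¹ := by
  classical
  have hex : ∀ z : G, ∃ r : G, r ∈ H ∧
      ((∃ a ∈ H, u * a * u⁻¹ * a⁻¹ = z) → u * r * u⁻¹ * r⁻¹ = z) := by
    intro z
    by_cases hz : ∃ a ∈ H, u * a * u⁻¹ * a⁻¹ = z
    · obtain ⟨a, ha, e⟩ := hz
      exact ⟨a, ha, fun _ => e⟩
    · exact ⟨1, H.one_mem, fun h' => absurd h' hz⟩
  choose r hrH hr using hex
  have key : ∀ a ∈ H, (r (u * a * u⁻¹ * a⁻¹))⁻¹ * a ∈
      H ⊓ Subgroup.centralizer ({u} : Set G) := by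
    intro a ha
    have h1 := hr (u * a * u⁻¹ * a⁻¹) ⟨a, ha, rfl⟩
    refine Subgroup.mem_inf.mpr ⟨H.mul_mem (H.inv_mem (hrH _)) ha, ?_⟩
    rw [mem_centralizer_singleton_iff']
    generalize r (u * a * u⁻¹ * a⁻¹) = s at h1 ⊢
    have h2 : u * s⁻¹ * u⁻¹ = s⁻¹ * ((u * s * u⁻¹ * s⁻¹)⁻¹) := by group
    calc u * (s⁻¹ * a) * u⁻¹ = (u * s⁻¹ * u⁻¹) * (u * a * u⁻¹ * a⁻¹) * a := by group
      _ = s⁻¹ * ((u * s * u⁻¹ * s⁻¹)⁻¹) * (u * a * u⁻¹ * a⁻¹) * a := by rw [h2]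
      _ = s⁻¹ * a := by rw [h1]; group
  refine ⟨fun a : H =>
    ((⟨u * a.1 * u⁻¹ * a.1⁻¹, h a.1 a.2⟩ : Z),
      (⟨(r (u * a.1 * u⁻¹ * a.1⁻¹))⁻¹ * a.1, key a.1 a.2⟩ :
        ↥(H ⊓ Subgroup.centralizer ({u} : Set G)))), ?_, fun a => rfl⟩
  intro a b hab
  have h1 : u * a.1 * u⁻¹ * a.1⁻¹ = u * b.1 * u⁻¹ * b.1⁻¹ :=
    congrArg (fun q => ((q.1 : Z) : G)) hab
  have h2 : (r (u * a.1 * u⁻¹ * a.1⁻¹))⁻¹ * a.1 = (r (u * b.1 * u⁻¹ * b.1⁻¹))⁻¹ * b.1 :=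
    congrArg (fun q => (q.2 : G)) hab
  rw [h1] at h2
  exact Subtype.ext (mul_left_cancel h2)

theorem card_le_of_comm_set [Finite G] (H : Subgroup G) (u : G) (Z : Set G)
    (h : ∀ a ∈ H, u * a * u⁻¹ * a⁻¹ ∈ Z) :
    Nat.card H ≤ Nat.card Z * Nat.card ↥(H ⊓ Subgroup.centralizer ({u} : Set G)) := by
  obtain ⟨f, hf, -⟩ := exists_inj_comm H u Z h
  rw [← Nat.card_prod]
  exact Nat.card_le_card_of_injective f hf

theorem exists_comm_eq_of_card [Finite G] (H : Subgroup G) (u : G) (Z : Set G)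
    (h : ∀ a ∈ H, u * a * u⁻¹ * a⁻¹ ∈ Z)
    (hc : Nat.card Z * Nat.card ↥(H ⊓ Subgroup.centralizer ({u} : Set G)) ≤ Nat.card H) :
    ∀ z ∈ Z, ∃ a ∈ H, u * a * u⁻¹ * a⁻¹ = z := by
  obtain ⟨f, hf, hf1⟩ := exists_inj_comm H u Z h
  have hb : Function.Bijective f :=
    hf.bijective_of_nat_card_le (by rw [Nat.card_prod]; exact hc)
  intro z hz
  obtain ⟨a, ha⟩ := hb.2 (⟨z, hz⟩, 1)
  refine ⟨a.1, a.2, ?_⟩
  rw [← hf1 a, ha]

theorem invol_prod_comm {i j i' j' : G} (hi : i * i = 1) (hj : j * j = 1) (hi' : i' * i' = 1)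
    (hj' : j' * j' = 1) (e : i * j = i' * j') :
    (i'⁻¹ * i) * (i * j) = (i * j) * (i'⁻¹ * i) := by
  have h1 : i⁻¹ = i := inv_eq_of_mul_eq_one_left hi
  have h2 : j⁻¹ = j := inv_eq_of_mul_eq_one_left hj
  have h3 : i'⁻¹ = i' := inv_eq_of_mul_eq_one_left hi'
  have h4 : j'⁻¹ = j' := inv_eq_of_mul_eq_one_left hj'
  have e2 : j * i = j' * i' := by
    have := congrArg (fun t => t⁻¹) e
    simp only [mul_inv_rev] at this
    rwa [h1, h2, h3, h4] at this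
  calc (i'⁻¹ * i) * (i * j) = i'⁻¹ * (i * i) * j := by group
    _ = i' * j := by rw [hi, h3, mul_one]
    _ = i' * (j * i) * i⁻¹ := by group
    _ = i' * (j' * i') * i⁻¹ := by rw [e2]
    _ = (i' * j') * (i' * i⁻¹) := by group
    _ = (i * j) * (i'⁻¹ * i) := by rw [← e, h1, h3]

/-- The elements of `O` inverted by `t`. -/
def invSet (O : Subgroup G) (t : G) : Set G := {w : G | w ∈ O ∧ t * w * t⁻¹ = w⁻¹}

theorem comm_mem_invSet (O : Subgroup G) [hO : O.Normal] (t : G) (ht : t * t = 1) :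
    ∀ u ∈ O, t * u * t⁻¹ * u⁻¹ ∈ invSet O t := by
  intro u hu
  have hti : t⁻¹ = t := inv_eq_of_mul_eq_one_left ht
  refine ⟨O.mul_mem (hO.conj_mem _ hu t) (O.inv_mem hu), ?_⟩
  calc t * (t * u * t⁻¹ * u⁻¹) * t⁻¹ = (t * t) * u * t⁻¹ * u⁻¹ * t⁻¹ := by group
    _ = u * t⁻¹ * u⁻¹ * t⁻¹ := by rw [ht, one_mul]
    _ = u * t * u⁻¹ * t⁻¹ := congrArg (fun s => u * s * u⁻¹ * t⁻¹) hti
    _ = (t * u * t⁻¹ * u⁻¹)⁻¹ := by group

theorem card_invSet_mul_le [Finite G] (O : Subgroup G) [hO : O.Normal] (a x : G)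
    (ha2 : a * a = 1) (hax : a * x * a⁻¹ = x⁻¹) (hx : ∀ u ∈ O, u * x = x * u → u = 1) :
    Nat.card (invSet O a) * Nat.card (invSet O (a * x)) ≤ Nat.card O := by
  rw [← Nat.card_prod]
  have hmem : ∀ p : (invSet O a) × (invSet O (a * x)),
      p.1.1 * (a * p.2.1 * a⁻¹) ∈ O := fun p => O.mul_mem p.1.2.1 (hO.conj_mem _ p.2.2.1 a)
  have hax2 : (a * x) * (a * x) = 1 := by
    calc (a * x) * (a * x) = (a * x * a⁻¹) * (a * a) * x := by group
      _ = 1 := by rw [hax, ha2]; group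
  have hi : ∀ w : G, a * w * a⁻¹ = w⁻¹ → (w * a) * (w * a) = 1 := by
    intro w e
    calc (w * a) * (w * a) = w * (a * w * a⁻¹) * (a * a) := by group
      _ = 1 := by rw [e, ha2]; group
  have hj : ∀ w : G, (a * x) * w * (a * x)⁻¹ = w⁻¹ → (w * (a * x)) * (w * (a * x)) = 1 := by
    intro w e
    calc (w * (a * x)) * (w * (a * x))
        = w * ((a * x) * w * (a * x)⁻¹) * ((a * x) * (a * x)) := by group
      _ = 1 := by rw [e, hax2]; group
  have hprod : ∀ w w' : G, (w * a) * (w' * (a * x)) = (w * (a * w' * a⁻¹)) * x := by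
    intro w w'
    calc (w * a) * (w' * (a * x)) = w * (a * w' * a⁻¹) * (a * a) * x := by group
      _ = (w * (a * w' * a⁻¹)) * x := by rw [ha2, mul_one]
  apply Nat.card_le_card_of_injective
    (fun p : (invSet O a) × (invSet O (a * x)) =>
      (⟨p.1.1 * (a * p.2.1 * a⁻¹), hmem p⟩ : O))
  rintro ⟨⟨w₁, h₁⟩, ⟨w₁', h₁'⟩⟩ ⟨⟨w₂, h₂⟩, ⟨w₂', h₂'⟩⟩ hp
  obtain ⟨hw₁, e₁⟩ := h₁
  obtain ⟨hw₁', e₁'⟩ := h₁'
  obtain ⟨hw₂, e₂⟩ := h₂
  obtain ⟨hw₂', e₂'⟩ := h₂'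
  have h0 : w₁ * (a * w₁' * a⁻¹) = w₂ * (a * w₂' * a⁻¹) := congrArg Subtype.val hp
  have hy : (w₁ * a) * (w₁' * (a * x)) = (w₂ * a) * (w₂' * (a * x)) := by
    rw [hprod, hprod, h0]
  have hcomm : ((w₂ * a)⁻¹ * (w₁ * a)) * ((w₁ * (a * w₁' * a⁻¹)) * x) =
      ((w₁ * (a * w₁' * a⁻¹)) * x) * ((w₂ * a)⁻¹ * (w₁ * a)) := by
    rw [← hprod]
    exact invol_prod_comm (hi w₁ e₁) (hj w₁' e₁') (hi w₂ e₂) (hj w₂' e₂') hy
  have hv : (w₂ * a)⁻¹ * (w₁ * a) ∈ O := by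
    have h1 : (w₂ * a)⁻¹ * (w₁ * a) = a⁻¹ * (w₂⁻¹ * w₁) * a⁻¹⁻¹ := by group
    rw [h1]
    exact hO.conj_mem _ (O.mul_mem (O.inv_mem hw₂) hw₁) a⁻¹
  have ho : w₁ * (a * w₁' * a⁻¹) ∈ O := O.mul_mem hw₁ (hO.conj_mem _ hw₁' a)
  have h1 := co_free O x hx ho _ hv hcomm
  have hw : w₁ = w₂ := by
    have h2 : w₂ * a = w₁ * a := inv_mul_eq_one.mp h1
    exact (mul_right_cancel h2).symm
  subst hw
  have hw' : w₁' = w₂' := by
    have h3 : a * w₁' * a⁻¹ = a * w₂' * a⁻¹ := mul_left_cancel h0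
    exact mul_left_cancel (mul_right_cancel h3)
  subst hw'
  rfl

theorem card_cent_mul_le [Finite G] (O : Subgroup G) (a x : G)
    (hx : ∀ u ∈ O, u * x = x * u → u = 1) :
    Nat.card ↥(O ⊓ Subgroup.centralizer ({a} : Set G)) *
      Nat.card ↥(O ⊓ Subgroup.centralizer ({a * x} : Set G)) ≤ Nat.card O := by
  rw [← Nat.card_prod]
  apply Nat.card_le_card_of_injective
    (fun p : ↥(O ⊓ Subgroup.centralizer ({a} : Set G)) ×
        ↥(O ⊓ Subgroup.centralizer ({a * x} : Set G)) =>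
      (⟨p.1.1 * p.2.1, O.mul_mem (Subgroup.mem_inf.mp p.1.2).1 (Subgroup.mem_inf.mp p.2.2).1⟩ : O))
  rintro ⟨⟨u₁, hu₁'⟩, ⟨v₁, hv₁'⟩⟩ ⟨⟨u₂, hu₂'⟩, ⟨v₂, hv₂'⟩⟩ hp
  obtain ⟨hu₁, c₁⟩ := Subgroup.mem_inf.mp hu₁'
  obtain ⟨hv₁, d₁⟩ := Subgroup.mem_inf.mp hv₁'
  obtain ⟨hu₂, c₂⟩ := Subgroup.mem_inf.mp hu₂'
  obtain ⟨hv₂, d₂⟩ := Subgroup.mem_inf.mp hv₂'
  have h0 : u₁ * v₁ = u₂ * v₂ := congrArg Subtype.val hp
  have ht : u₂⁻¹ * u₁ = v₂ * v₁⁻¹ := by
    calc u₂⁻¹ * u₁ = u₂⁻¹ * (u₁ * v₁) * v₁⁻¹ := by group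
      _ = u₂⁻¹ * (u₂ * v₂) * v₁⁻¹ := by rw [h0]
      _ = v₂ * v₁⁻¹ := by group
  have hta : a * (u₂⁻¹ * u₁) * a⁻¹ = u₂⁻¹ * u₁ :=
    (mem_centralizer_singleton_iff' a _).mp (Subgroup.mul_mem _ (Subgroup.inv_mem _ c₂) c₁)
  have htax : (a * x) * (u₂⁻¹ * u₁) * (a * x)⁻¹ = u₂⁻¹ * u₁ := by
    rw [ht]
    exact (mem_centralizer_singleton_iff' (a * x) _).mp
      (Subgroup.mul_mem _ d₂ (Subgroup.inv_mem _ d₁))
  have htx : (u₂⁻¹ * u₁) * x = x * (u₂⁻¹ * u₁) := by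
    have h1 : a⁻¹ * (u₂⁻¹ * u₁) * a = u₂⁻¹ * u₁ := by
      calc a⁻¹ * (u₂⁻¹ * u₁) * a = a⁻¹ * (a * (u₂⁻¹ * u₁) * a⁻¹) * a := by rw [hta]
        _ = u₂⁻¹ * u₁ := by group
    have h2 : x * (u₂⁻¹ * u₁) * x⁻¹ = u₂⁻¹ * u₁ := by
      calc x * (u₂⁻¹ * u₁) * x⁻¹ = a⁻¹ * ((a * x) * (u₂⁻¹ * u₁) * (a * x)⁻¹) * a := by group
        _ = a⁻¹ * (u₂⁻¹ * u₁) * a := by rw [htax]
        _ = _ := h1
    exact (comm_of_conj_eq h2).symm
  have h1 := hx _ (O.mul_mem (O.inv_mem hu₂) hu₁) htx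
  have hu : u₂ = u₁ := inv_mul_eq_one.mp h1
  subst hu
  have hv : v₁ = v₂ := mul_left_cancel h0
  subst hv
  rfl

theorem mem_normalizer_of_normal' (O : Subgroup G) [hO : O.Normal] (g : G) :
    g ∈ Subgroup.normalizer (O : Set G) := by
  rw [Subgroup.mem_normalizer_iff]
  intro h
  constructor
  · intro hh
    exact hO.conj_mem h hh g
  · intro hh
    have := hO.conj_mem _ hh g⁻¹
    have e : g⁻¹ * (g * h * g⁻¹) * g⁻¹⁻¹ = h := by group
    rwa [e] at this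

theorem dih_arith {n c s s' : ℕ} (hnpos : 0 < n) (hA : n ≤ s * c) (hA' : n ≤ s' * c)
    (hΦ : s * s' ≤ n) (hCC : c * c ≤ n) : c * c = n ∧ s * c ≤ n := by
  have h1 : n * n ≤ n * (c * c) := by
    calc n * n ≤ (s * c) * (s' * c) := Nat.mul_le_mul hA hA'
      _ = (s * s') * (c * c) := by ring
      _ ≤ n * (c * c) := Nat.mul_le_mul_right _ hΦ
  have h2 : n ≤ c * c := Nat.le_of_mul_le_mul_left h1 hnpos
  have h3 : c * c = n := le_antisymm hCC h2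
  refine ⟨h3, ?_⟩
  by_contra hlt
  push Not at hlt
  have h5 : (s * c) * (s' * c) ≤ n * n := by
    calc (s * c) * (s' * c) = (s * s') * (c * c) := by ring
      _ ≤ n * n := Nat.mul_le_mul hΦ hCC
  have h6 : (n + 1) * n ≤ n * n := le_trans (Nat.mul_le_mul hlt hA') h5
  have h7 : (n + 1) * n = n * n + n := by ring
  omega

theorem dih_core [Finite G] (O : Subgroup G) [hO : O.Normal] (a x : G) (ha2 : a * a = 1)
    (hax : a * x * a⁻¹ = x⁻¹) (hx : ∀ u ∈ O, u * x = x * u → u = 1)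
    (hconj : ∃ g : G, g * a * g⁻¹ = a * x) :
    Nat.card ↥(O ⊓ Subgroup.centralizer ({a} : Set G)) ^ 2 = Nat.card O ∧
    ∀ w ∈ O, (w * a) * (w * a) = 1 → ∃ g : G, g * a * g⁻¹ = w * a := by
  have hai : a⁻¹ = a := inv_eq_of_mul_eq_one_left ha2
  have hax2 : (a * x) * (a * x) = 1 := by
    calc (a * x) * (a * x) = (a * x * a⁻¹) * (a * a) * x := by group
      _ = 1 := by rw [hax, ha2]; group
  have hA : Nat.card O ≤ Nat.card (invSet O a) *
      Nat.card ↥(O ⊓ Subgroup.centralizer ({a} : Set G)) :=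
    card_le_of_comm_set O a (invSet O a) (comm_mem_invSet O a ha2)
  have hA' : Nat.card O ≤ Nat.card (invSet O (a * x)) *
      Nat.card ↥(O ⊓ Subgroup.centralizer ({a * x} : Set G)) :=
    card_le_of_comm_set O (a * x) (invSet O (a * x)) (comm_mem_invSet O (a * x) hax2)
  have hΦ : Nat.card (invSet O a) * Nat.card (invSet O (a * x)) ≤ Nat.card O :=
    card_invSet_mul_le O a x ha2 hax hx
  have hCC : Nat.card ↥(O ⊓ Subgroup.centralizer ({a} : Set G)) *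
      Nat.card ↥(O ⊓ Subgroup.centralizer ({a * x} : Set G)) ≤ Nat.card O :=
    card_cent_mul_le O a x hx
  have hceq : Nat.card ↥(O ⊓ Subgroup.centralizer ({a * x} : Set G)) =
      Nat.card ↥(O ⊓ Subgroup.centralizer ({a} : Set G)) := by
    obtain ⟨g, hg⟩ := hconj
    rw [← hg, inf_centralizer_conj O (mem_normalizer_of_normal' O g) a, card_map_conj]
  rw [hceq] at hA' hCC
  have hnpos : 0 < Nat.card O := Nat.card_pos
  obtain ⟨h3, h4⟩ := dih_arith hnpos hA hA' hΦ hCC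
  refine ⟨by rw [sq]; exact h3, ?_⟩
  intro w hw hw2
  have hwS : w ∈ invSet O a := by
    refine ⟨hw, ?_⟩
    calc a * w * a⁻¹ = w⁻¹ * ((w * a) * (w * a)) * a⁻¹ * a⁻¹ := by group
      _ = w⁻¹ * (a * a)⁻¹ := by rw [hw2]; group
      _ = w⁻¹ := by rw [ha2]; group
  obtain ⟨u, hu, e⟩ := exists_comm_eq_of_card O a (invSet O a) (comm_mem_invSet O a ha2) h4 w hwS
  refine ⟨a * u, ?_⟩
  rw [← e]
  calc a * u * a * (a * u)⁻¹ = a * u * a * u⁻¹ * a⁻¹ := by group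
    _ = a * u * a⁻¹ * u⁻¹ * a := by rw [hai]

theorem dih_quot_main [Finite G] {r : ℕ} [hrp : Fact r.Prime] (hr : r ≠ 2) (O : Subgroup G)
    [hO : O.Normal] (hO2 : IsPGroup 2 O) (π : G →* DihedralGroup r)
    (hπ : Function.Surjective π) (hker : π.ker = O) (R : Sylow r G)
    (hC : O ⊓ Subgroup.centralizer ((R : Subgroup G) : Set G) = ⊥) :
    Nonempty (↥(Subgroup.normalizer ((R : Subgroup G) : Set G)) ≃* DihedralGroup r) ∧
    ∀ a : G, a ∈ Subgroup.normalizer ((R : Subgroup G) : Set G) → orderOf a = 2 →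
      (∀ b : G, orderOf b = 2 → b ∉ O → ∃ g : G, g * a * g⁻¹ = b) ∧
      Nat.card ↥(O ⊓ Subgroup.centralizer ({a} : Set G)) ^ 2 = Nat.card O := by
  classical
  have hr2 : Nat.Coprime 2 r := (Nat.coprime_primes Nat.prime_two hrp.out).mpr (Ne.symm hr)
  have hmemO : ∀ g : G, g ∈ O ↔ π g = 1 := fun g => by rw [← hker, MonoidHom.mem_ker]
  have hcardG : Nat.card G = 2 * r * Nat.card O := by
    have h1 := Subgroup.card_eq_card_quotient_mul_card_subgroup π.ker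
    have h2 : Nat.card (G ⧸ π.ker) = 2 * r := by
      rw [Nat.card_congr (QuotientGroup.quotientKerEquivOfSurjective π hπ).toEquiv,
        DihedralGroup.nat_card]
    rw [h2, hker] at h1
    exact h1
  have hRO : ∀ y ∈ (R : Subgroup G), y ∈ O → y = 1 := by
    intro y hyR hyO
    obtain ⟨k, hk⟩ := exists_pow_eq_one_of_mem R.isPGroup' hyR
    have h1 : (orderOf y).Coprime 2 := by
      have h2 : orderOf y ∣ r ^ k := orderOf_dvd_of_pow_eq_one hk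
      exact Nat.Coprime.coprime_dvd_left h2 (Nat.Coprime.pow_left k hr2.symm)
    exact eq_one_of_mem_of_coprime hO2 hyO h1
  have hRcard : Nat.card (R : Subgroup G) = r := by
    obtain ⟨m, hm⟩ := IsPGroup.iff_card.mp R.isPGroup'
    have hdvd : r ∣ Nat.card (R : Subgroup G) :=
      R.dvd_card_of_dvd_card (by rw [hcardG]; exact Dvd.intro_left 2 rfl |>.mul_right _)
    have h1 : r ^ m ∣ 2 * r * Nat.card O := by
      rw [← hm, ← hcardG]; exact Subgroup.card_subgroup_dvd_card _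
    obtain ⟨k, hk⟩ := IsPGroup.iff_card.mp hO2
    rw [hk] at h1
    have h2 : r ^ m ∣ r := by
      have hc : Nat.Coprime (r ^ m) (2 ^ (k + 1)) := Nat.Coprime.pow _ _ hr2.symm
      have h3 : 2 * r * 2 ^ k = 2 ^ (k + 1) * r := by ring
      rw [h3] at h1
      exact hc.dvd_of_dvd_mul_left h1
    have hm1 : m ≤ 1 := by
      by_contra hlt
      push Not at hlt
      have h4 : r ^ 2 ∣ r := dvd_trans (pow_dvd_pow r hlt) h2
      have hle := Nat.le_of_dvd hrp.out.pos h4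
      have h5 := hrp.out.two_le
      nlinarith
    have hm0 : m ≠ 0 := by
      rintro rfl
      rw [hm, pow_zero] at hdvd
      exact hrp.out.one_lt.ne' (Nat.dvd_one.mp hdvd)
    have hm' : m = 1 := by omega
    rw [hm, hm', pow_one]
  obtain ⟨x, hxR, hx1⟩ : ∃ x ∈ (R : Subgroup G), x ≠ 1 := by
    by_contra hno
    push Not at hno
    have h1 : (R : Subgroup G) = ⊥ := (Subgroup.eq_bot_iff_forall _).mpr hno
    rw [h1, Subgroup.card_bot] at hRcard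
    exact hrp.out.one_lt.ne hRcard
  have hgen : ∀ y ∈ (R : Subgroup G), ∃ k : ℤ, x ^ k = y := by
    intro y hy
    have h1 : (⟨y, hy⟩ : (R : Subgroup G)) ∈ Subgroup.zpowers (⟨x, hxR⟩ : (R : Subgroup G)) :=
      mem_zpowers_of_prime_card hRcard (fun h => hx1 (congrArg Subtype.val h))
    obtain ⟨k, hk⟩ := Subgroup.mem_zpowers_iff.mp h1
    exact ⟨k, by simpa using congrArg Subtype.val hk⟩
  have hxfree : ∀ u ∈ O, u * x = x * u → u = 1 := by
    intro u hu hc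
    have h1 : u ∈ O ⊓ Subgroup.centralizer ((R : Subgroup G) : Set G) := by
      refine Subgroup.mem_inf.mpr ⟨hu, ?_⟩
      rw [Subgroup.mem_centralizer_iff]
      intro y hy
      obtain ⟨k, rfl⟩ := hgen y hy
      exact ((Commute.zpow_left (show Commute x u from hc.symm) k)).eq
    rw [hC] at h1
    exact Subgroup.mem_bot.mp h1
  have hxifree : ∀ u ∈ O, u * x⁻¹ = x⁻¹ * u → u = 1 := by
    intro u hu hc
    apply hxfree u hu
    have h1 : Commute u x⁻¹ := hc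
    exact (Commute.inv_right_iff.mp h1).eq
  have hxr : x ^ r = 1 := by
    have h1 : orderOf x ∣ r := by
      rw [← hRcard]
      exact Subgroup.orderOf_dvd_natCard _ hxR
    exact orderOf_dvd_iff_pow_eq_one.mp h1
  obtain ⟨j, hj⟩ : ∃ j : ZMod r, π x = DihedralGroup.r j := by
    cases hπx : π x with
    | r j => exact ⟨j, rfl⟩
    | sr i =>
      exfalso
      have h2 : orderOf (π x) ∣ r :=
        orderOf_dvd_of_pow_eq_one (by rw [← map_pow, hxr, map_one])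
      rw [hπx, DihedralGroup.orderOf_sr] at h2
      exact hr ((Nat.prime_dvd_prime_iff_eq Nat.prime_two hrp.out).mp h2).symm
  have hconjπ : ∀ g : G, π (g * x * g⁻¹) = π x ∨ π (g * x * g⁻¹) = π x⁻¹ := by
    intro g
    rw [map_mul, map_mul, map_inv, map_inv, hj]
    cases π g with
    | r i =>
      left
      rw [DihedralGroup.inv_r, DihedralGroup.r_mul_r, DihedralGroup.r_mul_r]
      congr 1; ring
    | sr i =>
      right
      rw [DihedralGroup.inv_sr, DihedralGroup.sr_mul_r, DihedralGroup.sr_mul_sr,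
        DihedralGroup.inv_r]
      congr 1; ring
  have hnorm : ∀ n : G, n * x * n⁻¹ ∈ (R : Subgroup G) →
      n ∈ Subgroup.normalizer ((R : Subgroup G) : Set G) := by
    intro n hn
    apply mem_normalizer_of_map_conj_eq
    apply Subgroup.eq_of_le_of_card_ge
    · intro z hz
      rw [mem_map_conj_iff] at hz
      obtain ⟨k, hk⟩ := hgen _ hz
      have h1 : z = (n * x * n⁻¹) ^ k := by
        rw [conj_zpow, hk]; group
      rw [h1]; exact zpow_mem hn k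
    · rw [card_map_conj]
  have hdec : ∀ g : G, ∃ u ∈ O, ∃ n ∈ Subgroup.normalizer ((R : Subgroup G) : Set G),
      g = u * n := by
    intro g
    have key : ∀ y : G, y ∈ (R : Subgroup G) → (∀ u ∈ O, u * y = y * u → u = 1) →
        π (g * x * g⁻¹) = π y →
        ∃ u ∈ O, ∃ n ∈ Subgroup.normalizer ((R : Subgroup G) : Set G), g = u * n := by
      intro y hyR hy he
      have ho : g * x * g⁻¹ * y⁻¹ ∈ O := by
        rw [hmemO, map_mul, he, map_inv, mul_inv_cancel]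
      obtain ⟨u, hu, e⟩ := co_conj O y hy _ ho
      refine ⟨u, hu, u⁻¹ * g, hnorm _ ?_, by group⟩
      have h1 : (u⁻¹ * g) * x * (u⁻¹ * g)⁻¹ = y := by
        calc (u⁻¹ * g) * x * (u⁻¹ * g)⁻¹ = u⁻¹ * (g * x * g⁻¹ * y⁻¹ * y) * u := by group
          _ = u⁻¹ * (u * y * u⁻¹) * u := by rw [e]
          _ = y := by group
      rw [h1]; exact hyR
    rcases hconjπ g with h | h
    · exact key x hxR hxfree h
    · exact key x⁻¹ (inv_mem hxR) hxifree h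
  have hNO : ∀ n ∈ Subgroup.normalizer ((R : Subgroup G) : Set G), n ∈ O → n = 1 := by
    intro n hn hnO
    have h1 : n * x * n⁻¹ ∈ (R : Subgroup G) := (Subgroup.mem_normalizer_iff.mp hn x).mp hxR
    have h2 : n * x * n⁻¹ * x⁻¹ ∈ O := by
      have h : n * x * n⁻¹ * x⁻¹ = n * (x * n⁻¹ * x⁻¹) := by group
      rw [h]; exact O.mul_mem hnO (hO.conj_mem _ (O.inv_mem hnO) x)
    have h3 : n * x * n⁻¹ * x⁻¹ = 1 :=
      hRO _ (Subgroup.mul_mem _ h1 (Subgroup.inv_mem _ hxR)) h2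
    apply hxfree n hnO
    calc n * x = (n * x * n⁻¹ * x⁻¹) * x * n := by group
      _ = x * n := by rw [h3, one_mul]
  have hinjN : ∀ n ∈ Subgroup.normalizer ((R : Subgroup G) : Set G),
      ∀ n' ∈ Subgroup.normalizer ((R : Subgroup G) : Set G), π n = π n' → n = n' := by
    intro n hn n' hn' e
    have h1 : n'⁻¹ * n ∈ O := by rw [hmemO, map_mul, map_inv, e, inv_mul_cancel]
    have h2 := hNO _ (Subgroup.mul_mem _ (Subgroup.inv_mem _ hn') hn) h1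
    exact (inv_mul_eq_one.mp h2).symm
  have hsurjN : ∀ d : DihedralGroup r,
      ∃ n ∈ Subgroup.normalizer ((R : Subgroup G) : Set G), π n = d := by
    intro d
    obtain ⟨g, rfl⟩ := hπ d
    obtain ⟨u, hu, n, hn, rfl⟩ := hdec g
    exact ⟨n, hn, by rw [map_mul, (hmemO u).mp hu, one_mul]⟩
  have e1 : Nonempty (↥(Subgroup.normalizer ((R : Subgroup G) : Set G)) ≃* DihedralGroup r) := by
    refine ⟨MulEquiv.ofBijective (π.comp (Subgroup.subtype _)) ⟨?_, ?_⟩⟩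
    · intro n n' e
      exact Subtype.ext (hinjN n.1 n.2 n'.1 n'.2 e)
    · intro d
      obtain ⟨n, hn, e⟩ := hsurjN d
      exact ⟨⟨n, hn⟩, e⟩
  refine ⟨e1, ?_⟩
  have hsr : ∀ b : G, b * b = 1 → b ∉ O → ∃ i : ZMod r, π b = DihedralGroup.sr i := by
    intro b hb2 hbO
    cases hπb : π b with
    | sr i => exact ⟨i, rfl⟩
    | r i =>
      exfalso
      have h1 : (π b) ^ r = 1 := by
        rw [hπb, DihedralGroup.r_pow, ZMod.natCast_self, mul_zero, DihedralGroup.r_zero]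
      have h2 : (π b) ^ 2 = 1 := by rw [← map_pow, sq, hb2, map_one]
      have h3 : orderOf (π b) ∣ Nat.gcd r 2 :=
        Nat.dvd_gcd (orderOf_dvd_of_pow_eq_one h1) (orderOf_dvd_of_pow_eq_one h2)
      rw [show Nat.gcd r 2 = 1 from hr2.symm] at h3
      have h4 : π b = 1 := orderOf_eq_one_iff.mp (Nat.dvd_one.mp h3)
      exact hbO ((hmemO b).mpr h4)
  intro a haN ha
  have ha2 : a * a = 1 := by rw [← sq, ← ha]; exact pow_orderOf_eq_one a
  have ha1 : a ≠ 1 := by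
    intro h; rw [h, orderOf_one] at ha; omega
  have haO : a ∉ O := fun h => ha1 (hNO a haN h)
  obtain ⟨i, hi⟩ := hsr a ha2 haO
  have hax : a * x * a⁻¹ = x⁻¹ := by
    have h1 : a * x * a⁻¹ ∈ (R : Subgroup G) := (Subgroup.mem_normalizer_iff.mp haN x).mp hxR
    have h2 : a * x * a⁻¹ * x ∈ O := by
      rw [hmemO, map_mul, map_mul, map_mul, map_inv, hi, hj, DihedralGroup.inv_sr,
        DihedralGroup.sr_mul_r, DihedralGroup.sr_mul_sr, DihedralGroup.r_mul_r,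
        DihedralGroup.one_def]
      congr 1; ring
    have h3 := hRO _ (Subgroup.mul_mem _ h1 hxR) h2
    exact eq_inv_of_mul_eq_one_left h3
  have hr0 : (2 : ZMod r) ≠ 0 := by
    intro h
    have h1 : ((2 : ℕ) : ZMod r) = 0 := by exact_mod_cast h
    rw [ZMod.natCast_eq_zero_iff] at h1
    exact hr ((Nat.prime_dvd_prime_iff_eq hrp.out Nat.prime_two).mp h1)
  have hinvconj : ∀ b ∈ Subgroup.normalizer ((R : Subgroup G) : Set G), b * b = 1 → b ∉ O →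
      ∃ h ∈ Subgroup.normalizer ((R : Subgroup G) : Set G), h * a * h⁻¹ = b := by
    intro b hbN hb2 hbO
    obtain ⟨i', hi'⟩ := hsr b hb2 hbO
    obtain ⟨k, hk⟩ : ∃ k : ZMod r, k + k = i - i' :=
      ⟨(i - i') * (2 : ZMod r)⁻¹, by
        rw [← mul_add, ← two_mul, mul_inv_cancel₀ hr0, mul_one]⟩
    obtain ⟨h, hhN, hh⟩ := hsurjN (DihedralGroup.r k)
    refine ⟨h, hhN, hinjN _ (Subgroup.mul_mem _ (Subgroup.mul_mem _ hhN haN)
      (Subgroup.inv_mem _ hhN)) _ hbN ?_⟩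
    rw [map_mul, map_mul, map_inv, hh, hi, hi', DihedralGroup.inv_r, DihedralGroup.r_mul_sr,
      DihedralGroup.sr_mul_r]
    congr 1
    linear_combination (-1 : ZMod r) * hk
  have hax2 : (a * x) * (a * x) = 1 := by
    calc (a * x) * (a * x) = (a * x * a⁻¹) * (a * a) * x := by group
      _ = 1 := by rw [hax, ha2]; group
  have hconj : ∃ g : G, g * a * g⁻¹ = a * x := by
    have haxN : a * x ∈ Subgroup.normalizer ((R : Subgroup G) : Set G) :=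
      Subgroup.mul_mem _ haN (Subgroup.le_normalizer hxR)
    have haxO : a * x ∉ O := by
      intro h
      have h1 := (hmemO _).mp h
      rw [map_mul, hi, hj, DihedralGroup.sr_mul_r, DihedralGroup.one_def] at h1
      cases h1
    obtain ⟨h, -, e⟩ := hinvconj _ haxN hax2 haxO
    exact ⟨h, e⟩
  obtain ⟨hcard, hcore⟩ := dih_core O a x ha2 hax hxfree hconj
  refine ⟨?_, hcard⟩
  intro b hb hbO
  have hb2 : b * b = 1 := by rw [← sq, ← hb]; exact pow_orderOf_eq_one b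
  obtain ⟨u, hu, n, hn, rfl⟩ := hdec b
  have hn2 : n * n = 1 := by
    apply hNO _ (Subgroup.mul_mem _ hn hn)
    rw [hmemO, map_mul]
    have h1 : π (u * n * (u * n)) = 1 := by rw [hb2, map_one]
    rw [map_mul, map_mul, (hmemO u).mp hu, one_mul] at h1
    exact h1
  have hnO : n ∉ O := fun h => hbO (O.mul_mem hu h)
  obtain ⟨h, hhN, e⟩ := hinvconj n hn hn2 hnO
  have hw : h⁻¹ * u * h ∈ O := by
    have h1 := hO.conj_mem u hu h⁻¹
    rwa [inv_inv] at h1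
  have hwa : (h⁻¹ * u * h * a) * (h⁻¹ * u * h * a) = 1 := by
    have h1 : h⁻¹ * u * h * a = h⁻¹ * (u * n) * h := by rw [← e]; group
    rw [h1]
    calc h⁻¹ * (u * n) * h * (h⁻¹ * (u * n) * h) = h⁻¹ * ((u * n) * (u * n)) * h := by group
      _ = 1 := by rw [hb2]; group
  obtain ⟨g, hg⟩ := hcore _ hw hwa
  refine ⟨h * g, ?_⟩
  calc h * g * a * (h * g)⁻¹ = h * (g * a * g⁻¹) * h⁻¹ := by group
    _ = h * (h⁻¹ * u * h * a) * h⁻¹ := by rw [hg]
    _ = u * (h * a * h⁻¹) := by group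
    _ = u * n := by rw [e]

end Cfsg.Agent.Lib.Helper18
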