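import Cfsg.Agent.Lib.Helper18.ConjFix
import Cfsg.Agent.Lib.Helper19.ExtraP3

set_option autoImplicit false

namespace Cfsg.Agent.Lib.Helper18

variable {G : Type*} [Group G]

/-- Abstract "extraspecial of width at least `w`" data for a subgroup `E` with centre `Z`. -/
def ExtW (p : ℕ) (E Z : Subgroup G) (w : ℕ) : Prop :=
  Nat.card Z = p ∧ Z ≤ E ∧ (∀ e ∈ E, ∀ z ∈ Z, e * z = z * e) ∧ p ^ (2 * w + 1) ≤ Nat.card E ∧
  (∀ g ∈ E, (∀ e ∈ E, g * e = e * g) → g ∈ Z) ∧ (∀ a ∈ E, ∀ b ∈ E, a * b * a⁻¹ * b⁻¹ ∈ Z) ∧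
  ∀ a ∈ E, a ^ p ∈ Z

theorem kap_mul_aux (u v v' : G)
    (hc : v * (u * v' * u⁻¹ * v'⁻¹) = (u * v' * u⁻¹ * v'⁻¹) * v) :
    u * (v * v') * u⁻¹ * (v * v')⁻¹ = (u * v * u⁻¹ * v⁻¹) * (u * v' * u⁻¹ * v'⁻¹) := by
  calc u * (v * v') * u⁻¹ * (v * v')⁻¹
      = (u * v * u⁻¹ * v⁻¹) * (v * (u * v' * u⁻¹ * v'⁻¹)) * v⁻¹ := by group
    _ = (u * v * u⁻¹ * v⁻¹) * ((u * v' * u⁻¹ * v'⁻¹) * v) * v⁻¹ := by rw [hc]
    _ = _ := by group

theorem comm_of_conj_eq {u a : G} (h : u * a * u⁻¹ = a) : u * a = a * u := by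
  calc u * a = u * a * u⁻¹ * u := by group
    _ = a * u := by rw [h]

theorem conj_eq_of_comm {u a : G} (h : u * a = a * u) : u * a * u⁻¹ = a := by
  rw [h]; group

theorem conj_pow_fix {c a : G} (h : c * a * c⁻¹ = a) (k : ℕ) : c ^ k * a * (c ^ k)⁻¹ = a := by
  have hcc : Commute c a := comm_of_conj_eq h
  exact conj_eq_of_comm (hcc.pow_left k).eq

theorem conj_pow_eq_mul_pow {x y c : G} (h : y * x * y⁻¹ = x * c) (hc : y * c = c * y) (i : ℕ) :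
    y ^ i * x * (y ^ i)⁻¹ = x * c ^ i := by
  induction i with
  | zero => simp
  | succ i ih =>
    calc y ^ (i + 1) * x * (y ^ (i + 1))⁻¹ = y * (y ^ i * x * (y ^ i)⁻¹) * y⁻¹ := by
          rw [pow_succ']; group
      _ = y * (x * c ^ i) * y⁻¹ := by rw [ih]
      _ = (y * x * y⁻¹) * (y * c ^ i) * y⁻¹ := by group
      _ = (x * c) * (c ^ i * y) * y⁻¹ := by
          rw [h, ((show Commute y c from hc).pow_right i).eq]
      _ = x * c ^ (i + 1) := by rw [pow_succ']; group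

theorem card_le_mul_card_inf_centralizer [Finite G] (H Z : Subgroup G) (u : G)
    (h : ∀ a ∈ H, u * a * u⁻¹ * a⁻¹ ∈ Z) :
    Nat.card H ≤ Nat.card Z * Nat.card ↥(H ⊓ Subgroup.centralizer ({u} : Set G)) := by
  classical
  have hex : ∀ z : G, ∃ r : G, r ∈ H ∧
      ((∃ a ∈ H, u * a * u⁻¹ * a⁻¹ = z) → u * r * u⁻¹ * r⁻¹ = z) := by
    intro z
    by_cases hz : ∃ a ∈ H, u * a * u⁻¹ * a⁻¹ = z
    · obtain ⟨a, ha, e⟩ := hz
      exact ⟨a, ha, fun _ => e⟩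
    · exact ⟨1, H.one_mem, fun h' => absurd h' hz⟩
  choose r hrH hr using hex
  have key : ∀ a ∈ H, (r (u * a * u⁻¹ * a⁻¹))⁻¹ * a ∈
      H ⊓ Subgroup.centralizer ({u} : Set G) := by
    intro a ha
    have h1 := hr (u * a * u⁻¹ * a⁻¹) ⟨a, ha, rfl⟩
    refine Subgroup.mem_inf.mpr ⟨H.mul_mem (H.inv_mem (hrH _)) ha, ?_⟩
    rw [mem_centralizer_singleton_iff']
    generalize r (u * a * u⁻¹ * a⁻¹) = s at h1 ⊢
    have h2 : u * s⁻¹ * u⁻¹ = s⁻¹ * ((u * s * u⁻¹ * s⁻¹)⁻¹) := by group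
    calc u * (s⁻¹ * a) * u⁻¹ = (u * s⁻¹ * u⁻¹) * (u * a * u⁻¹ * a⁻¹) * a := by group
      _ = s⁻¹ * ((u * s * u⁻¹ * s⁻¹)⁻¹) * (u * a * u⁻¹ * a⁻¹) * a := by rw [h2]
      _ = s⁻¹ * a := by rw [h1]; group
  rw [← Nat.card_prod]
  apply Nat.card_le_card_of_injective (fun a : H =>
    ((⟨u * a.1 * u⁻¹ * a.1⁻¹, h a.1 a.2⟩ : Z),
      (⟨(r (u * a.1 * u⁻¹ * a.1⁻¹))⁻¹ * a.1, key a.1 a.2⟩ :
        ↥(H ⊓ Subgroup.centralizer ({u} : Set G)))))
  intro a b hab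
  have h1 : u * a.1 * u⁻¹ * a.1⁻¹ = u * b.1 * u⁻¹ * b.1⁻¹ :=
    congrArg (fun q => (q.1 : G)) hab
  have h2 : (r (u * a.1 * u⁻¹ * a.1⁻¹))⁻¹ * a.1 = (r (u * b.1 * u⁻¹ * b.1⁻¹))⁻¹ * b.1 :=
    congrArg (fun q => (q.2 : G)) hab
  rw [h1] at h2
  exact Subtype.ext (mul_left_cancel h2)

theorem inf_centralizer_conj (A : Subgroup G) {g : G}
    (hg : g ∈ Subgroup.normalizer (A : Set G)) (x : G) :
    A ⊓ Subgroup.centralizer ({g * x * g⁻¹} : Set G) =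
      (A ⊓ Subgroup.centralizer ({x} : Set G)).map (MulAut.conj g).toMonoidHom := by
  ext a
  rw [mem_map_conj_iff, Subgroup.mem_inf, Subgroup.mem_inf, mem_centralizer_singleton_iff',
    mem_centralizer_singleton_iff']
  have h1 : a ∈ A ↔ g⁻¹ * a * g ∈ A := by
    have := Subgroup.mem_normalizer_iff.mp (inv_mem hg) a
    rwa [inv_inv] at this
  rw [← h1]
  constructor
  · rintro ⟨ha, h⟩
    refine ⟨ha, ?_⟩
    calc x * (g⁻¹ * a * g) * x⁻¹ = g⁻¹ * (g * x * g⁻¹ * a * (g * x * g⁻¹)⁻¹) * g := by group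
      _ = g⁻¹ * a * g := by rw [h]
  · rintro ⟨ha, h⟩
    refine ⟨ha, ?_⟩
    calc g * x * g⁻¹ * a * (g * x * g⁻¹)⁻¹ = g * (x * (g⁻¹ * a * g) * x⁻¹) * g⁻¹ := by group
      _ = a := by rw [h]; group

set_option backward.isDefEq.respectTransparency false in
theorem card_modEq_one_of_fpf [Finite G] {p : ℕ} [hp : Fact p.Prime] (A : Subgroup G) (z : G)
    (hz : z ∈ Subgroup.normalizer (A : Set G)) (hzp : z ^ p = 1)
    (hfix : ∀ a ∈ A, z * a * z⁻¹ = a → a = 1) : Nat.card A ≡ 1 [MOD p] := by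
  have : DecidableEq ↥A := Classical.decEq _
  have := Fintype.ofFinite ↥A
  obtain ⟨f, hf⟩ : ∃ f : Function.End ↥A, ∀ a : ↥A, ((f a : ↥A) : G) = z * a.1 * z⁻¹ :=
    ⟨fun a => ⟨z * a.1 * z⁻¹, (Subgroup.mem_normalizer_iff.mp hz _).mp a.2⟩, fun a => rfl⟩
  have hpow : ∀ k : ℕ, ∀ a : ↥A, (((f ^ k) a : ↥A) : G) = z ^ k * a.1 * (z ^ k)⁻¹ := by
    intro k
    induction k with
    | zero =>
      intro a
      show ((a : ↥A) : G) = z ^ 0 * a.1 * (z ^ 0)⁻¹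
      simp
    | succ k ih =>
      intro a
      rw [pow_succ']
      show ((f ((f ^ k) a) : ↥A) : G) = _
      rw [hf, ih, pow_succ']; group
  have hfp : f ^ p ^ 1 = 1 := by
    funext a
    apply Subtype.ext
    show (((f ^ p ^ 1) a : ↥A) : G) = (a : G)
    rw [pow_one, hpow, hzp]; simp
  have h := Equiv.Perm.card_fixedPoints_modEq (f := f) (p := p) (n := 1) hfp
  rw [← Nat.card_eq_fintype_card, ← Nat.card_eq_fintype_card] at h
  have h2 : Nat.card ↥(Function.fixedPoints f) = 1 := by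
    rw [Nat.card_eq_one_iff_unique]
    constructor
    · constructor
      rintro ⟨a, ha⟩ ⟨b, hb⟩
      apply Subtype.ext
      apply Subtype.ext
      have h3 : z * a.1 * z⁻¹ = a.1 := by rw [← hf]; exact congrArg Subtype.val ha
      have h4 : z * b.1 * z⁻¹ = b.1 := by rw [← hf]; exact congrArg Subtype.val hb
      rw [hfix a.1 a.2 h3, hfix b.1 b.2 h4]
    · refine ⟨⟨1, ?_⟩⟩
      show f 1 = 1
      apply Subtype.ext; rw [hf]; simp
  rw [h2] at h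
  exact h

theorem card_ne_prime_of_noncomm [Finite G] {r : ℕ} [hr : Fact r.Prime] (A : Subgroup G)
    {x y : G} (hx : x ∈ Subgroup.normalizer (A : Set G))
    (hy : y ∈ Subgroup.normalizer (A : Set G))
    (hfix : ∀ a ∈ A, (x⁻¹ * y⁻¹ * x * y) * a * (x⁻¹ * y⁻¹ * x * y)⁻¹ = a → a = 1)
    (hA : A ≠ ⊥) : Nat.card A ≠ r := by
  intro hcard
  obtain ⟨a₀, hne⟩ := (Subgroup.ne_bot_iff_exists_ne_one).mp hA
  have hgen : ∀ a ∈ A, ∃ k : ℕ, (a₀ : G) ^ k = a := by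
    intro a ha
    have h1 : (⟨a, ha⟩ : A) ∈ Subgroup.zpowers (a₀ : A) := mem_zpowers_of_prime_card hcard hne
    rw [← mem_powers_iff_mem_zpowers] at h1
    obtain ⟨k, hk⟩ := h1
    exact ⟨k, congrArg Subtype.val hk⟩
  obtain ⟨i, hi⟩ := hgen (x * a₀ * x⁻¹) ((Subgroup.mem_normalizer_iff.mp hx _).mp a₀.2)
  obtain ⟨j, hj⟩ := hgen (y * a₀ * y⁻¹) ((Subgroup.mem_normalizer_iff.mp hy _).mp a₀.2)
  have h1 : x * y * a₀ * y⁻¹ * x⁻¹ = (a₀ : G) ^ (i * j) := by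
    calc x * y * a₀ * y⁻¹ * x⁻¹ = x * (y * a₀ * y⁻¹) * x⁻¹ := by group
      _ = x * (a₀ : G) ^ j * x⁻¹ := by rw [hj]
      _ = (x * a₀ * x⁻¹) ^ j := (conj_pow ..).symm
      _ = ((a₀ : G) ^ i) ^ j := by rw [hi]
      _ = _ := (pow_mul ..).symm
  have h2 : y * x * a₀ * x⁻¹ * y⁻¹ = (a₀ : G) ^ (i * j) := by
    calc y * x * a₀ * x⁻¹ * y⁻¹ = y * (x * a₀ * x⁻¹) * y⁻¹ := by group
      _ = y * (a₀ : G) ^ i * y⁻¹ := by rw [hi]
      _ = (y * a₀ * y⁻¹) ^ i := (conj_pow ..).symm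
      _ = ((a₀ : G) ^ j) ^ i := by rw [hj]
      _ = _ := by rw [← pow_mul, mul_comm]
  have h3 : (x⁻¹ * y⁻¹ * x * y) * a₀ * (x⁻¹ * y⁻¹ * x * y)⁻¹ = a₀ := by
    calc (x⁻¹ * y⁻¹ * x * y) * a₀ * (x⁻¹ * y⁻¹ * x * y)⁻¹
        = x⁻¹ * y⁻¹ * (x * y * a₀ * y⁻¹ * x⁻¹) * y * x := by group
      _ = x⁻¹ * y⁻¹ * (y * x * a₀ * x⁻¹ * y⁻¹) * y * x := by rw [h1, h2]
      _ = a₀ := by group
  exact hne (Subtype.ext (hfix a₀ a₀.2 h3))

namespace ExtW

variable {p : ℕ} {E Z : Subgroup G} {w : ℕ}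

theorem pow_eq_one (h : ExtW p E Z w) {c : G} (hc : c ∈ Z) : c ^ p = 1 := by
  have h1 := pow_card_eq_one' (G := Z) (x := ⟨c, hc⟩)
  rw [h.1] at h1
  exact congrArg Subtype.val h1

theorem exists_pow [Finite G] [hp : Fact p.Prime] (h : ExtW p E Z w) {c : G} (hc : c ∈ Z)
    (hc1 : c ≠ 1) {z : G} (hz : z ∈ Z) : ∃ k : ℕ, c ^ k = z := by
  have h1 : (⟨z, hz⟩ : Z) ∈ Subgroup.zpowers (⟨c, hc⟩ : Z) :=
    mem_zpowers_of_prime_card h.1 (fun h0 => hc1 (congrArg Subtype.val h0))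
  rw [← mem_powers_iff_mem_zpowers] at h1
  obtain ⟨k, hk⟩ := h1
  exact ⟨k, congrArg Subtype.val hk⟩

theorem kap_mem (h : ExtW p E Z w) {u v : G} (hu : u ∈ E) (hv : v ∈ E) :
    u * v * u⁻¹ * v⁻¹ ∈ Z := h.2.2.2.2.2.1 u hu v hv

theorem kap_mul (h : ExtW p E Z w) {u v v' : G} (hu : u ∈ E) (hv : v ∈ E) (hv' : v' ∈ E) :
    u * (v * v') * u⁻¹ * (v * v')⁻¹ = (u * v * u⁻¹ * v⁻¹) * (u * v' * u⁻¹ * v'⁻¹) :=
  kap_mul_aux u v v' (h.2.2.1 v hv _ (h.kap_mem hu hv'))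

theorem kap_pow (h : ExtW p E Z w) {u v : G} (hu : u ∈ E) (hv : v ∈ E) (k : ℕ) :
    u * v ^ k * u⁻¹ * (v ^ k)⁻¹ = (u * v * u⁻¹ * v⁻¹) ^ k := by
  induction k with
  | zero => simp
  | succ k ih => rw [pow_succ, h.kap_mul hu (E.pow_mem hv k) hv, ih, pow_succ]

theorem exists_noncomm (h : ExtW p E Z w) {x : G} (hx : x ∈ E) (hxZ : x ∉ Z) :
    ∃ y ∈ E, x * y * x⁻¹ * y⁻¹ ≠ 1 := by
  by_contra hcon
  push Not at hcon
  apply hxZ
  apply h.2.2.2.2.1 x hx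
  intro e he
  exact comm_of_conj_eq (mul_inv_eq_one.mp (hcon e he))

theorem exists_not_mem [Finite G] [hp : Fact p.Prime] (h : ExtW p E Z (w + 1)) :
    ∃ x ∈ E, x ∉ Z := by
  by_contra hcon
  push Not at hcon
  have h1 : Nat.card E ≤ Nat.card Z := Subgroup.card_le_of_le hcon
  have h2 := h.2.2.2.1
  rw [h.1] at h1
  have h3 : p ^ 2 ≤ p ^ (2 * (w + 1) + 1) := Nat.pow_le_pow_right hp.out.pos (by omega)
  have h4 : p < p ^ 2 := by
    have := hp.out.one_lt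
    nlinarith
  omega

theorem mul_pow_of_odd [hp : Fact p.Prime] (h : ExtW p E Z w) (hp2 : p ≠ 2) {u v : G}
    (hu : u ∈ E) (hv : v ∈ E) : (u * v) ^ p = u ^ p * v ^ p := by
  have hcZ : v * u * v⁻¹ * u⁻¹ ∈ Z := h.kap_mem hv hu
  have hcp := h.pow_eq_one hcZ
  have h0 : v * u = (v * u * v⁻¹ * u⁻¹) * u * v := by group
  have hcx : Commute (v * u * v⁻¹ * u⁻¹) u := (h.2.2.1 u hu _ hcZ).symm
  have hcy : Commute (v * u * v⁻¹ * u⁻¹) v := (h.2.2.1 v hv _ hcZ).symm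
  rw [Cfsg.Agent.Lib.Helper19.mul_pow_central h0 hcx hcy p]
  have hodd : Odd p := hp.out.odd_of_ne_two hp2
  obtain ⟨m, hm⟩ := hodd
  have e : p * (p - 1) / 2 = p * m := by
    rw [hm]
    have : 2 * m + 1 - 1 = 2 * m := by omega
    rw [this, ← mul_assoc, mul_comm _ 2, mul_assoc, Nat.mul_div_cancel_left _ (by norm_num)]
  rw [e, pow_mul, hcp, one_pow, one_mul]

theorem decomp [Finite G] [hp : Fact p.Prime] (h : ExtW p E Z w) {x y : G} (hx : x ∈ E)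
    (hy : y ∈ E) (hk : x * y * x⁻¹ * y⁻¹ ≠ 1) {g : G} (hg : g ∈ E) :
    ∃ e₁ ∈ E ⊓ Subgroup.centralizer ({x} : Set G) ⊓ Subgroup.centralizer ({y} : Set G),
      ∃ i j : ℕ, g = e₁ * (x ^ i)⁻¹ * (y ^ j)⁻¹ := by
  obtain ⟨c, hcdef⟩ : ∃ c, c = x * y * x⁻¹ * y⁻¹ := ⟨_, rfl⟩
  have hcZ : c ∈ Z := by rw [hcdef]; exact h.kap_mem hx hy
  have hc1 : c ≠ 1 := by rw [hcdef]; exact hk
  have hcp : c ^ p = 1 := h.pow_eq_one hcZ
  obtain ⟨q, hq⟩ : ∃ q, p = q + 1 := ⟨p - 1, by have := hp.out.pos; omega⟩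
  obtain ⟨a, ha⟩ := h.exists_pow hcZ hc1 (h.kap_mem hx hg)
  have hg'E : g * y ^ (q * a) ∈ E := E.mul_mem hg (E.pow_mem hy _)
  have h1 : x * (g * y ^ (q * a)) * x⁻¹ * (g * y ^ (q * a))⁻¹ = 1 := by
    rw [h.kap_mul hx hg (E.pow_mem hy _), h.kap_pow hx hy, ← ha, ← hcdef, ← pow_add]
    have : a + q * a = p * a := by rw [hq]; ring
    rw [this, pow_mul, hcp, one_pow]
  obtain ⟨b, hb⟩ := h.exists_pow hcZ hc1 (h.kap_mem hy hg'E)
  have hyx : y * x * y⁻¹ * x⁻¹ = c⁻¹ := by rw [hcdef]; group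
  have h2 : y * (g * y ^ (q * a) * x ^ b) * y⁻¹ * (g * y ^ (q * a) * x ^ b)⁻¹ = 1 := by
    rw [h.kap_mul hy hg'E (E.pow_mem hx _), h.kap_pow hy hx, ← hb, hyx, inv_pow,
      mul_inv_cancel]
  have h3 : x * (g * y ^ (q * a) * x ^ b) * x⁻¹ * (g * y ^ (q * a) * x ^ b)⁻¹ = 1 := by
    rw [h.kap_mul hx hg'E (E.pow_mem hx _), h.kap_pow hx hx, h1]
    have : x * x * x⁻¹ * x⁻¹ = 1 := by group
    rw [this, one_pow, one_mul]
  refine ⟨g * y ^ (q * a) * x ^ b, Subgroup.mem_inf.mpr ⟨Subgroup.mem_inf.mpr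
    ⟨E.mul_mem hg'E (E.pow_mem hx _), ?_⟩, ?_⟩, b, q * a, by group⟩
  · rw [mem_centralizer_singleton_iff']; exact mul_inv_eq_one.mp h3
  · rw [mem_centralizer_singleton_iff']; exact mul_inv_eq_one.mp h2

theorem sub [Finite G] [hp : Fact p.Prime] (h : ExtW p E Z (w + 1)) {x y : G} (hx : x ∈ E)
    (hy : y ∈ E) (hk : x * y * x⁻¹ * y⁻¹ ≠ 1) :
    ExtW p (E ⊓ Subgroup.centralizer ({x} : Set G) ⊓ Subgroup.centralizer ({y} : Set G)) Z w := by
  refine ⟨h.1, ?_, ?_, ?_, ?_, ?_, ?_⟩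
  · intro z hz
    refine Subgroup.mem_inf.mpr ⟨Subgroup.mem_inf.mpr ⟨h.2.1 hz, ?_⟩, ?_⟩
    · rw [mem_centralizer_singleton_iff']
      exact conj_eq_of_comm (h.2.2.1 x hx z hz)
    · rw [mem_centralizer_singleton_iff']
      exact conj_eq_of_comm (h.2.2.1 y hy z hz)
  · intro e he z hz
    exact h.2.2.1 e he.1.1 z hz
  · have h1 := card_le_mul_card_inf_centralizer E Z x (fun a ha => h.kap_mem hx ha)
    have h2 := card_le_mul_card_inf_centralizer (E ⊓ Subgroup.centralizer ({x} : Set G)) Z y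
      (fun a ha => h.kap_mem hy ha.1)
    rw [h.1] at h1 h2
    have h3 := h.2.2.2.1
    have h4 : p ^ (2 * (w + 1) + 1) = p * (p * p ^ (2 * w + 1)) := by ring
    rw [h4] at h3
    have h5 := h3.trans (h1.trans (Nat.mul_le_mul_left p h2))
    exact Nat.le_of_mul_le_mul_left (Nat.le_of_mul_le_mul_left h5 hp.out.pos) hp.out.pos
  · intro g hg hcen
    apply h.2.2.2.2.1 g hg.1.1
    intro e he
    obtain ⟨e₁, he₁, i, j, rfl⟩ := h.decomp hx hy hk he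
    have c1 : Commute g e₁ := hcen e₁ he₁
    have h2 : Commute g x :=
      (comm_of_conj_eq ((mem_centralizer_singleton_iff' x g).mp hg.1.2)).symm
    have h3 : Commute g y :=
      (comm_of_conj_eq ((mem_centralizer_singleton_iff' y g).mp hg.2)).symm
    have c2 : Commute g ((x ^ i)⁻¹) := (h2.pow_right i).inv_right
    have c3 : Commute g ((y ^ j)⁻¹) := (h3.pow_right j).inv_right
    exact ((c1.mul_right c2).mul_right c3).eq
  · intro a ha b hb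
    exact h.kap_mem ha.1.1 hb.1.1
  · intro a ha
    exact h.2.2.2.2.2.2 a ha.1.1

theorem exists_good [Finite G] [hp : Fact p.Prime] (h : ExtW p E Z (w + 1))
    (hcase : p ≠ 2 ∨ 1 ≤ w) :
    ∃ x ∈ E, ∃ y ∈ E, x ^ p = 1 ∧ x * y * x⁻¹ * y⁻¹ ≠ 1 := by
  obtain ⟨x₀, hx₀, hx₀Z⟩ := h.exists_not_mem
  obtain ⟨y₀, hy₀, hk⟩ := h.exists_noncomm hx₀ hx₀Z
  by_cases hx₀p : x₀ ^ p = 1
  · exact ⟨x₀, hx₀, y₀, hy₀, hx₀p, hk⟩
  by_cases hy₀p : y₀ ^ p = 1
  · refine ⟨y₀, hy₀, x₀, hx₀, hy₀p, ?_⟩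
    intro h0
    apply hk
    have : x₀ * y₀ * x₀⁻¹ * y₀⁻¹ = (y₀ * x₀ * y₀⁻¹ * x₀⁻¹)⁻¹ := by group
    rw [this, h0, inv_one]
  have hxpZ : x₀ ^ p ∈ Z := h.2.2.2.2.2.2 x₀ hx₀
  obtain ⟨q, hq⟩ : ∃ q, p = q + 1 := ⟨p - 1, by have := hp.out.pos; omega⟩
  have hexp : ∀ k : ℕ, (x₀ ^ (q * k)) ^ p * (x₀ ^ p) ^ k = 1 := by
    intro k
    rw [← pow_mul, ← pow_mul, ← pow_add]
    have : q * k * p + p * k = p * (p * k) := by rw [hq]; ring
    rw [this, pow_mul, pow_mul, h.pow_eq_one hxpZ, one_pow]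
  rcases hcase with hp2 | hw
  · obtain ⟨k, hk0⟩ := h.exists_pow hxpZ hx₀p (h.2.2.2.2.2.2 y₀ hy₀)
    refine ⟨x₀ ^ (q * k) * y₀, E.mul_mem (E.pow_mem hx₀ _) hy₀, x₀, hx₀, ?_, ?_⟩
    · rw [h.mul_pow_of_odd hp2 (E.pow_mem hx₀ _) hy₀, ← hk0]
      exact hexp k
    · intro h0
      apply hk
      have h1 : (x₀ ^ (q * k) * y₀) * x₀ = x₀ * (x₀ ^ (q * k) * y₀) :=
        comm_of_conj_eq (mul_inv_eq_one.mp h0)
      have h2 : y₀ * x₀ = x₀ * y₀ := by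
        have h3 : x₀ ^ (q * k) * (y₀ * x₀) = x₀ ^ (q * k) * (x₀ * y₀) := by
          calc x₀ ^ (q * k) * (y₀ * x₀) = (x₀ ^ (q * k) * y₀) * x₀ := by group
            _ = x₀ * (x₀ ^ (q * k) * y₀) := h1
            _ = x₀ ^ (q * k) * (x₀ * y₀) := by group
        exact mul_left_cancel h3
      rw [← h2]; group
  · obtain ⟨w', rfl⟩ : ∃ w', w = w' + 1 := ⟨w - 1, by omega⟩
    have hE₁ := h.sub hx₀ hy₀ hk
    obtain ⟨u, hu, huZ⟩ := hE₁.exists_not_mem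
    obtain ⟨v, hv, huv⟩ := hE₁.exists_noncomm hu huZ
    have huE : u ∈ E := hu.1.1
    have hvE : v ∈ E := hv.1.1
    by_cases hup : u ^ p = 1
    · exact ⟨u, huE, v, hvE, hup, huv⟩
    have hux : Commute x₀ u := comm_of_conj_eq ((mem_centralizer_singleton_iff' x₀ u).mp hu.1.2)
    have hvx : Commute x₀ v := comm_of_conj_eq ((mem_centralizer_singleton_iff' x₀ v).mp hv.1.2)
    obtain ⟨k, hk0⟩ := h.exists_pow hxpZ hx₀p (h.2.2.2.2.2.2 u huE)
    refine ⟨x₀ ^ (q * k) * u, E.mul_mem (E.pow_mem hx₀ _) huE, v, hvE, ?_, ?_⟩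
    · have hc : Commute (x₀ ^ (q * k)) u := hux.pow_left _
      rw [hc.mul_pow, ← hk0]
      exact hexp k
    · intro h0
      apply huv
      have h1 : (x₀ ^ (q * k) * u) * v = v * (x₀ ^ (q * k) * u) :=
        comm_of_conj_eq (mul_inv_eq_one.mp h0)
      have hvx' : Commute (x₀ ^ (q * k)) v := hvx.pow_left _
      have h2 : u * v = v * u := by
        have h3 : x₀ ^ (q * k) * (u * v) = x₀ ^ (q * k) * (v * u) := by
          calc x₀ ^ (q * k) * (u * v) = (x₀ ^ (q * k) * u) * v := by group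
            _ = v * (x₀ ^ (q * k) * u) := h1
            _ = (v * x₀ ^ (q * k)) * u := by group
            _ = (x₀ ^ (q * k) * v) * u := by rw [hvx'.eq]
            _ = x₀ ^ (q * k) * (v * u) := by group
        exact mul_left_cancel h3
      rw [h2]; group

end ExtW

theorem extw_bound [Finite G] {p r : ℕ} [hp : Fact p.Prime] [hr : Fact r.Prime] (hpr : p ≠ r)
    (n : ℕ) (hmin : ∀ k : ℕ, 1 ≤ k → p ∣ r ^ k - 1 → n ≤ k) (Z : Subgroup G) (z₀ : G)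
    (hz₀ : z₀ ∈ Z) :
    ∀ (w : ℕ) (E A : Subgroup G), ExtW p E Z w → (∀ a ∈ A, ∀ b ∈ A, a * b = b * a) →
      IsPGroup r A → E ≤ Subgroup.normalizer (A : Set G) → A ≠ ⊥ →
      (∀ a ∈ A, z₀ * a * z₀⁻¹ = a → a = 1) → r ^ (n * p ^ w) ≤ Nat.card A := by
  intro w
  induction w with
  | zero =>
    intro E A h hcomm hrA hEA hA hfix
    have hzN : z₀ ∈ Subgroup.normalizer (A : Set G) := hEA (h.2.1 hz₀)
    have h1 := card_modEq_one_of_fpf A z₀ hzN (h.pow_eq_one hz₀) hfix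
    obtain ⟨m, hm⟩ := (IsPGroup.iff_card).mp hrA
    have hm1 : 1 ≤ m := by
      rcases Nat.eq_zero_or_pos m with h0 | h0
      · exfalso; rw [h0, pow_zero] at hm
        exact hA (Subgroup.eq_bot_of_card_eq A hm)
      · exact h0
    rw [hm] at h1 ⊢
    have h2 : p ∣ r ^ m - 1 := (Nat.modEq_iff_dvd' (Nat.one_le_pow _ _ hr.out.pos)).mp h1.symm
    have h3 := hmin m hm1 h2
    rw [pow_zero, mul_one]
    exact Nat.pow_le_pow_right hr.out.pos h3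
  | succ w ih =>
    intro E A h hcomm hrA hEA hA hfix
    obtain ⟨m, hm⟩ := (IsPGroup.iff_card).mp hrA
    have hcop : (Nat.card A).Coprime p := by
      rw [hm]
      exact Nat.Coprime.pow_left m ((Nat.coprime_primes hr.out hp.out).mpr (Ne.symm hpr))
    by_cases hcase : p ≠ 2 ∨ 1 ≤ w
    · obtain ⟨x, hx, y, hy, hxp, hk⟩ := h.exists_good hcase
      obtain ⟨c, hcdef⟩ : ∃ c, c = y * x * y⁻¹ * x⁻¹ := ⟨_, rfl⟩
      have hcZ : c ∈ Z := by rw [hcdef]; exact h.kap_mem hy hx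
      have hc1 : c ≠ 1 := by
        intro h0
        apply hk
        have : x * y * x⁻¹ * y⁻¹ = (y * x * y⁻¹ * x⁻¹)⁻¹ := by group
        rw [this, ← hcdef, h0, inv_one]
      have hcE : c ∈ E := h.2.1 hcZ
      have hxc : x * c = c * x := h.2.2.1 x hx c hcZ
      have hyx : y * x * y⁻¹ = x * c := by
        rw [hxc, hcdef]; group
      have hyc : y * c = c * y := h.2.2.1 y hy c hcZ
      have hconj : ∀ i : ℕ, y ^ i * x * (y ^ i)⁻¹ = x * c ^ i := conj_pow_eq_mul_pow hyx hyc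
      obtain ⟨k, hk0⟩ := h.exists_pow hcZ hc1 hz₀
      have hfixc : ∀ a ∈ A, c * a * c⁻¹ = a → a = 1 := by
        intro a ha hca
        apply hfix a ha
        rw [← hk0]
        exact conj_pow_fix hca k
      obtain ⟨hex, hprod⟩ := conj_fix_main A hcomm hcop x c (hEA hx) (hEA hcE) hxc hxp
        (h.pow_eq_one hcZ) hfixc
      have hcardi : ∀ i : ℕ, A ⊓ Subgroup.centralizer ({x * c ^ i} : Set G) =
          (A ⊓ Subgroup.centralizer ({x} : Set G)).map (MulAut.conj (y ^ i)).toMonoidHom := by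
        intro i
        rw [← hconj i]
        exact inf_centralizer_conj A (hEA (E.pow_mem hy i)) x
      have hA₂ : A ⊓ Subgroup.centralizer ({x} : Set G) ≠ ⊥ := by
        obtain ⟨i, -, hi⟩ := hex hA
        intro h0
        apply hi
        rw [hcardi i, h0, Subgroup.map_bot]
      have hpow : Nat.card ↥(A ⊓ Subgroup.centralizer ({x} : Set G)) ^ p ≤ Nat.card A := by
        have e : ∏ i : Fin p, Nat.card ↥(A ⊓ Subgroup.centralizer ({x * c ^ (i : ℕ)} : Set G)) =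
            Nat.card ↥(A ⊓ Subgroup.centralizer ({x} : Set G)) ^ p := by
          rw [Finset.prod_congr rfl (fun i _ => by rw [hcardi i, card_map_conj])]
          rw [Finset.prod_const, Finset.card_univ, Fintype.card_fin]
        rw [← e]; exact hprod
      have hE₁ := h.sub hx hy hk
      have hIH := ih (E ⊓ Subgroup.centralizer ({x} : Set G) ⊓ Subgroup.centralizer ({y} : Set G))
        (A ⊓ Subgroup.centralizer ({x} : Set G)) hE₁
        (fun a ha b hb => hcomm a ha.1 b hb.1) (hrA.to_le inf_le_left) ?_ hA₂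
        (fun a ha => hfix a ha.1)
      · calc r ^ (n * p ^ (w + 1)) = (r ^ (n * p ^ w)) ^ p := by
              rw [← pow_mul, pow_succ, mul_assoc]
          _ ≤ Nat.card ↥(A ⊓ Subgroup.centralizer ({x} : Set G)) ^ p :=
              Nat.pow_le_pow_left hIH p
          _ ≤ Nat.card A := hpow
      · intro e he
        apply mem_normalizer_of_map_conj_eq
        have heN : e ∈ Subgroup.normalizer (A : Set G) := hEA he.1.1
        have hex' : e * x * e⁻¹ = x := by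
          have := (mem_centralizer_singleton_iff' x e).mp he.1.2
          exact conj_eq_of_comm (comm_of_conj_eq this).symm
        have := inf_centralizer_conj A heN x
        rw [hex'] at this
        exact this.symm
    · push Not at hcase
      obtain ⟨hp2, hw⟩ := hcase
      have hw0 : w = 0 := by omega
      subst hw0
      have hn1 : n ≤ 1 := by
        apply hmin 1 le_rfl
        rw [pow_one, hp2]
        have hr2 : r ≠ 2 := fun h0 => hpr (hp2.trans h0.symm)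
        rcases hr.out.eq_two_or_odd with h0 | h0
        · exact absurd h0 hr2
        · omega
      obtain ⟨x₀, hx₀, hx₀Z⟩ := h.exists_not_mem
      obtain ⟨y₀, hy₀, hk⟩ := h.exists_noncomm hx₀ hx₀Z
      have hcZ : x₀⁻¹ * y₀⁻¹ * x₀ * y₀ ∈ Z := by
        have := h.kap_mem (E.inv_mem hx₀) (E.inv_mem hy₀)
        simpa using this
      have hc1 : x₀⁻¹ * y₀⁻¹ * x₀ * y₀ ≠ 1 := by
        intro h0
        apply hk
        have h1 : x₀ * y₀ = y₀ * x₀ := by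
          calc x₀ * y₀ = y₀ * x₀ * (x₀⁻¹ * y₀⁻¹ * x₀ * y₀) := by group
            _ = y₀ * x₀ := by rw [h0, mul_one]
        rw [h1]; group
      obtain ⟨k, hk0⟩ := h.exists_pow hcZ hc1 hz₀
      have hne := card_ne_prime_of_noncomm (r := r) A (hEA hx₀) (hEA hy₀) (by
        intro a ha hca
        apply hfix a ha
        rw [← hk0]
        exact conj_pow_fix hca k) hA
      have hm2 : 2 ≤ m := by
        rcases Nat.lt_or_ge m 2 with h0 | h0
        · exfalso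
          interval_cases m
          · rw [pow_zero] at hm; exact hA (Subgroup.eq_bot_of_card_eq A hm)
          · rw [pow_one] at hm; exact hne hm
        · exact h0
      rw [hm, hp2]
      apply Nat.pow_le_pow_right hr.out.pos
      have : n * 2 ^ (0 + 1) = n * 2 := by norm_num
      rw [this]; omega

end Cfsg.Agent.Lib.Helper18
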