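import Mathlib
import Cfsg.Prelude
import Cfsg.Agent.Lib.Helper19.ExtraP3

/-!
Counting in extraspecial 2-groups: maximal elementary abelian subgroups are self-centralising,
and the number of elements of order 4 in an extraspecial group of plus type.
-/

set_option autoImplicit false

namespace Cfsg.Agent.Lib.Helper18

open Cfsg

theorem card_double_count {α β : Type*} [Fintype α] [Fintype β] (r : α → β → Prop) :
    ∑ a : α, Nat.card {b : β // r a b} = ∑ b : β, Nat.card {a : α // r a b} := by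
  have h1 : Nat.card {p : α × β // r p.1 p.2} = ∑ a : α, Nat.card {b : β // r a b} := by
    rw [Nat.card_congr (Equiv.subtypeProdEquivSigmaSubtype r), Nat.card_sigma]
  have h2 : Nat.card {p : α × β // r p.1 p.2} = ∑ b : β, Nat.card {a : α // r a b} := by
    have e : {p : α × β // r p.1 p.2} ≃ {q : β × α // r q.2 q.1} :=
      (Equiv.prodComm α β).subtypeEquiv (fun p => Iff.rfl)
    rw [Nat.card_congr e,
      Nat.card_congr (Equiv.subtypeProdEquivSigmaSubtype (fun (b : β) (a : α) => r a b)),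
      Nat.card_sigma]
  rw [← h1, h2]

theorem sum_two_valued {α : Type*} [Fintype α] (p : α → Prop) (f : α → ℕ) (u v : ℕ)
    (h1 : ∀ a, p a → f a = u) (h2 : ∀ a, ¬ p a → f a = v) :
    ∑ a, f a = Nat.card {a // p a} * u + Nat.card {a // ¬ p a} * v := by
  classical
  rw [← Finset.sum_filter_add_sum_filter_not Finset.univ p,
    Finset.sum_congr rfl (fun a ha => h1 a (Finset.mem_filter.mp ha).2),
    Finset.sum_congr rfl (fun a ha => h2 a (Finset.mem_filter.mp ha).2)]
  simp only [Finset.sum_const, smul_eq_mul]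
  rw [Nat.card_eq_fintype_card, Nat.card_eq_fintype_card, Fintype.card_subtype,
    Fintype.card_subtype]

theorem card_add_card_not {α : Type*} [Finite α] (p : α → Prop) :
    Nat.card {a // p a} + Nat.card {a // ¬ p a} = Nat.card α := by
  classical
  rw [← Nat.card_sum]
  exact Nat.card_congr (Equiv.sumCompl p)

section ES

variable {E : Type*} [Group E]

/-- The centre of an extraspecial 2-group is `{1, z}`. -/
theorem es2_center_cases (hE : IsExtraspecial 2 E) :
    ∃ z : E, z ∈ Subgroup.center E ∧ z ≠ 1 ∧ z * z = 1 ∧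
      ∀ c ∈ Subgroup.center E, c = 1 ∨ c = z := by
  have h2 := hE.2
  obtain ⟨⟨z, hz⟩, hz1, huniq⟩ := (Nat.card_eq_two_iff' (1 : ↥(Subgroup.center E))).mp h2
  have hz1' : z ≠ 1 := fun h => hz1 (Subtype.ext h)
  have hall : ∀ c ∈ Subgroup.center E, c = 1 ∨ c = z := by
    intro c hc
    by_cases hc1 : c = 1
    · exact Or.inl hc1
    · right
      have h3 := huniq ⟨c, hc⟩ (fun h => hc1 (congrArg Subtype.val h))
      exact congrArg Subtype.val h3
  refine ⟨z, hz, hz1', ?_, hall⟩
  rcases hall (z * z) (Subgroup.mul_mem _ hz hz) with h | h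
  · exact h
  · exfalso
    apply hz1'
    exact mul_left_cancel (a := z) (by rw [h, mul_one])

theorem es2_dich (hE : IsExtraspecial 2 E) {z : E}
    (hzc : ∀ c ∈ Subgroup.center E, c = 1 ∨ c = z) (x u : E) :
    x * u = u * x ∨ x * u = z * u * x := by
  have e : x * u = (x * u * x⁻¹ * u⁻¹) * u * x := by group
  rcases hzc _ (Cfsg.Agent.Lib.Helper19.es_comm_mem_center hE x u) with h | h
  · left
    calc x * u = (x * u * x⁻¹ * u⁻¹) * u * x := e
      _ = u * x := by rw [h, one_mul]
  · right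
    calc x * u = (x * u * x⁻¹ * u⁻¹) * u * x := e
      _ = z * u * x := by rw [h]

/-- In a group where `x` commutes with every element up to the central involution `z`, exactly
half of the elements (of any group mapping to it) commute with `x`, unless all do. -/
theorem es2_half {Γ : Type*} [Group Γ] [Finite Γ] (ι : Γ →* E) (x z : E)
    (hz : ∀ y : E, z * y = y * z) (hzz : z * z = 1)
    (hdich : ∀ u : E, x * u = u * x ∨ x * u = z * u * x) (g₀ : Γ)
    (hg₀ : ¬ x * ι g₀ = ι g₀ * x) :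
    Nat.card {g : Γ // ¬ x * ι g = ι g * x} = Nat.card {g : Γ // x * ι g = ι g * x} ∧
      Nat.card Γ = 2 * Nat.card {g : Γ // x * ι g = ι g * x} := by
  have h0 : x * ι g₀ = z * ι g₀ * x := (hdich _).resolve_left hg₀
  have e1 : (ι g₀)⁻¹ * x = z * (x * (ι g₀)⁻¹) := by
    calc (ι g₀)⁻¹ * x = (ι g₀)⁻¹ * (x * ι g₀) * (ι g₀)⁻¹ := by group
      _ = (ι g₀)⁻¹ * (z * ι g₀ * x) * (ι g₀)⁻¹ := by rw [h0]
      _ = (ι g₀)⁻¹ * (z * ι g₀) * (x * (ι g₀)⁻¹) := by group
      _ = (ι g₀)⁻¹ * (ι g₀ * z) * (x * (ι g₀)⁻¹) := by rw [hz (ι g₀)]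
      _ = z * (x * (ι g₀)⁻¹) := by group
  have h0' : x * (ι g₀)⁻¹ = z * (ι g₀)⁻¹ * x := by
    calc x * (ι g₀)⁻¹ = (z * z) * (x * (ι g₀)⁻¹) := by rw [hzz, one_mul]
      _ = z * (z * (x * (ι g₀)⁻¹)) := by rw [mul_assoc]
      _ = z * ((ι g₀)⁻¹ * x) := by rw [← e1]
      _ = z * (ι g₀)⁻¹ * x := by rw [mul_assoc]
  have hA : ∀ g : Γ, ¬ x * ι g = ι g * x → x * ι (g * g₀⁻¹) = ι (g * g₀⁻¹) * x := by
    intro g hg
    have hv : x * ι g = z * ι g * x := (hdich _).resolve_left hg
    rw [map_mul, map_inv]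
    calc x * (ι g * (ι g₀)⁻¹) = (x * ι g) * (ι g₀)⁻¹ := by group
      _ = (z * ι g * x) * (ι g₀)⁻¹ := by rw [hv]
      _ = z * ι g * (x * (ι g₀)⁻¹) := by group
      _ = z * ι g * (z * (ι g₀)⁻¹ * x) := by rw [h0']
      _ = ((z * ι g) * z) * ((ι g₀)⁻¹ * x) := by group
      _ = (z * (z * ι g)) * ((ι g₀)⁻¹ * x) := by rw [hz (z * ι g)]
      _ = (z * z) * ι g * ((ι g₀)⁻¹ * x) := by group
      _ = ι g * (ι g₀)⁻¹ * x := by rw [hzz]; group
  have hB : ∀ g : Γ, x * ι g = ι g * x → ¬ x * ι (g * g₀) = ι (g * g₀) * x := by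
    intro g hg hcon
    apply hg₀
    rw [map_mul] at hcon
    have h3 : ι g * (x * ι g₀) = ι g * (ι g₀ * x) := by
      calc ι g * (x * ι g₀) = (ι g * x) * ι g₀ := by group
        _ = (x * ι g) * ι g₀ := by rw [hg]
        _ = x * (ι g * ι g₀) := by group
        _ = ι g * ι g₀ * x := hcon
        _ = ι g * (ι g₀ * x) := by group
    exact mul_left_cancel h3
  have e : {g : Γ // ¬ x * ι g = ι g * x} ≃ {g : Γ // x * ι g = ι g * x} :=
    { toFun := fun g => ⟨g.1 * g₀⁻¹, hA g.1 g.2⟩
      invFun := fun g => ⟨g.1 * g₀, hB g.1 g.2⟩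
      left_inv := fun g => Subtype.ext (by simp)
      right_inv := fun g => Subtype.ext (by simp) }
  have h1 := Nat.card_congr e
  refine ⟨h1, ?_⟩
  have h2 := card_add_card_not (fun g : Γ => x * ι g = ι g * x)
  omega

/-- An elementary abelian subgroup of order `2 ^ (m + 1)` of an extraspecial group of order
`2 ^ (2 m + 1)` is self-centralising. -/
theorem es2_centralizer_eq [Finite E] (hE : IsExtraspecial 2 E) (m : ℕ)
    (hcard : Nat.card E = 2 ^ (2 * m + 1)) (A : Subgroup E) (hA : IsElementaryAbelian 2 A)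
    (hAc : Nat.card A = 2 ^ (m + 1)) : Subgroup.centralizer (A : Set E) = A := by
  classical
  obtain ⟨z, hzZ, hz1, hzz, hzc⟩ := es2_center_cases hE
  have hzcomm : ∀ y : E, z * y = y * z := fun y => (Subgroup.mem_center_iff.mp hzZ y).symm
  let _ : Fintype E := Fintype.ofFinite E
  let _ : Fintype ↥A := Fintype.ofFinite _
  have hAle : A ≤ Subgroup.centralizer (A : Set E) := by
    intro a ha
    rw [Subgroup.mem_centralizer_iff]
    intro b hb
    have h1 := hA.1.is_comm.comm ⟨b, hb⟩ ⟨a, ha⟩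
    exact congrArg Subtype.val h1
  have hp1 : 2 ^ (m + 1) = 2 * 2 ^ m := by ring
  have hp2 : 2 ^ (2 * m + 1) = 2 * (2 ^ m * 2 ^ m) := by ring
  have hf1 : ∀ e : E, e ∈ Subgroup.centralizer (A : Set E) →
      Nat.card {b : ↥A // e * (b : E) = (b : E) * e} = 2 * 2 ^ m := by
    intro e he
    rw [← hp1, ← hAc]
    exact Nat.card_congr (Equiv.subtypeUnivEquiv (fun b =>
      ((Subgroup.mem_centralizer_iff.mp he) (b : E) b.2).symm))
  have hf2 : ∀ e : E, e ∉ Subgroup.centralizer (A : Set E) →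
      Nat.card {b : ↥A // e * (b : E) = (b : E) * e} = 2 ^ m := by
    intro e he
    rw [Subgroup.mem_centralizer_iff] at he
    push Not at he
    obtain ⟨b₀, hb₀, hne⟩ := he
    have h1 := (es2_half A.subtype e z hzcomm hzz (es2_dich hE hzc e) ⟨b₀, hb₀⟩
      (fun h => hne h.symm)).2
    rw [hAc, hp1] at h1
    have h2 : Nat.card {g : ↥A // e * A.subtype g = A.subtype g * e} =
        Nat.card {b : ↥A // e * (b : E) = (b : E) * e} := rfl
    omega
  have hg1 : ∀ b : ↥A, (b : E) ∈ Subgroup.center E →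
      Nat.card {e : E // e * (b : E) = (b : E) * e} = 2 * (2 ^ m * 2 ^ m) := by
    intro b hb
    rw [← hp2, ← hcard]
    exact Nat.card_congr (Equiv.subtypeUnivEquiv (fun e => Subgroup.mem_center_iff.mp hb e))
  have hg2 : ∀ b : ↥A, (b : E) ∉ Subgroup.center E →
      Nat.card {e : E // e * (b : E) = (b : E) * e} = 2 ^ m * 2 ^ m := by
    intro b hb
    rw [Subgroup.mem_center_iff] at hb
    push Not at hb
    obtain ⟨e₀, he₀⟩ := hb
    have h1 := (es2_half (MonoidHom.id E) (b : E) z hzcomm hzz (es2_dich hE hzc (b : E)) e₀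
      (fun h => he₀ h.symm)).2
    rw [hcard, hp2] at h1
    have h2 : Nat.card {g : E // (b : E) * (MonoidHom.id E) g = (MonoidHom.id E) g * (b : E)} =
        Nat.card {e : E // e * (b : E) = (b : E) * e} :=
      Nat.card_congr (Equiv.subtypeEquivRight (fun e => eq_comm))
    omega
  have hdc := card_double_count (fun (e : E) (b : ↥A) => e * (b : E) = (b : E) * e)
  rw [sum_two_valued (fun e : E => e ∈ Subgroup.centralizer (A : Set E)) _ (2 * 2 ^ m) (2 ^ m)
      hf1 hf2,
    sum_two_valued (fun b : ↥A => (b : E) ∈ Subgroup.center E) _ (2 * (2 ^ m * 2 ^ m))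
      (2 ^ m * 2 ^ m) hg1 hg2] at hdc
  have e2 := card_add_card_not (fun e : E => e ∈ Subgroup.centralizer (A : Set E))
  have e3 := card_add_card_not (fun b : ↥A => (b : E) ∈ Subgroup.center E)
  rw [hcard, hp2] at e2
  rw [hAc, hp1] at e3
  have hk : Nat.card {b : ↥A // (b : E) ∈ Subgroup.center E} ≤ 2 := by
    rw [← hE.2]
    apply Nat.card_le_card_of_injective
      (fun b : {b : ↥A // (b : E) ∈ Subgroup.center E} => (⟨(b.1 : E), b.2⟩ : Subgroup.center E))
    intro b1 b2 h
    have h' : ((b1.1 : ↥A) : E) = ((b2.1 : ↥A) : E) :=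
      congrArg (fun c : ↥(Subgroup.center E) => (c : E)) h
    exact Subtype.ext (Subtype.ext h')
  obtain ⟨a', ha'⟩ : ∃ a' : ℕ, a' = 2 ^ m := ⟨_, rfl⟩
  rw [← ha'] at hdc e2 e3
  have ha'pos : 0 < a' := ha' ▸ pow_pos (by norm_num) m
  obtain ⟨cC, hcC⟩ : ∃ cC : ℕ, cC = Nat.card {e : E // e ∈ Subgroup.centralizer (A : Set E)} :=
    ⟨_, rfl⟩
  obtain ⟨cC', hcC'⟩ : ∃ cC' : ℕ,
      cC' = Nat.card {e : E // e ∉ Subgroup.centralizer (A : Set E)} := ⟨_, rfl⟩
  obtain ⟨k, hk'⟩ : ∃ k : ℕ, k = Nat.card {b : ↥A // (b : E) ∈ Subgroup.center E} := ⟨_, rfl⟩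
  obtain ⟨k', hk''⟩ : ∃ k' : ℕ, k' = Nat.card {b : ↥A // (b : E) ∉ Subgroup.center E} :=
    ⟨_, rfl⟩
  rw [← hcC, ← hcC', ← hk', ← hk''] at hdc
  rw [← hcC, ← hcC'] at e2
  rw [← hk', ← hk''] at e3
  rw [← hk'] at hk
  have hkey : a' * cC = a' * (k * a') := by
    have h1 : (cC : ℤ) * (2 * a') + cC' * a' = k * (2 * (a' * a')) + k' * (a' * a') := by
      exact_mod_cast hdc
    have h2 : (cC : ℤ) + cC' = 2 * (a' * a') := by exact_mod_cast e2
    have h3 : (k : ℤ) + k' = 2 * a' := by exact_mod_cast e3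
    have h4 : (a' : ℤ) * cC = a' * (k * a') := by
      linear_combination h1 - (a' : ℤ) * h2 + (a' : ℤ) * a' * h3
    exact_mod_cast h4
  have hcCeq : cC = k * a' := Nat.eq_of_mul_eq_mul_left ha'pos hkey
  have hle : Nat.card ↥(Subgroup.centralizer (A : Set E)) ≤ Nat.card ↥A := by
    have h5 : Nat.card ↥(Subgroup.centralizer (A : Set E)) = cC := hcC.symm
    rw [h5, hAc, hp1, ← ha', hcCeq]
    exact Nat.mul_le_mul_right a' hk
  exact (Subgroup.eq_of_le_of_card_ge hAle hle).symm

/-- The number of elements of order 4 in an extraspecial 2-group of plus type. -/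
theorem es2_card_order_four [Finite E] (hE : IsExtraspecial 2 E) (m : ℕ)
    (hcard : Nat.card E = 2 ^ (2 * m + 1)) (A : Subgroup E) (hA : IsElementaryAbelian 2 A)
    (hAc : Nat.card A = 2 ^ (m + 1)) :
    Nat.card {x : E // orderOf x = 4} = 2 ^ (2 * m) - 2 ^ m := by
  classical
  obtain ⟨z, hzZ, hz1, hzz, hzc⟩ := es2_center_cases hE
  have hzcomm : ∀ y : E, z * y = y * z := fun y => (Subgroup.mem_center_iff.mp hzZ y).symm
  let _ : Fintype E := Fintype.ofFinite E
  let _ : Fintype ↥A := Fintype.ofFinite _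
  have hCA := es2_centralizer_eq hE m hcard A hA hAc
  have hsq : ∀ x : E, x * x = 1 ∨ x * x = z := by
    intro x
    have h1 := Cfsg.Agent.Lib.Helper19.es_pow_mem_center hE x
    rw [pow_two] at h1
    exact hzc _ h1
  have hord : ∀ x : E, orderOf x = 4 ↔ x * x = z := by
    intro x
    constructor
    · intro hx4
      rcases hsq x with h | h
      · exfalso
        have h2 : orderOf x ∣ 2 := orderOf_dvd_of_pow_eq_one (by rw [pow_two]; exact h)
        rw [hx4] at h2
        omega
      · exact h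
    · intro h
      have hf2 : Fact (Nat.Prime 2) := ⟨Nat.prime_two⟩
      have h1 : ¬ x ^ 2 ^ 1 = 1 := by
        rw [pow_one, pow_two, h]
        exact hz1
      have h2 : x ^ 2 ^ (1 + 1) = 1 := by
        have e : x ^ 2 ^ (1 + 1) = (x * x) * (x * x) := by
          rw [show (2 : ℕ) ^ (1 + 1) = 4 from rfl]
          simp only [pow_succ, pow_zero, one_mul, mul_assoc]
        rw [e, h, hzz]
      exact orderOf_eq_prime_pow h1 h2
  rw [Nat.card_congr (Equiv.subtypeEquivRight hord)]
  obtain ⟨N, hN⟩ : ∃ N, N = Nat.card {x : E // x * x = z} := ⟨_, rfl⟩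
  rw [← hN]
  have haa : ∀ a ∈ A, a * a = 1 := by
    intro a ha
    have h1 := hA.2 a ha
    rwa [pow_two] at h1
  have hp1 : 2 ^ (m + 1) = 2 * 2 ^ m := by ring
  have hp2 : 2 ^ (2 * m + 1) = 2 * 2 ^ (2 * m) := by ring
  have hfx1 : ∀ x : E, x ∈ A →
      Nat.card {a : ↥A // (x * (a : E)) * (x * (a : E)) = z} = 0 := by
    intro x hx
    have hemp : IsEmpty {a : ↥A // (x * (a : E)) * (x * (a : E)) = z} := by
      constructor
      rintro ⟨a, ha⟩
      have h1 := haa _ (A.mul_mem hx a.2)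
      rw [h1] at ha
      exact hz1 ha.symm
    exact Nat.card_of_isEmpty
  have hfx2 : ∀ x : E, x ∉ A →
      Nat.card {a : ↥A // (x * (a : E)) * (x * (a : E)) = z} = 2 ^ m := by
    intro x hx
    have hxC : x ∉ Subgroup.centralizer (A : Set E) := by rw [hCA]; exact hx
    rw [Subgroup.mem_centralizer_iff] at hxC
    push Not at hxC
    obtain ⟨a₀, ha₀, hne⟩ := hxC
    have hh := es2_half A.subtype x z hzcomm hzz (es2_dich hE hzc x) ⟨a₀, ha₀⟩
      (fun h => hne h.symm)
    have hc1 : Nat.card {g : ↥A // x * A.subtype g = A.subtype g * x} = 2 ^ m := by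
      have h1 := hh.2
      rw [hAc, hp1] at h1
      omega
    have hc2 : Nat.card {g : ↥A // ¬ x * A.subtype g = A.subtype g * x} = 2 ^ m := by
      rw [hh.1, hc1]
    rcases hsq x with hx1 | hxz
    · rw [← hc2]
      apply Nat.card_congr
      apply Equiv.subtypeEquivRight
      intro a
      show (x * (a : E)) * (x * (a : E)) = z ↔ ¬ x * (a : E) = (a : E) * x
      constructor
      · intro h hcomm
        have e : (x * (a : E)) * (x * (a : E)) = (x * x) * ((a : E) * (a : E)) := by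
          calc (x * (a : E)) * (x * (a : E)) = x * ((a : E) * x) * (a : E) := by group
            _ = x * (x * (a : E)) * (a : E) := by rw [hcomm]
            _ = (x * x) * ((a : E) * (a : E)) := by group
        rw [e, hx1, haa _ a.2, one_mul] at h
        exact hz1 h.symm
      · intro hnc
        have hv : x * (a : E) = z * (a : E) * x := (es2_dich hE hzc x (a : E)).resolve_left hnc
        calc (x * (a : E)) * (x * (a : E)) = (z * (a : E) * x) * (x * (a : E)) := by rw [hv]
          _ = z * (a : E) * (x * x) * (a : E) := by group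
          _ = z * ((a : E) * (a : E)) := by rw [hx1]; group
          _ = z := by rw [haa _ a.2, mul_one]
    · rw [← hc1]
      apply Nat.card_congr
      apply Equiv.subtypeEquivRight
      intro a
      show (x * (a : E)) * (x * (a : E)) = z ↔ x * (a : E) = (a : E) * x
      constructor
      · intro h
        by_contra hnc
        have hv : x * (a : E) = z * (a : E) * x := (es2_dich hE hzc x (a : E)).resolve_left hnc
        have e : (x * (a : E)) * (x * (a : E)) = 1 := by
          calc (x * (a : E)) * (x * (a : E)) = (z * (a : E) * x) * (x * (a : E)) := by rw [hv]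
            _ = z * (a : E) * (x * x) * (a : E) := by group
            _ = z * ((a : E) * z) * (a : E) := by rw [hxz]; group
            _ = z * (z * (a : E)) * (a : E) := by rw [hzcomm (a : E)]
            _ = (z * z) * ((a : E) * (a : E)) := by group
            _ = 1 := by rw [hzz, haa _ a.2, one_mul]
        rw [e] at h
        exact hz1 h.symm
      · intro hcomm
        calc (x * (a : E)) * (x * (a : E)) = x * ((a : E) * x) * (a : E) := by group
          _ = x * (x * (a : E)) * (a : E) := by rw [hcomm]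
          _ = (x * x) * ((a : E) * (a : E)) := by group
          _ = z := by rw [hxz, haa _ a.2, mul_one]
  have hga : ∀ a : ↥A, Nat.card {x : E // (x * (a : E)) * (x * (a : E)) = z} = N := by
    intro a
    rw [hN]
    exact Nat.card_congr ((Equiv.mulRight (a : E)).subtypeEquiv (fun x => Iff.rfl))
  have hdc := card_double_count (fun (x : E) (a : ↥A) => (x * (a : E)) * (x * (a : E)) = z)
  rw [sum_two_valued (fun x : E => x ∈ A) _ 0 (2 ^ m) hfx1 hfx2,
    Finset.sum_congr rfl (fun a _ => hga a), Finset.sum_const, Finset.card_univ,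
    smul_eq_mul, ← Nat.card_eq_fintype_card, hAc, hp1] at hdc
  have e2 := card_add_card_not (fun x : E => x ∈ A)
  have e2' : Nat.card {x : E // x ∈ A} = 2 * 2 ^ m := by
    rw [← hp1, ← hAc]
  rw [hcard, hp2, e2'] at e2
  obtain ⟨a', ha'⟩ : ∃ a' : ℕ, a' = 2 ^ m := ⟨_, rfl⟩
  obtain ⟨q, hq⟩ : ∃ q : ℕ, q = 2 ^ (2 * m) := ⟨_, rfl⟩
  obtain ⟨c', hc'⟩ : ∃ c' : ℕ, c' = Nat.card {x : E // x ∉ A} := ⟨_, rfl⟩
  rw [← ha', ← hc'] at hdc
  rw [← ha', ← hq, ← hc'] at e2
  rw [← ha', ← hq]
  have ha'pos : 0 < a' := ha' ▸ pow_pos (by norm_num) m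
  have h5 : a' * c' = a' * (2 * N) := by
    have h6 : c' * a' = 2 * a' * N := by omega
    calc a' * c' = c' * a' := by ring
      _ = 2 * a' * N := h6
      _ = a' * (2 * N) := by ring
  have h7 : c' = 2 * N := Nat.eq_of_mul_eq_mul_left ha'pos h5
  omega

end ES

end Cfsg.Agent.Lib.Helper18
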