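import Cfsg.Agent.Lib.Helper18.FStarComm
import Cfsg.Agent.Lib.Helper17.CoprimeComm

set_option autoImplicit false
open Cfsg

namespace Cfsg.Agent.Lib.Helper18

open scoped commutatorElement

universe u

variable {G : Type u} [Group G]

/-- If `O_p(G) = 1`, a nilpotent subnormal subgroup has order prime to `p`. -/
theorem card_coprime_of_subnormal_nilpotent [Finite G] {p : ℕ} [Fact p.Prime]
    (hO : pCore p G = ⊥) {N : Subgroup G} (hN : N.IsSubnormal) (hnil : Group.IsNilpotent ↥N) :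
    (Nat.card ↥N).Coprime p := by
  have P : Sylow p ↥N := default
  have hPn : (P : Subgroup ↥N).Normal := by
    have h0 := ((Group.isNilpotent_of_finite_tfae (G := ↥N)).out 0 3).mp hnil
    exact h0 p inferInstance P
  have h1 : (P : Subgroup ↥N).map N.subtype ≤ pCoreOf p N :=
    le_pCoreOf (Subgroup.map_subtype_le _) (le_normalizer_map_subtype_of_normal _)
      (P.isPGroup'.map _)
  have h2 : pCoreOf p N ≤ pCore p G :=
    Cfsg.Agent.Lib.Helper17.pCoreOf_le_pCore_of_isSubnormal hN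
  have h3 : (P : Subgroup ↥N) = ⊥ := by
    have h4 : (P : Subgroup ↥N).map N.subtype = ⊥ := by
      rw [← le_bot_iff, ← hO]; exact h1.trans h2
    exact (Subgroup.map_eq_bot_iff_of_injective _ (Subgroup.subtype_injective _)).mp h4
  have h5 := P.not_dvd_index
  rw [h3, Subgroup.index_bot] at h5
  exact ((Nat.Prime.coprime_iff_not_dvd Fact.out).mpr h5).symm

/-- Conjugation by an element of the normaliser, restricted to the subgroup. -/
def conjRestr (L : Subgroup G) (q : G) (hq : q ∈ Subgroup.normalizer (L : Set G)) : ↥L →* ↥L where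
  toFun l := ⟨q * l * q⁻¹, (Subgroup.mem_normalizer_iff.mp hq l).mp l.2⟩
  map_one' := by
    apply Subtype.ext
    simp
  map_mul' a b := by
    apply Subtype.ext
    simp [mul_assoc]

theorem conjRestr_coe (L : Subgroup G) (q : G) (hq : q ∈ Subgroup.normalizer (L : Set G))
    (l : ↥L) : ((conjRestr L q hq l : ↥L) : G) = q * l * q⁻¹ := rfl

/-- The "norm" homomorphism `L → L/L'`, `l ↦ ∏_{q ∈ Q} l^q`, for `Q ≤ N(L)`. -/
noncomputable def normAb [Finite G] (L Q : Subgroup G)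
    (hQL : Q ≤ Subgroup.normalizer (L : Set G)) : ↥L →* Abelianization ↥L :=
  letI : Fintype ↥Q := Fintype.ofFinite _
  ∏ q : ↥Q, (Abelianization.of).comp (conjRestr L (q : G) (hQL q.2))

theorem normAb_apply [Finite G] (L Q : Subgroup G)
    (hQL : Q ≤ Subgroup.normalizer (L : Set G)) (l : ↥L) :
    letI : Fintype ↥Q := Fintype.ofFinite _
    normAb L Q hQL l = ∏ q : ↥Q, Abelianization.of (conjRestr L (q : G) (hQL q.2) l) := by
  unfold normAb
  rw [MonoidHom.finsetProd_apply]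
  rfl

theorem normAb_conj [Finite G] (L Q : Subgroup G)
    (hQL : Q ≤ Subgroup.normalizer (L : Set G)) (q₀ : ↥Q) (l : ↥L) :
    normAb L Q hQL (conjRestr L (q₀ : G) (hQL q₀.2) l) = normAb L Q hQL l := by
  let _ : Fintype ↥Q := Fintype.ofFinite _
  rw [normAb_apply, normAb_apply]
  apply Fintype.prod_equiv (Equiv.mulRight q₀)
  intro q
  congr 1
  apply Subtype.ext
  simp only [conjRestr_coe, Equiv.coe_mulRight, Subgroup.coe_mul, mul_inv_rev]
  group

theorem normAb_commutator [Finite G] (L Q : Subgroup G)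
    (hQL : Q ≤ Subgroup.normalizer (L : Set G)) (hLQ : ⁅L, Q⁆ = L) (x : ↥L) :
    normAb L Q hQL x = 1 := by
  have key : L ≤ (normAb L Q hQL).ker.map L.subtype := by
    conv_lhs => rw [← hLQ]
    rw [Subgroup.commutator_le]
    intro l hl q hq
    have hmem : ⁅l, q⁆ ∈ L := by
      rw [commutatorElement_def]
      have h2 : l * q * l⁻¹ * q⁻¹ = l * (q * l⁻¹ * q⁻¹) := by group
      rw [h2]
      exact L.mul_mem hl ((Subgroup.mem_normalizer_iff.mp (hQL hq) l⁻¹).mp (L.inv_mem hl))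
    have h1 : (⟨⁅l, q⁆, hmem⟩ : ↥L) = ⟨l, hl⟩ * (conjRestr L q (hQL hq) ⟨l, hl⟩)⁻¹ := by
      apply Subtype.ext
      simp only [Subgroup.coe_mul, Subgroup.coe_inv, conjRestr_coe, commutatorElement_def]
      group
    refine ⟨⟨⁅l, q⁆, hmem⟩, ?_, rfl⟩
    rw [SetLike.mem_coe, MonoidHom.mem_ker, h1, map_mul, map_inv]
    have h3 := normAb_conj L Q hQL ⟨q, hq⟩ ⟨l, hl⟩
    rw [h3, mul_inv_cancel]
  obtain ⟨x', hx', e⟩ := key x.2
  have : x' = x := Subtype.ext e
  rw [← this]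
  exact MonoidHom.mem_ker.mp hx'

/-- If `L = [L, Q]` and `x ∈ L` is centralised by `Q` then `x ^ |Q| ∈ L'`. -/
theorem pow_card_mem_commutator_of_centralized [Finite G] {L Q : Subgroup G}
    (hQL : Q ≤ Subgroup.normalizer (L : Set G)) (hLQ : ⁅L, Q⁆ = L) {x : G} (hxL : x ∈ L)
    (hxQ : x ∈ Subgroup.centralizer (Q : Set G)) : x ^ Nat.card ↥Q ∈ ⁅L, L⁆ := by
  let _ : Fintype ↥Q := Fintype.ofFinite _
  have h1 := normAb_commutator L Q hQL hLQ ⟨x, hxL⟩
  rw [normAb_apply] at h1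
  have h2 : ∀ q : ↥Q, Abelianization.of (conjRestr L (q : G) (hQL q.2) ⟨x, hxL⟩) =
      Abelianization.of (⟨x, hxL⟩ : ↥L) := by
    intro q
    congr 1
    apply Subtype.ext
    rw [conjRestr_coe]
    have h3 := Subgroup.mem_centralizer_iff.mp hxQ (q : G) q.2
    show (q : G) * x * (q : G)⁻¹ = x
    rw [h3, mul_inv_cancel_right]
  rw [Finset.prod_congr rfl (fun q _ => h2 q), Finset.prod_const, Finset.card_univ,
    ← Nat.card_eq_fintype_card, ← map_pow] at h1
  have h4 : (⟨x, hxL⟩ : ↥L) ^ Nat.card ↥Q ∈ _root_.commutator ↥L := by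
    rw [← Abelianization.ker_of]
    exact MonoidHom.mem_ker.mpr h1
  rw [← Subgroup.map_subtype_commutator]
  exact ⟨_, h4, rfl⟩

/-- A central subgroup inside the derived subgroup lies in every maximal subgroup. -/
theorem le_coatom_of_central_of_le_commutator {K : Type*} [Group K] {Z M : Subgroup K}
    (hZc : Z ≤ Subgroup.center K) (hZd : Z ≤ _root_.commutator K) (hM : IsCoatom M) : Z ≤ M := by
  by_contra hZM
  have htop : M ⊔ Z = ⊤ := by
    apply hM.2
    refine lt_of_le_of_ne le_sup_left ?_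
    intro e
    apply hZM
    rw [e]; exact le_sup_right
  have hMZ : M ≤ Subgroup.normalizer (Z : Set K) := by
    intro m _
    rw [Subgroup.mem_normalizer_iff]
    intro z
    constructor
    · intro hz
      have h1 : m * z * m⁻¹ = z := by
        rw [Subgroup.mem_center_iff.mp (hZc hz) m, mul_inv_cancel_right]
      rw [h1]; exact hz
    · intro hz
      have h := Subgroup.mem_center_iff.mp (hZc hz) m⁻¹
      have h2 : m⁻¹ * (m * z * m⁻¹) = z * m⁻¹ := by group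
      rw [h2] at h
      have h1 : z = m * z * m⁻¹ := mul_right_cancel h
      rw [h1]; exact hz
  have hcomm : _root_.commutator K ≤ M := by
    rw [commutator_def, Subgroup.commutator_le]
    intro a _ b _
    have ha : a ∈ M ⊔ Z := by rw [htop]; exact Subgroup.mem_top _
    have hb : b ∈ M ⊔ Z := by rw [htop]; exact Subgroup.mem_top _
    obtain ⟨m₁, hm₁, z₁, hz₁, rfl⟩ := mem_sup_of_le_normalizer hMZ ha
    obtain ⟨m₂, hm₂, z₂, hz₂, rfl⟩ := mem_sup_of_le_normalizer hMZ hb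
    have h1 : ⁅m₁ * z₁, m₂ * z₂⁆ = ⁅m₁, m₂⁆ := by
      have c1 : ∀ g : K, g * z₁ = z₁ * g := fun g => Subgroup.mem_center_iff.mp (hZc hz₁) g
      have c2 : ∀ g : K, g * z₂ = z₂ * g := fun g => Subgroup.mem_center_iff.mp (hZc hz₂) g
      simp only [commutatorElement_def, mul_inv_rev]
      calc m₁ * z₁ * (m₂ * z₂) * (z₁⁻¹ * m₁⁻¹) * (z₂⁻¹ * m₂⁻¹)
          = m₁ * (z₁ * m₂) * (z₂ * z₁⁻¹) * m₁⁻¹ * z₂⁻¹ * m₂⁻¹ := by group
        _ = m₁ * (m₂ * z₁) * (z₂ * z₁⁻¹) * m₁⁻¹ * z₂⁻¹ * m₂⁻¹ := by rw [c1 m₂]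
        _ = m₁ * m₂ * (z₁ * z₂ * z₁⁻¹) * m₁⁻¹ * z₂⁻¹ * m₂⁻¹ := by group
        _ = m₁ * m₂ * (z₂ * z₁ * z₁⁻¹) * m₁⁻¹ * z₂⁻¹ * m₂⁻¹ := by rw [c2 z₁]
        _ = m₁ * m₂ * (z₂ * m₁⁻¹) * z₂⁻¹ * m₂⁻¹ := by group
        _ = m₁ * m₂ * (m₁⁻¹ * z₂) * z₂⁻¹ * m₂⁻¹ := by rw [c2 m₁⁻¹]
        _ = m₁ * m₂ * m₁⁻¹ * m₂⁻¹ := by group
    rw [h1]
    rw [commutatorElement_def]
    exact M.mul_mem (M.mul_mem (M.mul_mem hm₁ hm₂) (M.inv_mem hm₁)) (M.inv_mem hm₂)
  exact hZM (hZd.trans hcomm)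

/-- `Z ≤ Z(L) ∩ L'` implies `Z ≤ Φ(L)`. -/
theorem le_frattini_of_central_of_le_commutator {L Z : Subgroup G} (hZL : Z ≤ L)
    (hZc : Z ≤ Subgroup.centralizer (L : Set G)) (hZd : Z ≤ ⁅L, L⁆) :
    Z ≤ (frattini ↥L).map L.subtype := by
  have h1 : Z.subgroupOf L ≤ frattini ↥L := by
    unfold frattini Order.radical
    refine le_iInf₂ ?_
    intro M hM
    apply le_coatom_of_central_of_le_commutator _ _ hM
    · intro z hz
      rw [Subgroup.mem_center_iff]
      intro g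
      exact Subtype.ext (Subgroup.mem_centralizer_iff.mp (hZc (Subgroup.mem_subgroupOf.mp hz))
        (g : G) g.2)
    · intro z hz
      have h2 : (z : G) ∈ ⁅L, L⁆ := hZd (Subgroup.mem_subgroupOf.mp hz)
      rw [← Subgroup.map_subtype_commutator] at h2
      obtain ⟨z', hz', e⟩ := h2
      have : z' = z := Subtype.ext e
      rw [← this]; exact hz'
  have h2 := Subgroup.map_mono (f := L.subtype) h1
  rw [Subgroup.subgroupOf_map_subtype, inf_of_le_left hZL] at h2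
  exact h2

/-- `[l, b^n] = [l, b]^n` when `b` commutes with `[l, b]`. -/
theorem commutatorElement_pow_right {l b : G} (h : b * ⁅l, b⁆ = ⁅l, b⁆ * b) (n : ℕ) :
    ⁅l, b ^ n⁆ = ⁅l, b⁆ ^ n := by
  induction n with
  | zero => simp
  | succ n ih =>
    have h1 : ⁅l, b ^ (n + 1)⁆ = ⁅l, b ^ n⁆ * (b ^ n * ⁅l, b⁆ * (b ^ n)⁻¹) := by
      rw [pow_succ]
      simp only [commutatorElement_def]
      group
    have h2 : b ^ n * ⁅l, b⁆ = ⁅l, b⁆ * b ^ n := by
      have : Commute b ⁅l, b⁆ := h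
      exact (this.pow_left n)
    rw [h1, ih, h2, mul_inv_cancel_right, pow_succ]

end Cfsg.Agent.Lib.Helper18
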