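import Cfsg.Agent.Lib.Helper18.Large2
import Cfsg.Agent.Lib.Helper18.CharP
import Cfsg.Agent.Lib.Helper1.PQ

set_option autoImplicit false

namespace Cfsg.Agent.Lib.Helper18

open Cfsg
open scoped commutatorElement

section

variable {H : Type*} [Group H] {p : ℕ}

/-- `O_p(C_L(O_p(L))) ≤ O_p(L)`. -/
theorem pCoreOf_inf_centralizer_le (p : ℕ) (L : Subgroup H) :
    pCoreOf p (L ⊓ Subgroup.centralizer (pCoreOf p L : Set H)) ≤ pCoreOf p L := by
  refine le_pCoreOf ((pCoreOf_le p _).trans inf_le_left) ?_ (pCoreOf_isPGroup p _)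
  exact (le_normalizer_inf_centralizer_pCoreOf p L).trans (normalizer_le_normalizer_pCoreOf p _)

/-- Thompson's lemma in elementwise form: a `p'`-element `c` centralising the `p`-group `P`
and normalising the `p`-group `U` (also normalised by `P`) centralises `U` as soon as it
centralises `C_U(P)`. -/
theorem centralizes_of_thompson [Finite H] [Fact p.Prime] {P U : Subgroup H} {c : H}
    (hP : IsPGroup p P) (hU : IsPGroup p U) (hcop : (orderOf c).Coprime p)
    (hcP : c ∈ Subgroup.centralizer (P : Set H))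
    (hPU : P ≤ Subgroup.normalizer (U : Set H)) (hcU : c ∈ Subgroup.normalizer (U : Set H))
    (hfix : U ⊓ Subgroup.centralizer (P : Set H) ≤ Subgroup.centralizer ({c} : Set H)) :
    c ∈ Subgroup.centralizer (U : Set H) := by
  have hcard : (Nat.card (Subgroup.zpowers c)).Coprime p := by
    rw [Nat.card_zpowers]; exact hcop
  have hPc : P ≤ Subgroup.centralizer (Subgroup.zpowers c : Set H) :=
    Subgroup.le_centralizer_iff.mp ((Subgroup.zpowers_le).mpr hcP)
  have hfix' : U ⊓ Subgroup.centralizer (P : Set H) ≤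
      Subgroup.centralizer (Subgroup.zpowers c : Set H) := by
    intro x hx
    have h1 := hfix hx
    have h2 : Subgroup.zpowers c ≤ Subgroup.centralizer ({x} : Set H) := by
      refine (Subgroup.zpowers_le).mpr ?_
      rw [Subgroup.mem_centralizer_iff]
      intro u hu
      rw [Set.mem_singleton_iff] at hu; subst hu
      exact (Subgroup.mem_centralizer_iff.mp h1 c (Set.mem_singleton c)).symm
    rw [Subgroup.mem_centralizer_iff]
    intro y hy
    exact (Subgroup.mem_centralizer_iff.mp (h2 hy) x (Set.mem_singleton x)).symm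
  have h := Cfsg.Agent.Lib.Helper1.thompson_pq p P (Subgroup.zpowers c) hP hcard hPc
    (Nat.card U) U le_rfl hU hPU ((Subgroup.zpowers_le).mpr hcU) hfix'
  exact h (Subgroup.mem_zpowers c)

/-- For a large `p`-subgroup `Q ≤ L` with `O_p(L) ≠ 1`: `C_H(O_p(L))` is a `p`-group and `L`
has characteristic `p`. -/
theorem isLarge_charP [Finite H] [Fact p.Prime] {Q : Subgroup H} (hQp : IsPGroup p Q)
    (hQ1 : Q ≠ ⊥) (hL : IsLarge Q) {L : Subgroup H} (hQL : Q ≤ L) (hP1 : pCoreOf p L ≠ ⊥) :
    IsPGroup p (Subgroup.centralizer (pCoreOf p L : Set H)) ∧ CharP p L := by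
  have hPp : IsPGroup p (pCoreOf p L) := pCoreOf_isPGroup p L
  have hQP : Q ≤ Subgroup.normalizer (pCoreOf p L : Set H) := hQL.trans (le_normalizer_pCoreOf p L)
  have hCN : Subgroup.centralizer (pCoreOf p L : Set H) ≤ Subgroup.normalizer (Q : Set H) :=
    isLarge_centralizer_le_normalizer hQp hL hPp hP1 hQP
  have hPN : pCoreOf p L ≤ Subgroup.normalizer (Q : Set H) :=
    le_sup_right.trans (isLarge_le_normalizer_of_le hQp hQ1 hL
      (IsPGroup.to_sup_of_normal_right' hQp hPp hQP) le_sup_left)
  have key : ∀ c ∈ Subgroup.centralizer (pCoreOf p L : Set H), (orderOf c).Coprime p →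
      Q ⊓ Subgroup.centralizer (pCoreOf p L : Set H) ≤ pCoreOf p L → c = 1 := by
    intro c hc hcop hle
    have h1 : c ∈ Subgroup.centralizer (Q : Set H) := by
      apply centralizes_of_thompson hPp hQp hcop hc hPN (hCN hc)
      intro x hx
      rw [Subgroup.mem_centralizer_iff]
      intro u hu
      rw [Set.mem_singleton_iff] at hu; subst hu
      exact (Subgroup.mem_centralizer_iff.mp hc x (hle hx)).symm
    exact eq_one_of_mem_of_coprime hQp (hL.1 h1) hcop
  have hchar : CharP p L := by
    apply charP_of_coprime_eq_one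
    intro c hc hcop
    apply key c (Subgroup.mem_inf.mp hc).2 hcop
    refine le_trans ?_ (pCoreOf_inf_centralizer_le p L)
    refine le_pCoreOf (inf_le_inf_right _ hQL) ?_ (hQp.to_le inf_le_left)
    refine (le_inf (inf_le_right.trans hCN) ?_).trans (normalizer_inf_le _ _)
    exact inf_le_right.trans Subgroup.le_normalizer
  refine ⟨?_, hchar⟩
  apply isPGroup_of_coprime_eq_one (fun c _ => isOfFinOrder_of_finite c)
  intro c hc hcop
  exact key c hc hcop ((inf_le_inf_right _ hQL).trans hchar)

end

end Cfsg.Agent.Lib.Helper18
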