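import Cfsg.Agent.Lib.Helper11.FStarInv
import Cfsg.Agent.Lib.Helper18.CharP
import Cfsg.Agent.Lib.Helper18.Large3

set_option autoImplicit false

namespace Cfsg.Agent.Lib.Helper18

open Cfsg
open scoped commutatorElement

universe u

/-- `F*(X) = O_p(X)` iff `C_X(O_p(X)) ≤ O_p(X)`. -/
theorem genFitting_eq_pCore_iff {X : Type u} [Group X] [Finite X] (p : ℕ) [Fact p.Prime] :
    Cfsg.generalizedFittingSubgroup X = Cfsg.pCore p X ↔
      Subgroup.centralizer (Cfsg.pCore p X : Set X) ≤ Cfsg.pCore p X := by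
  constructor
  · intro h
    have := Cfsg.Agent.Lib.Helper11.centralizer_genFitting_le (G := X)
    rw [h] at this
    exact this
  · intro h
    apply Cfsg.Agent.Lib.Helper11.genFitting_eq_pCore_of_forall p
    · have h1 := Cfsg.Agent.Lib.Helper11.pPrimeCore_le_centralizer_pCore (X := X) p
      have h3 : Cfsg.pPrimeCore p X ≤ Cfsg.pPrimeCore p X ⊓ Cfsg.pCore p X :=
        le_inf le_rfl (h1.trans h)
      have hcop : (Nat.card (Cfsg.pPrimeCore p X)).Coprime (Nat.card (Cfsg.pCore p X)) := by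
        obtain ⟨k, hk⟩ := IsPGroup.iff_card.mp (pCore_isPGroup p X)
        rw [hk]
        exact Nat.Coprime.pow_right k (Cfsg.Agent.Lib.Helper11.pPrimeCore_card_coprime p)
      exact le_bot_iff.mp (h3.trans (Subgroup.disjoint_of_coprime_natCard hcop).le_bot)
    · intro L hL y hy hyo
      have hyQ : y ∈ Cfsg.pCore p X :=
        h (Cfsg.Agent.Lib.Helper11.component_le_centralizer_pCore p hL hy)
      have hp : p.Prime := Fact.out
      exact eq_one_of_mem_of_coprime (pCore_isPGroup p X) hyQ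
        ((Nat.Prime.coprime_iff_not_dvd hp).mpr hyo).symm

/-- `F*(K) = O_p(K)` for a subgroup `K`, in terms of `CharP`. -/
theorem genFitting_eq_pCore_iff_charP {G : Type u} [Group G] [Finite G] (p : ℕ) [Fact p.Prime]
    (K : Subgroup G) :
    Cfsg.generalizedFittingSubgroup ↥K = Cfsg.pCore p ↥K ↔ Cfsg.Agent.Lib.Helper18.CharP p K := by
  rw [genFitting_eq_pCore_iff, charP_iff]

variable {G : Type*} [Group G] {p : ℕ}

/-- In a group `H` of characteristic `p`, the normaliser in `H` of a `p`-subgroup has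
characteristic `p`. -/
theorem charP_inf_normalizer [Finite G] [Fact p.Prime] {H U : Subgroup G}
    (hH : Cfsg.Agent.Lib.Helper18.CharP p H) (hU : IsPGroup p U) (hUH : U ≤ H) :
    Cfsg.Agent.Lib.Helper18.CharP p (H ⊓ Subgroup.normalizer (U : Set G)) := by
  apply charP_of_coprime_eq_one
  intro c hc hcop
  obtain ⟨hcL, hcR⟩ := Subgroup.mem_inf.mp hc
  obtain ⟨hcH, hcN⟩ := Subgroup.mem_inf.mp hcL
  have hUR : U ≤ pCoreOf p (H ⊓ Subgroup.normalizer (U : Set G)) :=
    le_pCoreOf (le_inf hUH Subgroup.le_normalizer) inf_le_right hU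
  have hQR : pCoreOf p H ⊓ Subgroup.normalizer (U : Set G) ≤
      pCoreOf p (H ⊓ Subgroup.normalizer (U : Set G)) := by
    refine le_pCoreOf (inf_le_inf_right _ (pCoreOf_le p H)) ?_
      (IsPGroup.to_inf_left (pCoreOf_isPGroup p H))
    refine le_trans ?_ (normalizer_inf_le _ _)
    exact le_inf (inf_le_left.trans (le_normalizer_pCoreOf p H))
      (inf_le_right.trans Subgroup.le_normalizer)
  have hcU : c ∈ Subgroup.centralizer (U : Set G) :=
    Subgroup.centralizer_le (SetLike.coe_subset_coe.mpr hUR) hcR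
  have hfix : pCoreOf p H ⊓ Subgroup.centralizer (U : Set G) ≤
      Subgroup.centralizer ({c} : Set G) := by
    intro x hx
    obtain ⟨hxQ, hxC⟩ := Subgroup.mem_inf.mp hx
    have hxR : x ∈ pCoreOf p (H ⊓ Subgroup.normalizer (U : Set G)) :=
      hQR (Subgroup.mem_inf.mpr ⟨hxQ, Subgroup.centralizer_le_normalizer _ hxC⟩)
    have := Subgroup.mem_centralizer_iff.mp hcR x hxR
    rw [Subgroup.mem_centralizer_iff]
    intro y hy
    rw [Set.mem_singleton_iff] at hy
    rw [hy]; exact this.symm
  have hcQ : c ∈ Subgroup.centralizer (pCoreOf p H : Set G) :=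
    centralizes_of_thompson hU (pCoreOf_isPGroup p H) hcop hcU
      (hUH.trans (le_normalizer_pCoreOf p H)) (le_normalizer_pCoreOf p H hcH) hfix
  exact eq_one_of_mem_of_coprime (pCoreOf_isPGroup p H)
    (hH (Subgroup.mem_inf.mpr ⟨hcH, hcQ⟩)) hcop

/-- In a group `H` of characteristic `p`, the centraliser in `H` of a `p`-subgroup has
characteristic `p`. -/
theorem charP_inf_centralizer [Finite G] [Fact p.Prime] {H U : Subgroup G}
    (hH : Cfsg.Agent.Lib.Helper18.CharP p H) (hU : IsPGroup p U) (hUH : U ≤ H) :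
    Cfsg.Agent.Lib.Helper18.CharP p (H ⊓ Subgroup.centralizer (U : Set G)) := by
  refine charP_of_normalized (charP_inf_normalizer hH hU hUH)
    (inf_le_inf_left _ (Subgroup.centralizer_le_normalizer _)) ?_
  refine (pCoreOf_le p _).trans ?_
  refine le_trans ?_ (normalizer_inf_le _ _)
  exact le_inf (inf_le_left.trans Subgroup.le_normalizer)
    (inf_le_right.trans (normalizer_le_normalizer_centralizer U))

/-- If `B ⊴ H` is a `p`-group and `C_H(B)` has characteristic `p`, so does `H`. -/
theorem charP_of_inf_centralizer [Finite G] [Fact p.Prime] {H B : Subgroup G}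
    (hB : IsPGroup p B) (hBH : B ≤ H) (hHB : H ≤ Subgroup.normalizer (B : Set G))
    (hC : Cfsg.Agent.Lib.Helper18.CharP p (H ⊓ Subgroup.centralizer (B : Set G))) :
    Cfsg.Agent.Lib.Helper18.CharP p H := by
  unfold Cfsg.Agent.Lib.Helper18.CharP
  have hBQ : B ≤ pCoreOf p H := le_pCoreOf hBH hHB hB
  have hNn : H ≤ Subgroup.normalizer
      ((H ⊓ Subgroup.centralizer (B : Set G) : Subgroup G) : Set G) := by
    refine le_trans ?_ (normalizer_inf_le _ _)
    exact le_inf Subgroup.le_normalizer (hHB.trans (normalizer_le_normalizer_centralizer B))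
  have hRQ : pCoreOf p (H ⊓ Subgroup.centralizer (B : Set G)) ≤ pCoreOf p H :=
    le_pCoreOf ((pCoreOf_le p _).trans inf_le_left)
      (hNn.trans (normalizer_le_normalizer_pCoreOf p _)) (pCoreOf_isPGroup p _)
  intro x hx
  obtain ⟨hxH, hxC⟩ := Subgroup.mem_inf.mp hx
  have hxB : x ∈ Subgroup.centralizer (B : Set G) :=
    Subgroup.centralizer_le (SetLike.coe_subset_coe.mpr hBQ) hxC
  have hxR : x ∈ Subgroup.centralizer (pCoreOf p (H ⊓ Subgroup.centralizer (B : Set G)) : Set G) :=
    Subgroup.centralizer_le (SetLike.coe_subset_coe.mpr hRQ) hxC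
  exact hRQ (hC (Subgroup.mem_inf.mpr ⟨Subgroup.mem_inf.mpr ⟨hxH, hxB⟩, hxR⟩))

/-- If `z` is central in the `p`-subgroup `X ≤ M` and `C_M(z)` has characteristic `p`, then
`C_M(X)` and `N_M(X)` have characteristic `p`. -/
theorem charP_inf_of_central [Finite G] [Fact p.Prime] {M X : Subgroup G} {z : G}
    (hX : IsPGroup p X) (hXM : X ≤ M) (hz : z ∈ X) (hzc : ∀ x ∈ X, x * z = z * x)
    (hC : Cfsg.Agent.Lib.Helper18.CharP p (M ⊓ Subgroup.centralizer ({z} : Set G))) :
    Cfsg.Agent.Lib.Helper18.CharP p (M ⊓ Subgroup.centralizer (X : Set G)) ∧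
    Cfsg.Agent.Lib.Helper18.CharP p (M ⊓ Subgroup.normalizer (X : Set G)) := by
  have hXz : X ≤ Subgroup.centralizer ({z} : Set G) := by
    intro x hx
    rw [Subgroup.mem_centralizer_iff]
    intro y hy
    rw [Set.mem_singleton_iff] at hy
    rw [hy]; exact (hzc x hx).symm
  have hle : Subgroup.centralizer (X : Set G) ≤ Subgroup.centralizer ({z} : Set G) :=
    Subgroup.centralizer_le (Set.singleton_subset_iff.mpr hz)
  have h1 := charP_inf_centralizer hC hX (le_inf hXM hXz)
  have e : M ⊓ Subgroup.centralizer ({z} : Set G) ⊓ Subgroup.centralizer (X : Set G)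
      = M ⊓ Subgroup.centralizer (X : Set G) := by
    rw [inf_assoc, inf_eq_right.mpr hle]
  rw [e] at h1
  refine ⟨h1, ?_⟩
  apply charP_of_inf_centralizer hX (le_inf hXM Subgroup.le_normalizer) inf_le_right
  have e2 : M ⊓ Subgroup.normalizer (X : Set G) ⊓ Subgroup.centralizer (X : Set G)
      = M ⊓ Subgroup.centralizer (X : Set G) := by
    rw [inf_assoc, inf_eq_right.mpr (Subgroup.centralizer_le_normalizer _)]
  rw [e2]; exact h1

/-- `CharP` is invariant under conjugation. -/
theorem charP_map_conj {L : Subgroup G} (hL : Cfsg.Agent.Lib.Helper18.CharP p L) (g : G) :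
    Cfsg.Agent.Lib.Helper18.CharP p (L.map (MulAut.conj g).toMonoidHom) := by
  unfold Cfsg.Agent.Lib.Helper18.CharP at hL ⊢
  rw [pCoreOf_map_conj, centralizer_map_conj,
    ← Subgroup.map_inf _ _ _ (MulAut.conj g).injective]
  exact Subgroup.map_mono hL

theorem centralizer_singleton_map_conj (z g : G) :
    Subgroup.centralizer ({g * z * g⁻¹} : Set G) =
      (Subgroup.centralizer ({z} : Set G)).map (MulAut.conj g).toMonoidHom := by
  ext x
  rw [mem_map_conj_iff, mem_centralizer_singleton_iff, mem_centralizer_singleton_iff]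
  constructor
  · intro h
    have e : z * (g⁻¹ * x * g) = g⁻¹ * (g * z * g⁻¹ * x) * g := by group
    rw [e, h]; group
  · intro h
    have e : g * z * g⁻¹ * x = g * (z * (g⁻¹ * x * g)) * g⁻¹ := by group
    rw [e, h]; group

end Cfsg.Agent.Lib.Helper18
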