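import Mathlib

set_option autoImplicit false

namespace Cfsg.Agent.Lib.Helper18

section FixSum

variable {M : Type*} [AddCommGroup M]

theorem geom_fix {R : Type*} [Ring R] (u : R) (p : ℕ) (hu : u ^ p = 1) :
    u * ∑ k ∈ Finset.range p, u ^ k = ∑ k ∈ Finset.range p, u ^ k := by
  have h := mul_geom_sum u p
  rw [hu, sub_self, sub_mul, one_mul, sub_eq_zero] at h
  exact h

theorem end_mul_apply (f g : AddMonoid.End M) (m : M) : (f * g) m = f (g m) := rfl

theorem end_sum_apply {ι : Type*} (s : Finset ι) (f : ι → AddMonoid.End M) (m : M) :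
    (∑ i ∈ s, f i) m = ∑ i ∈ s, f i m :=
  AddMonoidHom.finsetSum_apply f s m

theorem pow_apply_of_fix (u : AddMonoid.End M) (m : M) (h : u m = m) (k : ℕ) :
    (u ^ k) m = m := by
  induction k with
  | zero => simp
  | succ k ih => rw [pow_succ, end_mul_apply, h, ih]

theorem geom_apply_of_fix (u : AddMonoid.End M) (m : M) (h : u m = m) (p : ℕ) :
    (∑ k ∈ Finset.range p, u ^ k) m = p • m := by
  rw [end_sum_apply]
  simp [pow_apply_of_fix u m h]

theorem geom_pow_eq_zero {p : ℕ} (hp : p.Prime) (τ : AddMonoid.End M) (hτ : τ ^ p = 1)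
    (hfix : ∀ m, τ m = m → m = 0) {e : ℕ} (he0 : 0 < e) (hep : e < p) (m : M) :
    (∑ k ∈ Finset.range p, (τ ^ e) ^ k) m = 0 := by
  apply hfix
  have h1 : (τ ^ e) ^ p = 1 := by rw [← pow_mul, mul_comm, pow_mul, hτ, one_pow]
  have h2 : (τ ^ e) ((∑ k ∈ Finset.range p, (τ ^ e) ^ k) m) =
      (∑ k ∈ Finset.range p, (τ ^ e) ^ k) m := by
    rw [← end_mul_apply, geom_fix _ p h1]
  have hcop : Nat.Coprime e p := (Nat.coprime_of_lt_prime he0.ne' hep hp).symm
  obtain ⟨e', -, he'⟩ := Nat.exists_mul_mod_eq_one_of_coprime hcop hp.one_lt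
  have h3 : (τ ^ e) ^ e' = τ := by
    rw [← pow_mul, pow_eq_pow_mod (e * e') hτ, he', pow_one]
  have h4 := pow_apply_of_fix (τ ^ e) _ h2 e'
  rw [h3] at h4
  exact h4

theorem exists_fix_of_commute {p : ℕ} (hp : p.Prime) (σ τ : AddMonoid.End M)
    (hc : Commute σ τ) (hσ : σ ^ p = 1) (hτ : τ ^ p = 1) (hfix : ∀ m, τ m = m → m = 0)
    (htor : ∀ m : M, p • m = 0 → m = 0) (hne : ∃ m : M, m ≠ 0) :
    ∃ i < p, ∃ m : M, m ≠ 0 ∧ (σ * τ ^ i) m = m := by
  by_contra hcon
  push Not at hcon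
  obtain ⟨m, hm⟩ := hne
  apply hm
  apply htor
  have key : (∑ i ∈ Finset.range p, ∑ k ∈ Finset.range p, (σ * τ ^ i) ^ k) =
      (p : AddMonoid.End M) := by
    rw [Finset.sum_comm]
    have h1 : ∀ k ∈ Finset.range p, ∑ i ∈ Finset.range p, (σ * τ ^ i) ^ k =
        σ ^ k * ∑ i ∈ Finset.range p, (τ ^ k) ^ i := by
      intro k _
      rw [Finset.mul_sum]
      refine Finset.sum_congr rfl (fun i _ => ?_)
      rw [(hc.pow_right i).mul_pow, ← pow_mul, ← pow_mul, mul_comm i k]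
    rw [Finset.sum_congr rfl h1, Finset.sum_eq_single 0]
    · simp
    · intro k hk hk0
      have h0 : (∑ i ∈ Finset.range p, (τ ^ k) ^ i) = 0 := by
        apply AddMonoidHom.ext
        intro m'
        exact geom_pow_eq_zero hp τ hτ hfix (Nat.pos_of_ne_zero hk0) (Finset.mem_range.mp hk) m'
      rw [h0, mul_zero]
    · intro h; exact absurd (Finset.mem_range.mpr hp.pos) h
  have h2 : (∑ i ∈ Finset.range p, ∑ k ∈ Finset.range p, (σ * τ ^ i) ^ k) m = 0 := by
    rw [end_sum_apply]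
    apply Finset.sum_eq_zero
    intro i hi
    by_contra hne0
    have hρ : (σ * τ ^ i) ^ p = 1 := by
      rw [(hc.pow_right i).mul_pow, hσ, ← pow_mul, mul_comm, pow_mul, hτ, one_pow, one_mul]
    apply hcon i (Finset.mem_range.mp hi) _ hne0
    rw [← end_mul_apply, geom_fix _ p hρ]
  rw [key] at h2
  exact h2

theorem geom_eq_zero_of_fix_ne {p : ℕ} (hp : p.Prime) (σ τ : AddMonoid.End M)
    (hc : Commute σ τ) (hτ : τ ^ p = 1) (hfix : ∀ m, τ m = m → m = 0)
    {i j : ℕ} (hi : i < p) (hj : j < p) (hij : i ≠ j) (m : M) (hm : (σ * τ ^ i) m = m) :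
    (∑ k ∈ Finset.range p, (σ * τ ^ j) ^ k) m = 0 := by
  obtain ⟨e, he0, hep, he⟩ : ∃ e, 0 < e ∧ e < p ∧ σ * τ ^ j = (σ * τ ^ i) * τ ^ e := by
    rcases Nat.lt_or_ge i j with h | h
    · refine ⟨j - i, by omega, by omega, ?_⟩
      rw [mul_assoc, ← pow_add]
      congr 2
      omega
    · refine ⟨p + j - i, by omega, by omega, ?_⟩
      rw [mul_assoc, ← pow_add]
      have e1 : i + (p + j - i) = j + p := by omega
      rw [e1, pow_add, hτ, mul_one]
  have hcm : Commute (σ * τ ^ i) (τ ^ e) :=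
    (hc.pow_right e).mul_left (Commute.pow_pow_self τ i e)
  rw [← geom_pow_eq_zero hp τ hτ hfix he0 hep m, end_sum_apply, end_sum_apply]
  refine Finset.sum_congr rfl (fun k _ => ?_)
  rw [he, hcm.mul_pow, (hcm.pow_pow k k).eq, end_mul_apply, pow_apply_of_fix _ m hm k]

theorem prod_card_fix_le [Finite M] {p : ℕ} (hp : p.Prime) (σ τ : AddMonoid.End M)
    (hc : Commute σ τ) (hτ : τ ^ p = 1) (hfix : ∀ m, τ m = m → m = 0)
    (htor : ∀ m : M, p • m = 0 → m = 0) :
    ∏ i : Fin p, Nat.card {m : M // (σ * τ ^ (i : ℕ)) m = m} ≤ Nat.card M := by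
  rw [← Nat.card_pi]
  apply Nat.card_le_card_of_injective
    (fun x : (∀ i : Fin p, {m : M // (σ * τ ^ (i : ℕ)) m = m}) => ∑ i, (x i : M))
  intro x y hxy
  funext j
  apply Subtype.ext
  have hS : ∀ x : (∀ i : Fin p, {m : M // (σ * τ ^ (i : ℕ)) m = m}),
      (∑ k ∈ Finset.range p, (σ * τ ^ (j : ℕ)) ^ k) (∑ i, (x i : M)) = p • (x j : M) := by
    intro x
    rw [map_sum, Finset.sum_eq_single j]
    · exact geom_apply_of_fix _ _ (x j).2 p
    · intro i _ hij
      exact geom_eq_zero_of_fix_ne hp σ τ hc hτ hfix i.2 j.2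
        (fun h => hij (Fin.ext h)) _ (x i).2
    · intro h; exact absurd (Finset.mem_univ j) h
  have h1 := hS x
  have h1' : (∑ k ∈ Finset.range p, (σ * τ ^ (j : ℕ)) ^ k) (∑ i, (y i : M)) = p • (x j : M) := by
    rw [← h1]; exact congrArg _ hxy.symm
  rw [hS y] at h1'
  have h2 : p • ((x j : M) - (y j : M)) = 0 := by rw [smul_sub, h1', sub_self]
  exact sub_eq_zero.mp (htor _ h2)

end FixSum

end Cfsg.Agent.Lib.Helper18
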