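import Cfsg.Agent.Lib.Helper18.SylowRel
import Cfsg.Agent.Lib.Helper18.Subnormal

set_option autoImplicit false

namespace Cfsg.Agent.Lib.Helper18

open Cfsg

variable {H : Type*} [Group H] {p : ℕ}

theorem map_subtype_map_conj {K : Subgroup H} (X : Subgroup K) (k : K) :
    (X.map (MulAut.conj k).toMonoidHom).map K.subtype =
      (X.map K.subtype).map (MulAut.conj (k : H)).toMonoidHom := by
  rw [Subgroup.map_map, Subgroup.map_map]
  congr 1

theorem wcs_isPGroup {Q : Subgroup H} (hwc : IsWeaklyClosedSubgroup p Q) :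
    IsPGroup p Q := by
  obtain ⟨T, hQT, -⟩ := hwc
  exact T.isPGroup'.to_le hQT

/-- A weakly closed subgroup is weakly closed in every `p`-subgroup containing it. -/
theorem wcs_eq_of_le [Fact p.Prime] [Finite H] {Q : Subgroup H}
    (hwc : IsWeaklyClosedSubgroup p Q) {R : Subgroup H} (hR : IsPGroup p R) (hQR : Q ≤ R)
    {g : H} (hg : Q.map (MulAut.conj g).toMonoidHom ≤ R) :
    Q.map (MulAut.conj g).toMonoidHom = Q := by
  obtain ⟨T, hQT, hT⟩ := hwc
  obtain ⟨T', hRT'⟩ := hR.exists_le_sylow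
  obtain ⟨h, e⟩ := exists_conj_eq_sylow T T'
  rw [e] at hRT'
  have h1 : Q.map (MulAut.conj h⁻¹).toMonoidHom ≤ T := by
    rw [map_conj_le_iff, inv_inv]; exact hQR.trans hRT'
  have h2 := hT h⁻¹ h1
  have h3 : Q.map (MulAut.conj (h⁻¹ * g)).toMonoidHom ≤ T := by
    rw [map_conj_mul, map_conj_le_iff, inv_inv]; exact hg.trans hRT'
  have h4 := hT (h⁻¹ * g) h3
  have e1 : g = h * (h⁻¹ * g) := by group
  have e2 : Q.map (MulAut.conj h).toMonoidHom = Q := by
    conv_lhs => rw [← h2]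
    rw [← map_conj_mul, mul_inv_cancel, map_conj_one]
  rw [e1, map_conj_mul, h4, e2]

theorem wcs_le_normalizer_of_le [Fact p.Prime] [Finite H] {Q : Subgroup H}
    (hwc : IsWeaklyClosedSubgroup p Q) {R : Subgroup H} (hR : IsPGroup p R) (hQR : Q ≤ R) :
    R ≤ Subgroup.normalizer (Q : Set H) := by
  intro r hr
  apply mem_normalizer_of_map_conj_eq
  apply wcs_eq_of_le hwc hR hQR
  rintro _ ⟨q, hq, rfl⟩
  simp only [MulEquiv.coe_toMonoidHom, MulAut.conj_apply]
  exact R.mul_mem (R.mul_mem hr (hQR hq)) (R.inv_mem hr)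

theorem isWeaklyClosedSubgroup_of_forall {Q : Subgroup H} (hQ : IsPGroup p Q)
    (h : ∀ (g : H) (R : Subgroup H), IsPGroup p R → Q ≤ R →
      Q.map (MulAut.conj g).toMonoidHom ≤ R → Q.map (MulAut.conj g).toMonoidHom = Q) :
    IsWeaklyClosedSubgroup p Q := by
  obtain ⟨T, hT⟩ := hQ.exists_le_sylow
  exact ⟨T, hT, fun g hg => h g T T.isPGroup' hT hg⟩

/-- Conjugates of a weakly closed subgroup inside `K` are `K`-conjugate. -/
theorem wcs_exists_conj_eq [Fact p.Prime] [Finite H] {Q : Subgroup H}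
    (hwc : IsWeaklyClosedSubgroup p Q) {K : Subgroup H} (hQK : Q ≤ K) {g : H}
    (hg : Q.map (MulAut.conj g).toMonoidHom ≤ K) :
    ∃ k ∈ K, Q.map (MulAut.conj g).toMonoidHom = Q.map (MulAut.conj k).toMonoidHom := by
  obtain ⟨R, hR, hQR⟩ := exists_isSylowIn_ge (wcs_isPGroup hwc) hQK
  obtain ⟨k, hk, hle⟩ := hR.exists_conj_le ((wcs_isPGroup hwc).map _) hg
  refine ⟨k, hk, ?_⟩
  have h3 : Q.map (MulAut.conj (k⁻¹ * g)).toMonoidHom ≤ R := by
    rw [map_conj_mul, map_conj_le_iff, inv_inv]; exact hle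
  have h4 := wcs_eq_of_le hwc hR.2.1 hQR h3
  have e1 : g = k * (k⁻¹ * g) := by group
  conv_lhs => rw [e1, map_conj_mul, h4]

/-- A weakly closed subgroup of `H` contained in `K` is a weakly closed subgroup of `K`. -/
theorem wcs_subgroupOf [Fact p.Prime] [Finite H] {Q : Subgroup H}
    (hwc : IsWeaklyClosedSubgroup p Q) {K : Subgroup H} (hQK : Q ≤ K) :
    IsWeaklyClosedSubgroup p (Q.subgroupOf K) := by
  apply isWeaklyClosedSubgroup_of_forall ((wcs_isPGroup hwc).comap_subtype)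
  intro k R hR hQR hg
  have hR' : IsPGroup p (R.map K.subtype) := hR.map _
  have e00 : (Q.subgroupOf K).map K.subtype = Q := by
    rw [Subgroup.subgroupOf_map_subtype]; exact inf_eq_left.mpr hQK
  have e0 : (Subgroup.comap K.subtype Q).map K.subtype = Q := e00
  have hQR' : Q ≤ R.map K.subtype := by
    rw [← e0]; exact Subgroup.map_mono hQR
  have hg' : Q.map (MulAut.conj (k : H)).toMonoidHom ≤ R.map K.subtype := by
    have := Subgroup.map_mono (f := K.subtype) hg
    rwa [map_subtype_map_conj, e0] at this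
  have h1 := wcs_eq_of_le hwc hR' hQR' hg'
  apply Subgroup.map_injective K.subtype_injective
  rw [map_subtype_map_conj, e0, h1]

/-- `X = O^p(X) R` for a Sylow `p`-subgroup `R` of `X`. -/
theorem IsSylowIn.pResOf_sup [Fact p.Prime] [Finite H] {R X : Subgroup H}
    (h : IsSylowIn p R X) : pResOf p X ⊔ R = X := by
  obtain ⟨S, rfl⟩ := h.exists_sylow
  have h1 := pResidual_sup_sylow S
  have h2 := congrArg (Subgroup.map X.subtype) h1
  rw [Subgroup.map_sup, map_pResidual_subtype, ← MonoidHom.range_eq_map, Subgroup.range_subtype]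
    at h2
  exact h2

/-- `O^p(Q N) = O^p(N)` for a `p`-group `Q` normalising `N`. -/
theorem pResOf_sup_eq [Fact p.Prime] [Finite H] {Q N : Subgroup H} (hQ : IsPGroup p Q)
    (hQN : Q ≤ Subgroup.normalizer (N : Set H)) : pResOf p (Q ⊔ N) = pResOf p N := by
  apply le_antisymm
  · unfold pResOf
    apply Subgroup.closure_mono
    rintro g ⟨hg, hc⟩
    refine ⟨?_, hc⟩
    obtain ⟨a, ha, d, hd, rfl⟩ := mem_sup_of_le_normalizer hQN hg
    obtain ⟨n, hn⟩ := exists_pow_eq_one_of_mem hQ ha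
    obtain ⟨d', hd', e⟩ := exists_pow_mul_eq (hQN ha) hd (p ^ n)
    apply mem_of_pow_mem_of_coprime (n := n) _ hc
    rw [e, hn, one_mul]; exact hd'
  · exact pResOf_mono p le_sup_right

end Cfsg.Agent.Lib.Helper18
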