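import Mathlib
import Cfsg.Agent.Lib.Helper18.Basic
import Cfsg.Agent.Lib.Helper18.SylowRel
import Cfsg.Agent.Lib.Helper18.SylowL
import Cfsg.Agent.Lib.Helper18.Subnormal
import Cfsg.Agent.Lib.Helper18.YL
import Cfsg.Agent.Lib.Helper18.PIrr
import Cfsg.Agent.Lib.Helper18.PClosed
import Cfsg.Agent.Lib.Helper18.WeakClosed
import Cfsg.Agent.Lib.Helper18.StrEmb
import Cfsg.Agent.Lib.Helper18.Coprime
import Cfsg.Agent.Lib.Helper17.PCore
import Cfsg.Agent.S2820

/-!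
A conjugacy class `𝒦` of subgroups of `H` whose members `E` have `E O_p(H)` normal in
`⟨𝒦⟩ O_p(H)`, with `O^p(H) ≤ ⟨𝒦⟩`: `p`-minimality and `p`-irreducibility pass from the members
to `H`.
-/

set_option autoImplicit false
open Cfsg

namespace Cfsg.Agent.Lib.Helper18

variable {H : Type*} [Group H] {p : ℕ}

/-- a Sylow subgroup of `K` meets a normal subgroup `C` of `K` in a Sylow subgroup of `C`. -/
theorem IsSylowIn.inf_of_le_normalizer [Finite H] [Fact p.Prime] {S K C : Subgroup H}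
    (h : IsSylowIn p S K) (hCK : C ≤ K) (hKC : K ≤ Subgroup.normalizer (C : Set H)) :
    IsSylowIn p (S ⊓ C) C := by
  obtain ⟨S', hS', hle⟩ := exists_isSylowIn_ge (p := p) (R₀ := S ⊓ C) (K := C)
    (h.2.1.to_le inf_le_left) inf_le_right
  obtain ⟨k, hk, hle2⟩ := h.exists_conj_le hS'.2.1 (hS'.1.trans hCK)
  have h1 : S'.map (MulAut.conj k⁻¹).toMonoidHom ≤ S ⊓ C := by
    apply le_inf
    · rw [map_conj_le_iff, inv_inv]; exact hle2
    · have := Subgroup.map_mono (f := (MulAut.conj k⁻¹).toMonoidHom) hS'.1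
      rwa [map_conj_eq_of_mem_normalizer C (hKC (K.inv_mem hk))] at this
  have h2 : S ⊓ C = S' := by
    apply Subgroup.eq_of_le_of_card_ge hle
    calc Nat.card S' = Nat.card (S'.map (MulAut.conj k⁻¹).toMonoidHom) := (card_map_conj _ _).symm
      _ ≤ Nat.card (S ⊓ C : Subgroup H) := Subgroup.card_le_of_le h1
  rw [h2]; exact hS'

/-- Dedekind's law for a normalized `Q ≤ T`. -/
theorem inf_sup_eq_of_le {T E Q : Subgroup H} (hQT : Q ≤ T)
    (hEQ : E ≤ Subgroup.normalizer (Q : Set H)) : T ⊓ (E ⊔ Q) = (T ⊓ E) ⊔ Q := by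
  apply le_antisymm
  · rintro x ⟨hxT, hxEQ⟩
    obtain ⟨e, he, q, hq, hx⟩ := mem_sup_of_le_normalizer hEQ hxEQ
    have heT : e ∈ T := by
      have : e = x * q⁻¹ := by rw [hx]; group
      rw [this]; exact T.mul_mem hxT (T.inv_mem (hQT hq))
    rw [hx]
    exact Subgroup.mul_mem _ (Subgroup.mem_sup_left ⟨heT, he⟩) (Subgroup.mem_sup_right hq)
  · exact sup_le (inf_le_inf_left _ le_sup_left) (le_inf hQT le_sup_right)

section cmod

variable (Q : Subgroup H) [Q.Normal]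

theorem mk'_eq_one_iff {x : H} : QuotientGroup.mk' Q x = 1 ↔ x ∈ Q :=
  QuotientGroup.eq_one_iff x

/-- the centralizer of `B` modulo the normal subgroup `Q`. -/
def cmod (B : Subgroup H) : Subgroup H :=
  (Subgroup.centralizer ((B.map (QuotientGroup.mk' Q) : Subgroup (H ⧸ Q)) : Set (H ⧸ Q))).comap
    (QuotientGroup.mk' Q)

open scoped commutatorElement in
theorem mem_cmod_iff {B : Subgroup H} {a : H} : a ∈ cmod Q B ↔ ∀ b ∈ B, ⁅a, b⁆ ∈ Q := by
  unfold cmod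
  rw [Subgroup.mem_comap, Subgroup.mem_centralizer_iff]
  constructor
  · intro h b hb
    have h1 := h _ ⟨b, hb, rfl⟩
    rw [← mk'_eq_one_iff Q, commutatorElement_def, map_mul, map_mul, map_mul, map_inv, map_inv,
      ← h1]
    group
  · rintro h _ ⟨b, hb, rfl⟩
    have h1 := (mk'_eq_one_iff Q).mpr (h b hb)
    rw [commutatorElement_def, map_mul, map_mul, map_mul, map_inv, map_inv] at h1
    have e : QuotientGroup.mk' Q a * QuotientGroup.mk' Q b *
        (QuotientGroup.mk' Q b * QuotientGroup.mk' Q a)⁻¹ = 1 := by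
      rw [← h1]; group
    exact (mul_inv_eq_one.mp e).symm

theorem le_cmod_iff {A B : Subgroup H} : A ≤ cmod Q B ↔ ⁅A, B⁆ ≤ Q := by
  rw [Subgroup.commutator_le]
  constructor
  · intro h a ha b hb; exact (mem_cmod_iff Q).mp (h ha) b hb
  · intro h a ha; exact (mem_cmod_iff Q).mpr (fun b hb => h a ha b hb)

open scoped commutatorElement in
theorem normalizer_le_normalizer_cmod (B : Subgroup H) :
    Subgroup.normalizer (B : Set H) ≤ Subgroup.normalizer (cmod Q B : Set H) := by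
  apply le_normalizer_of_forall_map_conj_le
  rintro g hg _ ⟨a, ha, rfl⟩
  have ha : a ∈ cmod Q B := ha
  rw [mem_cmod_iff] at ha ⊢
  intro b hb
  have hb' : g⁻¹ * b * g ∈ B := by
    have := (Subgroup.mem_normalizer_iff.mp (Subgroup.inv_mem _ hg) b).mp hb
    simpa using this
  have e : ⁅(MulAut.conj g).toMonoidHom a, b⁆ = g * ⁅a, g⁻¹ * b * g⁆ * g⁻¹ := by
    simp only [commutatorElement_def, MulEquiv.coe_toMonoidHom, MulAut.conj_apply]
    group
  rw [e]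
  exact ‹Q.Normal›.conj_mem _ (ha _ hb') g

open scoped commutatorElement in
/-- if `s` is a `p`-element modulo `Q` and `[g, s]` commutes with `s` modulo `Q`, then `[g, s]`
is a `p`-element modulo `Q`. -/
theorem pow_comm_mem_of_comm {g s : H} {n : ℕ} (hs : s ^ (p ^ n) ∈ Q) (hc : ⁅⁅g, s⁆, s⁆ ∈ Q) :
    ⁅g, s⁆ ^ (p ^ n) ∈ Q := by
  rw [← mk'_eq_one_iff Q] at hs hc ⊢
  have hcomm : Commute (QuotientGroup.mk' Q ⁅g, s⁆) (QuotientGroup.mk' Q s) := by
    rw [commutatorElement_def ⁅g, s⁆ s, map_mul, map_mul, map_mul, map_inv, map_inv] at hc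
    have e : QuotientGroup.mk' Q ⁅g, s⁆ * QuotientGroup.mk' Q s *
        (QuotientGroup.mk' Q s * QuotientGroup.mk' Q ⁅g, s⁆)⁻¹ = 1 := by
      rw [← hc]; group
    exact mul_inv_eq_one.mp e
  have key : QuotientGroup.mk' Q ⁅g, s⁆ * QuotientGroup.mk' Q s =
      QuotientGroup.mk' Q g * QuotientGroup.mk' Q s * (QuotientGroup.mk' Q g)⁻¹ := by
    rw [commutatorElement_def, map_mul, map_mul, map_mul, map_inv, map_inv]; group
  have h1 : (QuotientGroup.mk' Q ⁅g, s⁆ * QuotientGroup.mk' Q s) ^ (p ^ n) =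
      (QuotientGroup.mk' Q ⁅g, s⁆) ^ (p ^ n) := by
    rw [hcomm.mul_pow, ← map_pow (QuotientGroup.mk' Q) s, hs, mul_one]
  have h2 : (QuotientGroup.mk' Q g * QuotientGroup.mk' Q s * (QuotientGroup.mk' Q g)⁻¹) ^ (p ^ n)
      = 1 := by
    rw [conj_pow, ← map_pow (QuotientGroup.mk' Q) s, hs]; group
  rw [map_pow, ← h1, key, h2]

theorem pow_mul_mem {e q : H} (hq : q ∈ Q) (m : ℕ) : (e ^ m)⁻¹ * (e * q) ^ m ∈ Q := by
  rw [← mk'_eq_one_iff Q, map_mul, map_inv, map_pow, map_pow, map_mul,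
    (mk'_eq_one_iff Q).mpr hq, mul_one]
  group

end cmod

/-- the standing hypotheses. -/
structure KSetup (p : ℕ) (𝒦 : Set (Subgroup H)) (Q R : Subgroup H) : Prop where
  hQ : Q = pCore p H
  hR : R = sSup 𝒦
  hne : 𝒦.Nonempty
  hinv : ∀ h : H, ∀ E ∈ 𝒦, E.map (MulAut.conj h).toMonoidHom ∈ 𝒦
  htr : ∀ E ∈ 𝒦, ∀ K ∈ 𝒦, ∃ h : H, K = E.map (MulAut.conj h).toMonoidHom
  hres : pResidual p H ≤ R
  hnorm : ∀ E ∈ 𝒦, R ⊔ Q ≤ Subgroup.normalizer ((E ⊔ Q : Subgroup H) : Set H)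

namespace KSetup

variable {𝒦 : Set (Subgroup H)} {Q R : Subgroup H}

theorem Qn (h : KSetup p 𝒦 Q R) : Q.Normal := h.hQ ▸ pCore_normal p H

theorem Qp (h : KSetup p 𝒦 Q R) : IsPGroup p Q := h.hQ ▸ pCore_isPGroup p H

theorem nQ (h : KSetup p 𝒦 Q R) (X : Subgroup H) : X ≤ Subgroup.normalizer (Q : Set H) :=
  le_normalizer_of_normal h.Qn X

theorem ER (h : KSetup p 𝒦 Q R) {E : Subgroup H} (hE : E ∈ 𝒦) : E ≤ R :=
  h.hR ▸ le_sSup hE

theorem Rn (h : KSetup p 𝒦 Q R) : R.Normal := by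
  apply Subgroup.normalizer_eq_top_iff.mp
  rw [eq_top_iff]
  apply le_normalizer_of_forall_map_conj_le
  intro g _
  rw [h.hR, sSup_eq_iSup', Subgroup.map_iSup]
  apply iSup_le
  intro E
  exact le_iSup (fun E : 𝒦 => (E : Subgroup H)) ⟨_, h.hinv g E.1 E.2⟩

theorem RQn (h : KSetup p 𝒦 Q R) : (R ⊔ Q).Normal :=
  have := h.Rn
  have := h.Qn
  inferInstance

theorem QT [Fact p.Prime] (h : KSetup p 𝒦 Q R) (T : Sylow p H) : Q ≤ (T : Subgroup H) :=
  h.hQ ▸ Cfsg.Agent.Lib.Helper17.pCore_le_sylow T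

theorem RT [Fact p.Prime] [Finite H] (h : KSetup p 𝒦 Q R) (T : Sylow p H) :
    R ⊔ (T : Subgroup H) = ⊤ :=
  top_le_iff.mp ((pResidual_sup_sylow T) ▸ sup_le_sup_right h.hres _)

theorem exists_conj [Fact p.Prime] [Finite H] (h : KSetup p 𝒦 Q R) (T : Sylow p H)
    {E K : Subgroup H} (hE : E ∈ 𝒦) (hK : K ∈ 𝒦) :
    ∃ t ∈ (T : Subgroup H), K ⊔ Q = (E ⊔ Q).map (MulAut.conj t).toMonoidHom := by
  obtain ⟨g, hg⟩ := h.htr E hE K hK
  have hg' : g ∈ (T : Subgroup H) ⊔ R := by rw [sup_comm, h.RT T]; exact Subgroup.mem_top g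
  obtain ⟨t, ht, r, hr, e⟩ := mem_sup_of_le_normalizer (le_normalizer_of_normal h.Rn _) hg'
  refine ⟨t, ht, ?_⟩
  have h1 : (E ⊔ Q).map (MulAut.conj r).toMonoidHom = E ⊔ Q :=
    map_conj_eq_of_mem_normalizer _ (h.hnorm E hE (Subgroup.mem_sup_left hr))
  have hQc : ∀ x : H, Q.map (MulAut.conj x).toMonoidHom = Q :=
    fun x => map_conj_eq_of_mem_normalizer Q (h.nQ ⊤ (Subgroup.mem_top x))
  rw [Subgroup.map_sup, hQc] at h1
  rw [hg, e, map_conj_mul, ← h1, Subgroup.map_sup, hQc]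

theorem sylP [Fact p.Prime] [Finite H] (h : KSetup p 𝒦 Q R) (T : Sylow p H)
    {E : Subgroup H} (hE : E ∈ 𝒦) : IsSylowIn p ((T : Subgroup H) ⊓ (E ⊔ Q)) (E ⊔ Q) := by
  have h1 := isSylowIn_inf_of_le_normalizer T (C := R ⊔ Q) (le_normalizer_of_normal h.RQn _)
  have hle : E ⊔ Q ≤ R ⊔ Q := sup_le_sup_right (h.ER hE) _
  have h2 := h1.inf_of_le_normalizer hle (h.hnorm E hE)
  rwa [inf_assoc, inf_eq_right.mpr hle] at h2

theorem sylE [Fact p.Prime] [Finite H] (h : KSetup p 𝒦 Q R) (T : Sylow p H)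
    {E : Subgroup H} (hE : E ∈ 𝒦) : IsSylowIn p ((T : Subgroup H) ⊓ E) E := by
  obtain ⟨S', hS', hle⟩ := exists_isSylowIn_ge (p := p) (R₀ := (T : Subgroup H) ⊓ E) (K := E)
    (T.isPGroup'.to_le inf_le_left) inf_le_right
  have hp1 : IsPGroup p (S' ⊔ Q : Subgroup H) :=
    IsPGroup.to_sup_of_normal_right' hS'.2.1 h.Qp (h.nQ S')
  have h1 := (h.sylP T hE).2.2 (S' ⊔ Q) hp1
    (by rw [inf_sup_eq_of_le (h.QT T) (h.nQ E)]; exact sup_le_sup_right hle _)
    (sup_le_sup_right hS'.1 _)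
  have h2 : S' ≤ (T : Subgroup H) ⊓ E :=
    le_inf ((le_sup_left.trans h1.le).trans inf_le_left) hS'.1
  have h3 : (T : Subgroup H) ⊓ E = S' := le_antisymm hle h2
  rw [h3]; exact hS'

/-- part (a): `p`-minimality passes from the members of `𝒦` to `H`. -/
theorem minimalOver [Fact p.Prime] [Finite H] (h : KSetup p 𝒦 Q R)
    (hmin : ∀ E ∈ 𝒦, ∀ S : Sylow p ↥E, IsMinimalOver (S : Subgroup ↥E)) (T : Sylow p H) :
    IsMinimalOver (T : Subgroup H) := by
  have hncl : Subgroup.normalClosure ((T : Subgroup H) : Set H) = ⊤ := by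
    obtain ⟨N, hN⟩ : ∃ N : Subgroup H, N = Subgroup.normalClosure ((T : Subgroup H) : Set H) :=
      ⟨_, rfl⟩
    have hNn : N.Normal := hN ▸ Subgroup.normalClosure_normal
    have hTN : (T : Subgroup H) ≤ N := hN ▸ Subgroup.le_normalClosure
    rw [← hN, eq_top_iff]
    have hEN : ∀ E ∈ 𝒦, E ≤ N := by
      intro E hE
      obtain ⟨S⟩ : Nonempty (Sylow p ↥E) := inferInstance
      have h1 := (hmin E hE S).1
      obtain ⟨g, hg⟩ := exists_conj_le_sylow (S.isPGroup'.map E.subtype) T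
      have h2 : (S : Subgroup ↥E).map E.subtype ≤ N := by
        refine hg.trans ?_
        rintro _ ⟨t, ht, rfl⟩
        exact hNn.conj_mem t (hTN ht) g
      have h3 : (S : Subgroup ↥E) ≤ N.subgroupOf E := by
        intro x hx
        rw [Subgroup.mem_subgroupOf]
        exact h2 ⟨x, hx, rfl⟩
      have h4 : Subgroup.normalClosure ((S : Subgroup ↥E) : Set ↥E) ≤ N.subgroupOf E :=
        Subgroup.normalClosure_le_normal h3
      rw [h1] at h4
      intro x hx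
      have := h4 (Subgroup.mem_top (⟨x, hx⟩ : ↥E))
      exact this
    have hRN : R ≤ N := by rw [h.hR]; exact sSup_le hEN
    rw [← h.RT T]
    exact sup_le hRN hTN
  obtain ⟨E₀, hE₀⟩ := h.hne
  obtain ⟨P, hP⟩ : ∃ P : Subgroup H, P = E₀ ⊔ Q := ⟨_, rfl⟩
  obtain ⟨TP, hTP⟩ : ∃ TP : Subgroup H, TP = (T : Subgroup H) ⊓ P := ⟨_, rfl⟩
  have hsylP : IsSylowIn p TP P := by rw [hTP, hP]; exact h.sylP T hE₀
  have hsylE : IsSylowIn p ((T : Subgroup H) ⊓ E₀) E₀ := h.sylE T hE₀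
  have hQT : Q ≤ (T : Subgroup H) := h.QT T
  have hE₀P : E₀ ≤ P := hP ▸ le_sup_left
  have hTPeq : TP = ((T : Subgroup H) ⊓ E₀) ⊔ Q := by
    rw [hTP, hP]; exact inf_sup_eq_of_le hQT (h.nQ E₀)
  have hTPT : TP ≤ (T : Subgroup H) := hTP ▸ inf_le_left
  obtain ⟨S, hS⟩ := hsylE.exists_sylow
  obtain ⟨hcl, M', ⟨hM'co, hSM'⟩, hM'uniq⟩ := hmin E₀ hE₀ S
  obtain ⟨U₀, hU₀⟩ : ∃ U₀ : Subgroup H, U₀ = M'.map E₀.subtype := ⟨_, rfl⟩
  have hU₀E : U₀ ≤ E₀ := hU₀ ▸ Subgroup.map_subtype_le _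
  have hSU₀ : (T : Subgroup H) ⊓ E₀ ≤ U₀ := by rw [← hS, hU₀]; exact Subgroup.map_mono hSM'
  have hU₀ne : ¬ E₀ ≤ U₀ := by
    intro hle
    apply hM'co.1
    rw [eq_top_iff]
    intro x _
    have hx : (x : H) ∈ M'.map E₀.subtype := hU₀ ▸ hle x.2
    obtain ⟨y, hy, e⟩ := hx
    have : y = x := Subtype.ext e
    rw [← this]; exact hy
  have hU₀max : ∀ Z : Subgroup H, Z ≤ E₀ → (T : Subgroup H) ⊓ E₀ ≤ Z → ¬ E₀ ≤ Z → Z ≤ U₀ := by
    intro Z hZE hSZ hne
    have h1 : Z.subgroupOf E₀ ≠ ⊤ := by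
      intro htop
      apply hne
      rw [Subgroup.subgroupOf_eq_top] at htop; exact htop
    rcases eq_top_or_exists_le_coatom (Z.subgroupOf E₀) with h2 | ⟨M'', hM''co, hle⟩
    · exact absurd h2 h1
    · have hSM'' : (S : Subgroup ↥E₀) ≤ M'' := by
        refine le_trans ?_ hle
        intro x hx
        rw [Subgroup.mem_subgroupOf]
        apply hSZ
        rw [← hS]; exact ⟨x, hx, rfl⟩
      have e := hM'uniq M'' ⟨hM''co, hSM''⟩
      rw [e] at hle
      have := Subgroup.map_mono (f := E₀.subtype) hle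
      rw [Subgroup.map_subgroupOf_eq_of_le hZE, ← hU₀] at this
      exact this
  have hnotnorm : ¬ E₀ ≤ Subgroup.normalizer (((T : Subgroup H) ⊓ E₀ : Subgroup H) : Set H) := by
    intro hn
    have e : (S : Subgroup ↥E₀) = ((T : Subgroup H) ⊓ E₀).subgroupOf E₀ := by
      rw [← hS]
      exact (Subgroup.comap_map_eq_self_of_injective (Subgroup.subtype_injective _) _).symm
    have hSn : (S : Subgroup ↥E₀).Normal := by
      rw [e]; exact Subgroup.normal_subgroupOf_of_le_normalizer hn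
    have h1 : Subgroup.normalClosure ((S : Subgroup ↥E₀) : Set ↥E₀) = S :=
      Subgroup.normalClosure_eq_self _
    rw [h1] at hcl
    apply hM'co.1
    exact top_le_iff.mp (hcl ▸ hSM')
  obtain ⟨U, hU⟩ : ∃ U : Subgroup H, U = U₀ ⊔ Q := ⟨_, rfl⟩
  have hTPU : TP ≤ U := by rw [hTPeq, hU]; exact sup_le_sup_right hSU₀ _
  have hUP : U ≤ P := by rw [hU, hP]; exact sup_le_sup_right hU₀E _
  have hEQmem : ∀ {A : Subgroup H} {x : H}, x ∈ A ⊔ Q → ∃ a ∈ A, ∃ q ∈ Q, x = a * q :=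
    fun hx => mem_sup_of_le_normalizer (h.nQ _) hx
  have hUne : ¬ P ≤ U := by
    intro hle
    apply hU₀ne
    intro x hx
    have hxU : x ∈ U₀ ⊔ Q := hU ▸ hle (hE₀P hx)
    obtain ⟨u, hu, q, hq, e⟩ := hEQmem hxU
    have hqE : q ∈ E₀ := by
      have : q = u⁻¹ * x := by rw [e]; group
      rw [this]; exact E₀.mul_mem (E₀.inv_mem (hU₀E hu)) hx
    have hqU : q ∈ U₀ := hSU₀ ⟨hQT hq, hqE⟩
    rw [e]; exact U₀.mul_mem hu hqU
  have hUmax : ∀ Z : Subgroup H, TP ≤ Z → Z ≤ P → ¬ P ≤ Z → Z ≤ U := by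
    intro Z hTZ hZP hne
    have hQZ : Q ≤ Z := (hTPeq ▸ le_sup_right : Q ≤ TP).trans hTZ
    have h1 : Z ⊓ E₀ ≤ U₀ := by
      apply hU₀max _ inf_le_right
      · exact le_inf ((hTPeq ▸ le_sup_left : (T : Subgroup H) ⊓ E₀ ≤ TP).trans hTZ) inf_le_right
      · intro hle
        apply hne
        rw [hP]; exact sup_le (hle.trans inf_le_left) hQZ
    intro x hx
    have hxP : x ∈ E₀ ⊔ Q := hP ▸ hZP hx
    obtain ⟨e, he, q, hq, hxe⟩ := hEQmem hxP
    have heZ : e ∈ Z := by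
      have : e = x * q⁻¹ := by rw [hxe]; group
      rw [this]; exact Z.mul_mem hx (Z.inv_mem (hQZ hq))
    rw [hU, hxe]
    exact Subgroup.mul_mem _ (Subgroup.mem_sup_left (h1 ⟨heZ, he⟩)) (Subgroup.mem_sup_right hq)
  have hPnotnorm : ¬ P ≤ Subgroup.normalizer (TP : Set H) := by
    intro hn
    apply hnotnorm
    have h1 : E₀ ≤ Subgroup.normalizer (TP : Set H) ⊓ Subgroup.normalizer (E₀ : Set H) :=
      le_inf (hE₀P.trans hn) Subgroup.le_normalizer
    have h2 := h1.trans (normalizer_inf_le TP E₀)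
    have e : TP ⊓ E₀ = (T : Subgroup H) ⊓ E₀ := by
      rw [hTP, inf_assoc, inf_eq_right.mpr hE₀P]
    rwa [e] at h2
  obtain ⟨RQ, hRQ⟩ : ∃ RQ : Subgroup H, RQ = R ⊔ Q := ⟨_, rfl⟩
  have hRQn : RQ.Normal := hRQ ▸ h.RQn
  have hPRQ : P ≤ RQ := by rw [hP, hRQ]; exact sup_le_sup_right (h.ER hE₀) _
  have hRQnP : RQ ≤ Subgroup.normalizer (P : Set H) := by rw [hRQ, hP]; exact h.hnorm E₀ hE₀
  obtain ⟨N', hN'⟩ : ∃ N' : Subgroup H, N' = RQ ⊓ Subgroup.normalizer (TP : Set H) := ⟨_, rfl⟩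
  have hN'U : N' ≤ Subgroup.normalizer (U : Set H) := by
    apply le_normalizer_of_forall_map_conj_le
    intro n hn
    rw [hN'] at hn
    apply hUmax
    · have := Subgroup.map_mono (f := (MulAut.conj n).toMonoidHom) hTPU
      rwa [map_conj_eq_of_mem_normalizer TP hn.2] at this
    · have := Subgroup.map_mono (f := (MulAut.conj n).toMonoidHom) hUP
      rwa [map_conj_eq_of_mem_normalizer P (hRQnP hn.1)] at this
    · intro hle
      apply hUne
      have hc : Nat.card P ≤ Nat.card U := by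
        calc Nat.card P ≤ Nat.card (U.map (MulAut.conj n).toMonoidHom) :=
              Subgroup.card_le_of_le hle
          _ = Nat.card U := card_map_conj _ _
      exact (Subgroup.eq_of_le_of_card_ge hUP hc).ge
  obtain ⟨V, hV⟩ : ∃ V : Subgroup H, V = U ⊔ N' := ⟨_, rfl⟩
  have hV1 : ∀ X : Subgroup H, (T : Subgroup H) ≤ X → X ≠ ⊤ → X ⊓ RQ ≤ V := by
    intro X hTX hXne
    have hPX : ¬ P ≤ X := by
      intro hPX
      apply hXne
      rw [eq_top_iff, ← h.RT T]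
      refine sup_le ?_ hTX
      rw [h.hR]
      apply sSup_le
      intro K hK
      obtain ⟨t, ht, e⟩ := h.exists_conj T hE₀ hK
      have h1 : (E₀ ⊔ Q).map (MulAut.conj t).toMonoidHom ≤ X := by
        have := Subgroup.map_mono (f := (MulAut.conj t).toMonoidHom) (hP ▸ hPX)
        rwa [map_conj_eq_of_mem_normalizer X (Subgroup.le_normalizer (hTX ht))] at this
      exact le_sup_left.trans (e ▸ h1)
    have hXPU : X ⊓ P ≤ U := by
      apply hUmax _ (le_inf (hTPT.trans hTX) hsylP.1) inf_le_right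
      intro hle; exact hPX (hle.trans inf_le_left)
    have hsylU : IsSylowIn p TP U :=
      ⟨hTPU, hsylP.2.1, fun R' hR' hle hR'U => hsylP.2.2 R' hR' hle (hR'U.trans hUP)⟩
    rintro x ⟨hxX, hxRQ⟩
    have hconj : TP.map (MulAut.conj x).toMonoidHom ≤ U := by
      refine le_trans ?_ hXPU
      apply le_inf
      · have := Subgroup.map_mono (f := (MulAut.conj x).toMonoidHom) (hTPT.trans hTX)
        rwa [map_conj_eq_of_mem_normalizer X (Subgroup.le_normalizer hxX)] at this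
      · have := Subgroup.map_mono (f := (MulAut.conj x).toMonoidHom) hsylP.1
        rwa [map_conj_eq_of_mem_normalizer P (hRQnP hxRQ)] at this
    obtain ⟨u, hu, hle⟩ := hsylU.exists_conj_le (hsylP.2.1.map _) hconj
    have heq : TP.map (MulAut.conj x).toMonoidHom = TP.map (MulAut.conj u).toMonoidHom := by
      apply Subgroup.eq_of_le_of_card_ge hle
      rw [card_map_conj, card_map_conj]
    have hn : u⁻¹ * x ∈ Subgroup.normalizer (TP : Set H) := by
      apply mem_normalizer_of_map_conj_eq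
      rw [map_conj_mul, heq, ← map_conj_mul, inv_mul_cancel, map_conj_one]
    have hx : x = u * (u⁻¹ * x) := by group
    rw [hV, hx]
    refine Subgroup.mul_mem _ (Subgroup.mem_sup_left hu) (Subgroup.mem_sup_right ?_)
    rw [hN']
    exact ⟨RQ.mul_mem (RQ.inv_mem (hPRQ (hUP hu))) hxRQ, hn⟩
  have hV2 : ¬ P ≤ V := by
    intro hle
    apply hUne
    intro x hx
    have hxV : x ∈ N' ⊔ U := by rw [sup_comm, ← hV]; exact hle hx
    obtain ⟨n, hn, u, hu, e⟩ := mem_sup_of_le_normalizer hN'U hxV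
    have hnP : n ∈ P := by
      have : n = x * u⁻¹ := by rw [e]; group
      rw [this]; exact P.mul_mem hx (P.inv_mem (hUP hu))
    have hZ : P ⊓ Subgroup.normalizer (TP : Set H) ≤ U := by
      apply hUmax _ (le_inf hsylP.1 Subgroup.le_normalizer) inf_le_left
      intro hle2; exact hPnotnorm (hle2.trans inf_le_right)
    rw [hN'] at hn
    rw [e]
    exact U.mul_mem (hZ ⟨hnP, hn.2⟩) hu
  obtain ⟨W, hW⟩ : ∃ W : Subgroup H, W =
      (⨆ X : {X : Subgroup H // (T : Subgroup H) ≤ X ∧ X ≠ ⊤}, (X : Subgroup H) ⊓ RQ) ⊔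
        ((T : Subgroup H) ⊓ RQ) := ⟨_, rfl⟩
  have hWV : W ≤ V := by
    rw [hW]
    apply sup_le
    · apply iSup_le; intro X; exact hV1 X.1 X.2.1 X.2.2
    · refine le_trans ?_ (hV ▸ le_sup_right : N' ≤ V)
      rw [hN']
      apply le_inf inf_le_right
      refine le_trans ?_ (hTP ▸ normalizer_inf_le (T : Subgroup H) P)
      exact le_inf (inf_le_left.trans Subgroup.le_normalizer) (inf_le_right.trans hRQnP)
  have hWRQ : W ≤ RQ := by
    rw [hW]; exact sup_le (iSup_le (fun X => inf_le_right)) inf_le_right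
  have hconjinf : ∀ (X : Subgroup H) (t : H), t ∈ X →
      (X ⊓ RQ).map (MulAut.conj t).toMonoidHom ≤ X ⊓ RQ := by
    intro X t ht
    refine (Subgroup.map_inf_le X RQ (MulAut.conj t).toMonoidHom).trans (inf_le_inf ?_ ?_)
    · rw [map_conj_eq_of_mem_normalizer _ (Subgroup.le_normalizer ht)]
    · rw [map_conj_eq_of_mem_normalizer _ (le_normalizer_of_normal hRQn ⊤ (Subgroup.mem_top t))]
  have hTW : (T : Subgroup H) ≤ Subgroup.normalizer (W : Set H) := by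
    apply le_normalizer_of_forall_map_conj_le
    intro t ht
    rw [hW, Subgroup.map_sup, Subgroup.map_iSup]
    apply sup_le_sup
    · apply iSup_le
      intro X
      exact (hconjinf X.1 t (X.2.1 ht)).trans
        (le_iSup (fun X : {X : Subgroup H // (T : Subgroup H) ≤ X ∧ X ≠ ⊤} =>
          (X : Subgroup H) ⊓ RQ) X)
    · exact hconjinf (T : Subgroup H) t ht
  obtain ⟨M₁, hM₁⟩ : ∃ M₁ : Subgroup H, M₁ = W ⊔ (T : Subgroup H) := ⟨_, rfl⟩
  have hTM₁ : (T : Subgroup H) ≤ M₁ := hM₁ ▸ le_sup_right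
  have hRQT : RQ ⊔ (T : Subgroup H) = ⊤ :=
    top_le_iff.mp (h.RT T ▸ sup_le_sup_right (hRQ ▸ le_sup_left : R ≤ RQ) _)
  have hall : ∀ X : Subgroup H, (T : Subgroup H) ≤ X → X ≠ ⊤ → X ≤ M₁ := by
    intro X hTX hne x hx
    have hx' : x ∈ (T : Subgroup H) ⊔ RQ := by rw [sup_comm, hRQT]; exact Subgroup.mem_top x
    obtain ⟨t, ht, d, hd, e⟩ := mem_sup_of_le_normalizer (le_normalizer_of_normal hRQn _) hx'
    have hdX : d ∈ X := by
      have : d = t⁻¹ * x := by rw [e]; group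
      rw [this]; exact X.mul_mem (X.inv_mem (hTX ht)) hx
    have hdW : d ∈ W := by
      rw [hW]
      apply Subgroup.mem_sup_left
      exact (le_iSup (fun X : {X : Subgroup H // (T : Subgroup H) ≤ X ∧ X ≠ ⊤} =>
        (X : Subgroup H) ⊓ RQ) ⟨X, hTX, hne⟩) ⟨hdX, hd⟩
    rw [hM₁, e]
    exact Subgroup.mul_mem _ (Subgroup.mem_sup_right ht) (Subgroup.mem_sup_left hdW)
  have hM₁ne : M₁ ≠ ⊤ := by
    intro htop
    apply hV2
    intro x hx
    have hx' : x ∈ (T : Subgroup H) ⊔ W := by rw [sup_comm, ← hM₁, htop]; exact Subgroup.mem_top x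
    obtain ⟨t, ht, w, hw, e⟩ := mem_sup_of_le_normalizer hTW hx'
    have htRQ : t ∈ RQ := by
      have : t = x * w⁻¹ := by rw [e]; group
      rw [this]; exact RQ.mul_mem (hPRQ hx) (RQ.inv_mem (hWRQ hw))
    have htW : t ∈ W := by rw [hW]; exact Subgroup.mem_sup_right ⟨ht, htRQ⟩
    rw [e]; exact hWV (W.mul_mem htW hw)
  refine ⟨hncl, M₁, ⟨⟨hM₁ne, ?_⟩, hTM₁⟩, ?_⟩
  · intro b hb
    by_contra hbne
    exact absurd (hall b (hTM₁.trans hb.le) hbne) (not_le_of_gt hb)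
  · rintro M'' ⟨hco, hTM''⟩
    have hle := hall M'' hTM'' hco.1
    rcases eq_or_lt_of_le hle with e | hlt
    · exact e
    · exact absurd (hco.2 M₁ hlt) hM₁ne

theorem le_Q_of_normal [Fact p.Prime] [Finite H] (h : KSetup p 𝒦 Q R) {X : Subgroup H}
    (hX : IsPGroup p X) (hXRQ : X ≤ R ⊔ Q)
    (hn : R ⊔ Q ≤ Subgroup.normalizer (X : Set H)) : X ≤ Q := by
  have h1 : X ≤ pCoreOf p (R ⊔ Q) := le_pCoreOf hXRQ hn hX
  have h2 : pCoreOf p (R ⊔ Q) ≤ pCoreOf p (⊤ : Subgroup H) :=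
    pCoreOf_le_pCoreOf_of_normal le_top (le_normalizer_of_normal h.RQn ⊤)
  rw [pCoreOf_top, ← h.hQ] at h2
  exact h1.trans h2

theorem le_Q_of_normal_E [Fact p.Prime] [Finite H] (h : KSetup p 𝒦 Q R) {E X : Subgroup H}
    (hE : E ∈ 𝒦) (hX : IsPGroup p X) (hXP : X ≤ E ⊔ Q)
    (hn : E ⊔ Q ≤ Subgroup.normalizer (X : Set H)) : X ≤ Q := by
  have h1 : X ≤ pCoreOf p (E ⊔ Q) := le_pCoreOf hXP hn hX
  have h2 : pCoreOf p (E ⊔ Q) ≤ pCoreOf p (R ⊔ Q) :=
    pCoreOf_le_pCoreOf_of_normal (sup_le_sup_right (h.ER hE) _) (h.hnorm E hE)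
  exact (h1.trans h2).trans (h.le_Q_of_normal (pCoreOf_isPGroup p _) (pCoreOf_le p _)
    (le_normalizer_pCoreOf p _))

theorem pCoreOf_le_Q [Fact p.Prime] [Finite H] (h : KSetup p 𝒦 Q R) {E : Subgroup H}
    (hE : E ∈ 𝒦) : pCoreOf p E ≤ Q := by
  have hp1 : IsPGroup p (pCoreOf p E ⊔ Q : Subgroup H) :=
    IsPGroup.to_sup_of_normal_right' (pCoreOf_isPGroup p E) h.Qp (h.nQ _)
  have hEn : E ≤ Subgroup.normalizer ((pCoreOf p E ⊔ Q : Subgroup H) : Set H) :=
    (le_inf (le_normalizer_pCoreOf p E) (h.nQ E)).trans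
      (Cfsg.Agent.Lib.Helper18.normalizer_inf_le_normalizer_sup _ _)
  exact le_sup_left.trans (h.le_Q_of_normal_E hE hp1 (sup_le_sup_right (pCoreOf_le p E) _)
    (sup_le hEn (le_sup_right.trans Subgroup.le_normalizer)))

theorem hnc_of [Fact p.Prime] [Finite H] (hsi : ∀ E ∈ 𝒦, IsStronglyPIrreducible p ↥E) :
    ∀ E ∈ 𝒦, ∀ S : Subgroup H, IsSylowIn p S E → ¬ E ≤ Subgroup.normalizer (S : Set H) := by
  intro E hE S hS hn
  exact (hsi E hE).1 ((isPClosed_subgroup_iff hS).mpr hn)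

theorem hirr_of [Fact p.Prime] [Finite H] (h : KSetup p 𝒦 Q R)
    (hsi : ∀ E ∈ 𝒦, IsStronglyPIrreducible p ↥E) :
    ∀ E ∈ 𝒦, ∀ N : Subgroup H, N ≤ E → E ≤ Subgroup.normalizer (N : Set H) →
      ¬ ⁅N, E⁆ ≤ Q → pResOf p E ≤ N := by
  intro E hE N hNE hEN hnot
  have hNn : (N.subgroupOf E).Normal := Subgroup.normal_subgroupOf_of_le_normalizer hEN
  have hc : ¬ ⁅N.subgroupOf E, (⊤ : Subgroup ↥E)⁆ ≤ pCore p ↥E := by
    intro hc
    apply hnot
    have h2 := Subgroup.map_mono (f := E.subtype) hc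
    rw [Subgroup.map_commutator, Subgroup.map_subgroupOf_eq_of_le hNE, ← MonoidHom.range_eq_map,
      Subgroup.range_subtype] at h2
    exact h2.trans (h.pCoreOf_le_Q hE)
  have h1 := (hsi E hE).2 (N.subgroupOf E) hNn hc
  have h2 := Subgroup.map_mono (f := E.subtype) h1
  rwa [map_pResidual_subtype, Subgroup.map_subgroupOf_eq_of_le hNE] at h2

open scoped commutatorElement in
theorem not_comm_sylow [Fact p.Prime] [Finite H] (h : KSetup p 𝒦 Q R)
    (hnc : ∀ E ∈ 𝒦, ∀ S : Subgroup H, IsSylowIn p S E →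
      ¬ E ≤ Subgroup.normalizer (S : Set H))
    {E S : Subgroup H} (hE : E ∈ 𝒦) (hS : IsSylowIn p S E) : ¬ ⁅S, E⁆ ≤ Q := by
  intro hc
  have hp1 : IsPGroup p (S ⊔ Q : Subgroup H) :=
    IsPGroup.to_sup_of_normal_right' hS.2.1 h.Qp (h.nQ S)
  have hEn : E ≤ Subgroup.normalizer ((S ⊔ Q : Subgroup H) : Set H) := by
    apply le_normalizer_of_forall_map_conj_le
    intro e he
    rw [Subgroup.map_sup, map_conj_eq_of_mem_normalizer Q (h.nQ E he)]
    apply sup_le _ le_sup_right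
    rintro _ ⟨s, hs, rfl⟩
    have h1 : ⁅e, s⁆ ∈ Q := by
      have := Subgroup.commutator_mem_commutator hs he
      rw [← commutatorElement_inv]; exact Q.inv_mem (hc this)
    have e2 : (MulAut.conj e).toMonoidHom s = ⁅e, s⁆ * s := by simp [commutatorElement_def]
    rw [e2]
    exact Subgroup.mul_mem _ (Subgroup.mem_sup_right h1) (Subgroup.mem_sup_left hs)
  have hSQ : S ⊔ Q ≤ Q := h.le_Q_of_normal_E hE hp1 (sup_le_sup_right hS.1 _)
    (sup_le hEn (le_sup_right.trans Subgroup.le_normalizer))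
  have hS1 : S ≤ E ⊓ Q := le_inf hS.1 (le_sup_left.trans hSQ)
  have hS2 : E ⊓ Q = S := hS.2.2 (E ⊓ Q) (h.Qp.to_le inf_le_right) hS1 inf_le_left
  apply hnc E hE S hS
  rw [← hS2]
  exact (le_inf Subgroup.le_normalizer (h.nQ E)).trans (normalizer_inf_le E Q)

theorem le_of_pElements [Fact p.Prime] [Finite H] (h : KSetup p 𝒦 Q R)
    (hnc : ∀ E ∈ 𝒦, ∀ S : Subgroup H, IsSylowIn p S E →
      ¬ E ≤ Subgroup.normalizer (S : Set H))
    (hirr : ∀ E ∈ 𝒦, ∀ N : Subgroup H, N ≤ E → E ≤ Subgroup.normalizer (N : Set H) →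
      ¬ ⁅N, E⁆ ≤ Q → pResOf p E ≤ N)
    {E N : Subgroup H} (hE : E ∈ 𝒦) (hNE : N ≤ E)
    (hEN : E ≤ Subgroup.normalizer (N : Set H))
    (hp : ∀ x ∈ E, (∃ k : ℕ, x ^ (p ^ k) = 1) → x ∈ N) : E ≤ N := by
  obtain ⟨S, hS, -⟩ := exists_isSylowIn_ge (p := p) (R₀ := ⊥) (K := E) IsPGroup.of_bot bot_le
  have hSN : S ≤ N := by
    intro x hx
    apply hp x (hS.1 hx)
    obtain ⟨k, hk⟩ := hS.2.1 ⟨x, hx⟩
    exact ⟨k, by simpa using congrArg Subtype.val hk⟩
  have hnot : ¬ ⁅N, E⁆ ≤ Q :=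
    fun hc => h.not_comm_sylow hnc hE hS ((Subgroup.commutator_mono hSN le_rfl).trans hc)
  have h1 := hirr E hE N hNE hEN hnot
  rw [← hS.pResOf_sup]
  exact sup_le h1 hSN

open scoped commutatorElement in
/-- a subgroup `Z`, normal in `R Q` and abelian modulo `Q`, has its `p`-elements modulo `Q`
inside `Q`. -/
theorem mem_Q_of_pow [Fact p.Prime] [Finite H] (h : KSetup p 𝒦 Q R) {Z : Subgroup H}
    (hZ : Z ≤ R ⊔ Q) (hnZ : R ⊔ Q ≤ Subgroup.normalizer (Z : Set H)) (hab : ⁅Z, Z⁆ ≤ Q)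
    {z : H} (hz : z ∈ Z) {n : ℕ} (hzn : z ^ (p ^ n) ∈ Q) : z ∈ Q := by
  haveI := h.Qn
  let Z₁ : Subgroup H :=
    { carrier := {z | z ∈ Z ∧ ∃ n : ℕ, z ^ (p ^ n) ∈ Q}
      one_mem' := ⟨Z.one_mem, 0, by simp [Q.one_mem]⟩
      mul_mem' := by
        rintro a b ⟨ha, n, hn⟩ ⟨hb, m, hm⟩
        refine ⟨Z.mul_mem ha hb, n + m, ?_⟩
        rw [← mk'_eq_one_iff Q] at hn hm ⊢
        have hcomm : Commute (QuotientGroup.mk' Q a) (QuotientGroup.mk' Q b) := by
          have h1 : ⁅a, b⁆ ∈ Q := hab (Subgroup.commutator_mem_commutator ha hb)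
          rw [← mk'_eq_one_iff Q, commutatorElement_def, map_mul, map_mul, map_mul, map_inv,
            map_inv] at h1
          have e : QuotientGroup.mk' Q a * QuotientGroup.mk' Q b *
              (QuotientGroup.mk' Q b * QuotientGroup.mk' Q a)⁻¹ = 1 := by
            rw [← h1]; group
          exact mul_inv_eq_one.mp e
        rw [map_pow, map_mul, hcomm.mul_pow, pow_add, pow_mul, pow_mul, ← map_pow _ a, hn, one_pow,
          one_mul, ← pow_mul, mul_comm, pow_mul, ← map_pow _ b, hm, one_pow]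
      inv_mem' := by
        rintro a ⟨ha, n, hn⟩
        refine ⟨Z.inv_mem ha, n, ?_⟩
        rw [inv_pow]; exact Q.inv_mem hn }
  have hZ₁p : IsPGroup p Z₁ := by
    rintro ⟨a, ha, n, hn⟩
    obtain ⟨k, hk⟩ := h.Qp ⟨_, hn⟩
    refine ⟨n + k, Subtype.ext ?_⟩
    have hk' : (a ^ (p ^ n)) ^ (p ^ k) = 1 := by simpa using congrArg Subtype.val hk
    simp only [Subgroup.coe_pow, Subgroup.coe_one]
    rw [pow_add, pow_mul, hk']
  have hZ₁RQ : Z₁ ≤ R ⊔ Q := fun a ha => hZ ha.1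
  have hZ₁n : R ⊔ Q ≤ Subgroup.normalizer (Z₁ : Set H) := by
    apply le_normalizer_of_forall_map_conj_le
    rintro g hg _ ⟨a, ⟨ha, n, hn⟩, rfl⟩
    refine ⟨?_, n, ?_⟩
    · exact (Subgroup.mem_normalizer_iff.mp (hnZ hg) a).mp ha
    · simp only [MulEquiv.coe_toMonoidHom, MulAut.conj_apply]
      rw [conj_pow]
      exact ‹Q.Normal›.conj_mem _ hn g
  exact h.le_Q_of_normal hZ₁p hZ₁RQ hZ₁n ⟨hz, n, hzn⟩

open scoped commutatorElement in
/-- the closing argument: a subgroup `G₁` normalized by `E` with `[G₁, E]` inside a subgroup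
`Z` that is central modulo `Q` centralizes `E` modulo `Q`. -/
theorem comm_le_Q [Fact p.Prime] [Finite H] (h : KSetup p 𝒦 Q R)
    (hnc : ∀ E ∈ 𝒦, ∀ S : Subgroup H, IsSylowIn p S E →
      ¬ E ≤ Subgroup.normalizer (S : Set H))
    (hirr : ∀ E ∈ 𝒦, ∀ N : Subgroup H, N ≤ E → E ≤ Subgroup.normalizer (N : Set H) →
      ¬ ⁅N, E⁆ ≤ Q → pResOf p E ≤ N)
    {E Z G₁ : Subgroup H} (hE : E ∈ 𝒦) (hZ : Z ≤ R ⊔ Q)
    (hZn : R ⊔ Q ≤ Subgroup.normalizer (Z : Set H)) (hZE : ⁅Z, E⁆ ≤ Q) (hZZ : ⁅Z, Z⁆ ≤ Q)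
    (hEG : E ≤ Subgroup.normalizer (G₁ : Set H)) (hGE : ⁅G₁, E⁆ ≤ Z) : ⁅G₁, E⁆ ≤ Q := by
  haveI := h.Qn
  have key : E ≤ E ⊓ cmod Q G₁ := by
    apply h.le_of_pElements hnc hirr hE inf_le_left
    · exact (le_inf Subgroup.le_normalizer
        (hEG.trans (normalizer_le_normalizer_cmod Q G₁))).trans (normalizer_inf_le _ _)
    · rintro x hx ⟨k, hk⟩
      refine ⟨hx, (mem_cmod_iff Q).mpr ?_⟩
      intro g hg
      have hc : ⁅g, x⁆ ∈ Z := hGE (Subgroup.commutator_mem_commutator hg hx)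
      have hcc : ⁅⁅g, x⁆, x⁆ ∈ Q := hZE (Subgroup.commutator_mem_commutator hc hx)
      have hpow : ⁅g, x⁆ ^ (p ^ k) ∈ Q :=
        pow_comm_mem_of_comm Q (by rw [hk]; exact Q.one_mem) hcc
      have := h.mem_Q_of_pow hZ hZn hZZ hc hpow
      rw [← commutatorElement_inv]
      exact Q.inv_mem this
  rw [Subgroup.commutator_comm]
  exact (le_cmod_iff Q).mp (key.trans inf_le_right)

theorem pResOf_sup_le_of [Fact p.Prime] [Finite H] (h : KSetup p 𝒦 Q R) {E B : Subgroup H}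
    (hB : pResOf p E ≤ B) (hQB : Q ≤ B) : pResOf p (E ⊔ Q) ≤ B := by
  haveI := h.Qn
  apply pResOf_le_of_forall_pow_mem
  intro x hx
  obtain ⟨e, he, q, hq, rfl⟩ := mem_sup_of_le_normalizer (h.nQ E) hx
  obtain ⟨n, hn⟩ := exists_pow_mem_pResOf (p := p) he (isOfFinOrder_of_finite e)
  refine ⟨n, ?_⟩
  have h1 : (e ^ (p ^ n))⁻¹ * (e * q) ^ (p ^ n) ∈ Q := pow_mul_mem Q hq _
  have : (e * q) ^ (p ^ n) = e ^ (p ^ n) * ((e ^ (p ^ n))⁻¹ * (e * q) ^ (p ^ n)) := by group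
  rw [this]
  exact B.mul_mem (hB hn) (hQB h1)

theorem comm_sup_le (h : KSetup p 𝒦 Q R) {A E : Subgroup H} (hAE : ⁅A, E⁆ ≤ Q) :
    ⁅A ⊔ Q, E⁆ ≤ Q := by
  have := h.Qn
  rw [← le_cmod_iff Q] at hAE ⊢
  apply sup_le hAE
  rw [le_cmod_iff]
  exact commutator_le_of_le_normalizer' (h.nQ E)

theorem comm_sup_le' (h : KSetup p 𝒦 Q R) {A E : Subgroup H} (hAE : ⁅A, E⁆ ≤ Q) :
    ⁅A, E ⊔ Q⁆ ≤ Q := by
  rw [Subgroup.commutator_comm] at hAE ⊢
  exact h.comm_sup_le hAE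

/-- two members either have the same `O^p(E Q)` or commute modulo `Q`. -/
theorem dichotomy [Fact p.Prime] [Finite H] (h : KSetup p 𝒦 Q R)
    (hnc : ∀ E ∈ 𝒦, ∀ S : Subgroup H, IsSylowIn p S E →
      ¬ E ≤ Subgroup.normalizer (S : Set H))
    (hirr : ∀ E ∈ 𝒦, ∀ N : Subgroup H, N ≤ E → E ≤ Subgroup.normalizer (N : Set H) →
      ¬ ⁅N, E⁆ ≤ Q → pResOf p E ≤ N)
    {E K : Subgroup H} (hE : E ∈ 𝒦) (hK : K ∈ 𝒦) :
    pResOf p (E ⊔ Q) = pResOf p (K ⊔ Q) ∨ ⁅E, K⁆ ≤ Q := by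
  have := h.Qn
  have hEK : E ≤ Subgroup.normalizer ((K ⊔ Q : Subgroup H) : Set H) :=
    ((h.ER hE).trans le_sup_left).trans (h.hnorm K hK)
  have hKE : K ⊔ Q ≤ Subgroup.normalizer ((E ⊔ Q : Subgroup H) : Set H) :=
    (sup_le_sup_right (h.ER hK) _).trans (h.hnorm E hE)
  by_cases hc : ⁅(K ⊔ Q) ⊓ E, E⁆ ≤ Q
  · right
    have hZeq : (K ⊔ Q) ⊓ (E ⊔ Q) = ((K ⊔ Q) ⊓ E) ⊔ Q :=
      inf_sup_eq_of_le le_sup_right (h.nQ E)
    have hZE : ⁅(K ⊔ Q) ⊓ (E ⊔ Q), E⁆ ≤ Q := by rw [hZeq]; exact h.comm_sup_le hc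
    have hZZ : ⁅(K ⊔ Q) ⊓ (E ⊔ Q), (K ⊔ Q) ⊓ (E ⊔ Q)⁆ ≤ Q :=
      (Subgroup.commutator_mono le_rfl inf_le_right).trans (h.comm_sup_le' hZE)
    have h1 : ⁅K ⊔ Q, E⁆ ≤ Q := by
      apply h.comm_le_Q hnc hirr hE (Z := (K ⊔ Q) ⊓ (E ⊔ Q))
        (inf_le_left.trans (sup_le_sup_right (h.ER hK) _))
        ((le_inf (h.hnorm K hK) (h.hnorm E hE)).trans (normalizer_inf_le _ _)) hZE hZZ hEK
      apply le_inf
      · exact commutator_le_of_le_normalizer' hEK
      · exact (Subgroup.commutator_mono le_rfl le_sup_left).trans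
          (commutator_le_of_le_normalizer hKE)
    rw [Subgroup.commutator_comm]
    exact (Subgroup.commutator_mono le_sup_left le_rfl).trans h1
  · left
    have h1 : pResOf p E ≤ (K ⊔ Q) ⊓ E := hirr E hE _ inf_le_right
      ((le_inf hEK Subgroup.le_normalizer).trans (normalizer_inf_le _ _)) hc
    have h2 : pResOf p (E ⊔ Q) ≤ K ⊔ Q := h.pResOf_sup_le_of (h1.trans inf_le_left) le_sup_right
    have h3 : pResOf p (E ⊔ Q) ≤ pResOf p (K ⊔ Q) := by
      rw [← Cfsg.Agent.S2820.pResOf_idem p (E ⊔ Q)]; exact pResOf_mono p h2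
    apply Subgroup.eq_of_le_of_card_ge h3
    obtain ⟨g, hg⟩ := h.htr E hE K hK
    have e : K ⊔ Q = (E ⊔ Q).map (MulAut.conj g).toMonoidHom := by
      rw [Subgroup.map_sup, map_conj_eq_of_mem_normalizer Q (h.nQ ⊤ (Subgroup.mem_top g)), hg]
    rw [e, pResOf_map_conj, card_map_conj]

/-- a normal subgroup containing `O^p(E)` for all members contains `O^p(H)`. -/
theorem pResidual_le_of_forall [Fact p.Prime] [Finite H] (h : KSetup p 𝒦 Q R) {N : Subgroup H}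
    (hN : N.Normal) (hall : ∀ E ∈ 𝒦, pResOf p E ≤ N) : pResidual p H ≤ N := by
  have := h.Qn
  obtain ⟨B, hB⟩ : ∃ B : Subgroup H, B = Q ⊔ N := ⟨_, rfl⟩
  have hBn : B.Normal := by rw [hB]; exact Subgroup.sup_normal Q N
  have hQB : Q ≤ B := hB ▸ le_sup_left
  have hNB : N ≤ B := hB ▸ le_sup_right
  obtain ⟨T⟩ : Nonempty (Sylow p H) := inferInstance
  have hker : ∀ {X : Subgroup H}, X ≤ B → X.map (QuotientGroup.mk' B) = ⊥ := by
    intro X hX
    rw [eq_bot_iff]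
    rintro _ ⟨x, hx, rfl⟩
    rw [Subgroup.mem_bot]; exact (mk'_eq_one_iff B).mpr (hX hx)
  have hEp : ∀ E ∈ 𝒦, IsPGroup p (E.map (QuotientGroup.mk' B)) := by
    intro E hE
    rintro ⟨_, e, he, rfl⟩
    obtain ⟨n, hn⟩ := exists_pow_mem_pResOf (p := p) he (isOfFinOrder_of_finite e)
    refine ⟨n, Subtype.ext ?_⟩
    simp only [Subgroup.coe_pow, Subgroup.coe_one]
    rw [← map_pow]
    exact (mk'_eq_one_iff B).mpr (hNB (hall E hE hn))
  obtain ⟨C, hC⟩ : ∃ C : Subgroup (H ⧸ B), C = pCoreOf p ((R ⊔ Q).map (QuotientGroup.mk' B)) :=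
    ⟨_, rfl⟩
  have hEle : ∀ E ∈ 𝒦, E.map (QuotientGroup.mk' B) ≤ C := by
    intro E hE
    rw [hC]
    apply le_pCoreOf (Subgroup.map_mono ((h.ER hE).trans le_sup_left)) _ (hEp E hE)
    have h2 : (E ⊔ Q).map (QuotientGroup.mk' B) = E.map (QuotientGroup.mk' B) := by
      rw [Subgroup.map_sup, hker hQB, sup_bot_eq]
    rw [← h2]
    exact (Subgroup.map_mono (h.hnorm E hE)).trans (Subgroup.le_normalizer_map _)
  have hRp : IsPGroup p (R.map (QuotientGroup.mk' B)) := by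
    have hCp : IsPGroup p C := hC ▸ pCoreOf_isPGroup p ((R ⊔ Q).map (QuotientGroup.mk' B))
    apply hCp.to_le
    rw [h.hR, sSup_eq_iSup', Subgroup.map_iSup]
    apply iSup_le
    intro E
    exact hEle E.1 E.2
  have htop : IsPGroup p ((T : Subgroup H).map (QuotientGroup.mk' B) ⊔
      R.map (QuotientGroup.mk' B) : Subgroup (H ⧸ B)) := by
    apply IsPGroup.to_sup_of_normal_right' (T.isPGroup'.map _) hRp
    exact (Subgroup.map_mono (le_normalizer_of_normal h.Rn _)).trans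
      (Subgroup.le_normalizer_map _)
  have htop2 : (T : Subgroup H).map (QuotientGroup.mk' B) ⊔ R.map (QuotientGroup.mk' B) = ⊤ := by
    rw [← Subgroup.map_sup, sup_comm, h.RT T, ← MonoidHom.range_eq_map, MonoidHom.range_eq_top]
    exact QuotientGroup.mk'_surjective B
  rw [htop2] at htop
  have hquot : IsPGroup p (H ⧸ B) := by
    intro x
    obtain ⟨k, hk⟩ := htop ⟨x, Subgroup.mem_top x⟩
    exact ⟨k, by simpa using congrArg Subtype.val hk⟩
  have h1 : pResidual p H ≤ B := pResidual_le_of_isPGroup_quotient B hquot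
  rw [← pResOf_top] at h1 ⊢
  rw [← Cfsg.Agent.S2820.pResOf_idem]
  refine (pResOf_mono p h1).trans ?_
  rw [hB, pResOf_sup_eq h.Qp (le_normalizer_of_normal hN _)]
  exact pResOf_le p N

open scoped commutatorElement in
/-- part (b): `H` is `p`-irreducible. -/
theorem irreducible [Fact p.Prime] [Finite H] (h : KSetup p 𝒦 Q R)
    (hnc : ∀ E ∈ 𝒦, ∀ S : Subgroup H, IsSylowIn p S E →
      ¬ E ≤ Subgroup.normalizer (S : Set H))
    (hirr : ∀ E ∈ 𝒦, ∀ N : Subgroup H, N ≤ E → E ≤ Subgroup.normalizer (N : Set H) →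
      ¬ ⁅N, E⁆ ≤ Q → pResOf p E ≤ N) : IsPIrreducible p H := by
  have := h.Qn
  refine ⟨?_, ?_⟩
  · intro hcl
    obtain ⟨T⟩ : Nonempty (Sylow p H) := inferInstance
    obtain ⟨E, hE⟩ := h.hne
    apply hnc E hE _ (h.sylE T hE)
    exact (le_inf (le_normalizer_of_normal (hcl T) E) Subgroup.le_normalizer).trans
      (normalizer_inf_le _ _)
  · intro N hN hNcl
    by_contra hcon
    have hi : ∀ E ∈ 𝒦, ¬ pResOf p E ≤ N := by
      intro E hE hle
      apply hcon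
      apply h.pResidual_le_of_forall hN
      intro K hK
      obtain ⟨g, hg⟩ := h.htr E hE K hK
      rw [hg, pResOf_map_conj]
      have := Subgroup.map_mono (f := (MulAut.conj g).toMonoidHom) hle
      rwa [map_conj_eq_of_mem_normalizer N
        (le_normalizer_of_normal hN ⊤ (Subgroup.mem_top g))] at this
    obtain ⟨B, hB⟩ : ∃ B : Subgroup H, B = Q ⊔ N := ⟨_, rfl⟩
    have hBn : B.Normal := by rw [hB]; exact Subgroup.sup_normal Q N
    have hQB : Q ≤ B := hB ▸ le_sup_left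
    have hNB : N ≤ B := hB ▸ le_sup_right
    have hnB : ∀ X : Subgroup H, X ≤ Subgroup.normalizer (B : Set H) :=
      le_normalizer_of_normal hBn
    have hnRQ : ∀ X : Subgroup H, X ≤ Subgroup.normalizer ((R ⊔ Q : Subgroup H) : Set H) :=
      le_normalizer_of_normal h.RQn
    have hii : ∀ E ∈ 𝒦, ⁅B ⊓ E, E⁆ ≤ Q := by
      intro E hE
      by_contra hc
      have h1 : pResOf p E ≤ B ⊓ E := hirr E hE _ inf_le_right
        ((le_inf (hnB E) Subgroup.le_normalizer).trans (normalizer_inf_le _ _)) hc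
      apply hi E hE
      rw [← Cfsg.Agent.S2820.pResOf_idem]
      refine (pResOf_mono p (h1.trans inf_le_left)).trans ?_
      rw [hB, pResOf_sup_eq h.Qp (le_normalizer_of_normal hN _)]
      exact pResOf_le p N
    have hiv : ∀ E ∈ 𝒦,
        ⁅B ⊓ Subgroup.normalizer ((E ⊔ Q : Subgroup H) : Set H), E⁆ ≤ Q := by
      intro E hE
      have hZeq : B ⊓ (E ⊔ Q) = (B ⊓ E) ⊔ Q := inf_sup_eq_of_le hQB (h.nQ E)
      have hZE : ⁅B ⊓ (E ⊔ Q), E⁆ ≤ Q := by rw [hZeq]; exact h.comm_sup_le (hii E hE)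
      have hZZ : ⁅B ⊓ (E ⊔ Q), B ⊓ (E ⊔ Q)⁆ ≤ Q :=
        (Subgroup.commutator_mono le_rfl inf_le_right).trans (h.comm_sup_le' hZE)
      apply h.comm_le_Q hnc hirr hE (Z := B ⊓ (E ⊔ Q))
        (inf_le_right.trans (sup_le_sup_right (h.ER hE) _))
        ((le_inf (hnB _) (h.hnorm E hE)).trans (normalizer_inf_le _ _)) hZE hZZ
      · exact (le_inf (hnB E) ((le_sup_left.trans Subgroup.le_normalizer).trans
          Subgroup.le_normalizer)).trans (normalizer_inf_le _ _)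
      · apply le_inf
        · exact (Subgroup.commutator_mono inf_le_left le_rfl).trans
            (commutator_le_of_le_normalizer' (hnB E))
        · exact (Subgroup.commutator_mono inf_le_right le_sup_left).trans
            (commutator_le_of_le_normalizer le_rfl)
    obtain ⟨N₁, hN₁⟩ : ∃ N₁ : Subgroup H, N₁ = B ⊓ (R ⊔ Q) := ⟨_, rfl⟩
    have hN₁E : ∀ E ∈ 𝒦, ⁅N₁, E⁆ ≤ Q := by
      intro E hE
      refine (Subgroup.commutator_mono ?_ le_rfl).trans (hiv E hE)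
      rw [hN₁]; exact inf_le_inf_left _ (h.hnorm E hE)
    have hN₁R : ⁅N₁, R ⊔ Q⁆ ≤ Q := by
      apply h.comm_sup_le'
      rw [Subgroup.commutator_comm, ← le_cmod_iff Q, h.hR]
      apply sSup_le
      intro E hE
      rw [le_cmod_iff, Subgroup.commutator_comm]; exact hN₁E E hE
    have hN₁N₁ : ⁅N₁, N₁⁆ ≤ Q :=
      (Subgroup.commutator_mono le_rfl (hN₁ ▸ inf_le_right)).trans hN₁R
    have hN₁n : R ⊔ Q ≤ Subgroup.normalizer (N₁ : Set H) := by
      rw [hN₁]; exact (le_inf (hnB _) (hnRQ _)).trans (normalizer_inf_le _ _)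
    obtain ⟨T⟩ : Nonempty (Sylow p H) := inferInstance
    have hQT := h.QT T
    have hva : ∀ g ∈ (T : Subgroup H) ⊓ B, ∀ s ∈ (T : Subgroup H) ⊓ (R ⊔ Q), ⁅g, s⁆ ∈ Q := by
      rintro g ⟨hgT, hgB⟩ s ⟨hsT, hsR⟩
      have hmem : ⁅g, s⁆ ∈ N₁ := by
        rw [hN₁]
        exact ⟨commutator_le_of_le_normalizer' (hnB ⊤)
            (Subgroup.commutator_mem_commutator hgB (Subgroup.mem_top s)),
          commutator_le_of_le_normalizer (hnRQ ⊤)
            (Subgroup.commutator_mem_commutator (Subgroup.mem_top g) hsR)⟩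
      have hT : ⁅g, s⁆ ∈ (T : Subgroup H) := by
        rw [commutatorElement_def]
        exact Subgroup.mul_mem _ (Subgroup.mul_mem _ (Subgroup.mul_mem _ hgT hsT)
          (Subgroup.inv_mem _ hgT)) (Subgroup.inv_mem _ hsT)
      obtain ⟨k, hk⟩ := T.isPGroup' ⟨_, hT⟩
      have hk' : ⁅g, s⁆ ^ (p ^ k) = 1 := by simpa using congrArg Subtype.val hk
      exact h.mem_Q_of_pow (hN₁ ▸ inf_le_right) hN₁n hN₁N₁ hmem (n := k)
        (by rw [hk']; exact Q.one_mem)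
    have hvb : ∀ g ∈ (T : Subgroup H) ⊓ B, ∀ E ∈ 𝒦,
        g ∈ Subgroup.normalizer ((E ⊔ Q : Subgroup H) : Set H) := by
      intro g hg E hE
      have hEg : E.map (MulAut.conj g).toMonoidHom ∈ 𝒦 := h.hinv g E hE
      have hQc : Q.map (MulAut.conj g).toMonoidHom = Q :=
        map_conj_eq_of_mem_normalizer Q (h.nQ ⊤ (Subgroup.mem_top g))
      rcases h.dichotomy hnc hirr hE hEg with heq | hcomm
      · have hS := h.sylP T hE
        apply mem_normalizer_of_map_conj_eq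
        apply Subgroup.eq_of_le_of_card_ge _ (by rw [card_map_conj])
        have h1 : (E ⊔ Q).map (MulAut.conj g).toMonoidHom = pResOf p (E ⊔ Q) ⊔
            ((T : Subgroup H) ⊓ (E ⊔ Q)).map (MulAut.conj g).toMonoidHom := by
          conv_lhs => rw [← hS.pResOf_sup]
          rw [Subgroup.map_sup, ← pResOf_map_conj, Subgroup.map_sup, hQc, ← heq]
        have h2 : ((T : Subgroup H) ⊓ (E ⊔ Q)).map (MulAut.conj g).toMonoidHom ≤
            (T : Subgroup H) ⊓ (E ⊔ Q) := by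
          rintro _ ⟨s, hs, rfl⟩
          have hs' : s ∈ (T : Subgroup H) ⊓ (E ⊔ Q) := hs
          have hq : ⁅g, s⁆ ∈ Q := hva g hg s ⟨hs'.1, sup_le_sup_right (h.ER hE) _ hs'.2⟩
          have e2 : (MulAut.conj g).toMonoidHom s = ⁅g, s⁆ * s := by
            simp [commutatorElement_def]
          rw [e2]
          exact Subgroup.mul_mem _ ⟨hQT hq, Subgroup.mem_sup_right hq⟩ hs'
        rw [h1]
        exact sup_le (pResOf_le p _) (h2.trans inf_le_right)
      · exfalso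
        have hS := h.sylE T hE
        apply h.not_comm_sylow hnc hE hS
        have hle : (T : Subgroup H) ⊓ E ≤ E.map (MulAut.conj g).toMonoidHom ⊔ Q := by
          intro s hs
          have hq : ⁅g, s⁆ ∈ Q := hva g hg s ⟨hs.1, (h.ER hE).trans le_sup_left hs.2⟩
          have e2 : s = ⁅g, s⁆⁻¹ * (MulAut.conj g).toMonoidHom s := by
            simp only [commutatorElement_def, MulEquiv.coe_toMonoidHom, MulAut.conj_apply]
            group
          rw [e2]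
          exact Subgroup.mul_mem _ (Subgroup.mem_sup_right (Q.inv_mem hq))
            (Subgroup.mem_sup_left ⟨s, hs.2, rfl⟩)
        refine (Subgroup.commutator_mono hle le_rfl).trans ?_
        apply h.comm_sup_le
        rw [Subgroup.commutator_comm]; exact hcomm
    have hv : ⁅(T : Subgroup H) ⊓ B, R⁆ ≤ Q := by
      rw [Subgroup.commutator_comm, ← le_cmod_iff Q, h.hR]
      apply sSup_le
      intro E hE
      rw [le_cmod_iff, Subgroup.commutator_comm, Subgroup.commutator_le]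
      intro g hg e he
      exact hiv E hE (Subgroup.commutator_mem_commutator ⟨hg.2, hvb g hg E hE⟩ he)
    have hsylB : IsSylowIn p ((T : Subgroup H) ⊓ B) B :=
      isSylowIn_inf_of_le_normalizer T (hnB _)
    have hBR : pResOf p B ≤ R :=
      ((pResOf_mono p le_top).trans (pResOf_top p H).le).trans h.hres
    have hBnorm : B ≤ Subgroup.normalizer (((T : Subgroup H) ⊓ B : Subgroup H) : Set H) := by
      have h1 : pResOf p B ≤
          Subgroup.normalizer (((T : Subgroup H) ⊓ B : Subgroup H) : Set H) := by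
        apply le_normalizer_of_forall_map_conj_le
        rintro x hx _ ⟨t, ht, rfl⟩
        have ht' : t ∈ (T : Subgroup H) ⊓ B := ht
        have hq : ⁅x, t⁆ ∈ Q := by
          have := hv (Subgroup.commutator_mem_commutator ht' (hBR hx))
          rw [← commutatorElement_inv]; exact Q.inv_mem this
        have e2 : (MulAut.conj x).toMonoidHom t = ⁅x, t⁆ * t := by
          simp [commutatorElement_def]
        rw [e2]
        exact Subgroup.mul_mem _ ⟨hQT hq, hQB hq⟩ ht'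
      have h2 := sup_le h1 (Subgroup.le_normalizer (H := (T : Subgroup H) ⊓ B))
      rwa [hsylB.pResOf_sup] at h2
    apply hNcl
    have hsylN : IsSylowIn p ((T : Subgroup H) ⊓ N) N :=
      isSylowIn_inf_of_le_normalizer T (le_normalizer_of_normal hN _)
    rw [isPClosed_subgroup_iff hsylN]
    have e : (T : Subgroup H) ⊓ N = ((T : Subgroup H) ⊓ B) ⊓ N := by
      rw [inf_assoc, inf_eq_right.mpr hNB]
    rw [e]
    exact (le_inf (hNB.trans hBnorm) Subgroup.le_normalizer).trans (normalizer_inf_le _ _)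

end KSetup

end Cfsg.Agent.Lib.Helper18
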