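import Cfsg.Agent.Lib.Helper18.SylowRel

set_option autoImplicit false

namespace Cfsg.Agent.Lib.Helper18

variable {G : Type*} [Group G] {p : ℕ}

theorem map_conj_self_of_mem {K : Subgroup G} {c : G} (hc : c ∈ K) : (Subgroup.map (MulAut.conj c).toMonoidHom K) = K :=
  map_conj_eq_of_mem_normalizer K (Subgroup.le_normalizer hc)

theorem map_conj_le_of_mem {X K : Subgroup G} {c : G} (hX : X ≤ K) (hc : c ∈ K) :
    (Subgroup.map (MulAut.conj c).toMonoidHom X) ≤ K :=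
  calc (Subgroup.map (MulAut.conj c).toMonoidHom X) ≤ (Subgroup.map (MulAut.conj c).toMonoidHom K) := Subgroup.map_mono hX
    _ = K := map_conj_self_of_mem hc

theorem map_conj_inv_cancel (X : Subgroup G) (g : G) : (Subgroup.map (MulAut.conj g⁻¹).toMonoidHom ((Subgroup.map (MulAut.conj g).toMonoidHom X))) = X := by
  rw [← map_conj_mul, inv_mul_cancel, map_conj_one]

/-- `K` is minimal over its Sylow `p`-subgroup `S`, with `K₀` the unique maximal subgroup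
of `K` containing `S` (and `K₀` not normal in `K`). -/
def TMinW (p : ℕ) (K K₀ S : Subgroup G) : Prop :=
  K₀ ≤ K ∧ IsSylowIn p S K ∧ S ≤ K₀ ∧ (∀ X : Subgroup G, S ≤ X → X ≤ K → X ≠ K → X ≤ K₀) ∧
    ¬ K ≤ Subgroup.normalizer (K₀ : Set G)

def TMin (p : ℕ) (K K₀ : Subgroup G) : Prop := ∃ S, TMinW p K K₀ S

/-- The pair `(L, c)` is good for `A`: `A ≤ L`, `L` is not in the conjugate `K₀ ^ c ≥ A`,
and `K₀ ^ c` is the only `L`-conjugate of itself containing `A`. -/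
def LGood (A L K₀ : Subgroup G) (c : G) : Prop :=
  A ≤ L ∧ A ≤ (Subgroup.map (MulAut.conj c).toMonoidHom K₀) ∧ ¬ L ≤ (Subgroup.map (MulAut.conj c).toMonoidHom K₀) ∧
    ∀ l ∈ L, A ≤ (Subgroup.map (MulAut.conj (l * c)).toMonoidHom K₀) → (Subgroup.map (MulAut.conj (l * c)).toMonoidHom K₀) = (Subgroup.map (MulAut.conj c).toMonoidHom K₀)

theorem TMinW.ne_self {K K₀ S : Subgroup G} (h : TMinW p K K₀ S) : K₀ ≠ K := by
  intro e
  apply h.2.2.2.2
  rw [e]
  exact Subgroup.le_normalizer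

theorem TMinW.card_lt [Finite G] {K K₀ S : Subgroup G} (h : TMinW p K K₀ S) :
    Nat.card K₀ < Nat.card K := by
  by_contra hc
  push Not at hc
  exact h.ne_self (Subgroup.eq_of_le_of_card_ge h.1 hc)

theorem TMinW.not_le_conj [Finite G] {K K₀ S : Subgroup G} (h : TMinW p K K₀ S) (k : G) :
    ¬ K ≤ (Subgroup.map (MulAut.conj k).toMonoidHom K₀) := by
  intro hle
  have h1 := Subgroup.card_le_of_le hle
  rw [card_map_conj] at h1
  have h2 := h.card_lt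
  omega

theorem TMinW.inf_normalizer_le {K K₀ S : Subgroup G} (h : TMinW p K K₀ S) :
    K ⊓ Subgroup.normalizer (K₀ : Set G) ≤ K₀ := by
  apply h.2.2.2.1 _ (le_inf (h.2.2.1.trans h.1) (h.2.2.1.trans Subgroup.le_normalizer)) inf_le_left
  intro e
  apply h.2.2.2.2
  rw [← e]
  exact inf_le_right

theorem TMinW.mem_of_conj_eq {K K₀ S : Subgroup G} (h : TMinW p K K₀ S) {c l : G}
    (hc : c ∈ K) (hl : l ∈ K) (e : (Subgroup.map (MulAut.conj (l * c)).toMonoidHom K₀) = (Subgroup.map (MulAut.conj c).toMonoidHom K₀)) : l ∈ (Subgroup.map (MulAut.conj c).toMonoidHom K₀) := by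
  rw [mem_map_conj_iff]
  apply h.inf_normalizer_le
  refine ⟨K.mul_mem (K.mul_mem (K.inv_mem hc) hl) hc, ?_⟩
  apply mem_normalizer_of_map_conj_eq
  rw [mul_assoc, map_conj_mul, e, map_conj_inv_cancel]

theorem TMinW.le_conj [Finite G] {K K₀ S : Subgroup G} (h : TMinW p K K₀ S) {X : Subgroup G}
    {k : G} (hk : k ∈ K) (hXK : X ≤ K) (hne : X ≠ K) (hSX : (Subgroup.map (MulAut.conj k).toMonoidHom S) ≤ X) : X ≤ (Subgroup.map (MulAut.conj k).toMonoidHom K₀) := by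
  have h1 : S ≤ (Subgroup.map (MulAut.conj k⁻¹).toMonoidHom X) := (map_conj_le_iff S X k).mp hSX
  have h2 : (Subgroup.map (MulAut.conj k⁻¹).toMonoidHom X) ≤ K := map_conj_le_of_mem hXK (K.inv_mem hk)
  have h3 : (Subgroup.map (MulAut.conj k⁻¹).toMonoidHom X) ≠ K := by
    intro e
    apply hne
    apply Subgroup.eq_of_le_of_card_ge hXK
    rw [← e, card_map_conj]
  have h4 := h.2.2.2.1 _ h1 h2 h3
  have h5 := (map_conj_le_iff X K₀ k⁻¹).mp h4
  rwa [inv_inv] at h5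

theorem TMinW.conj_eq [Finite G] {K K₀ S : Subgroup G} (h : TMinW p K K₀ S) {k c : G}
    (hk : k ∈ K) (hc : c ∈ K) (hle : (Subgroup.map (MulAut.conj k).toMonoidHom S) ≤ (Subgroup.map (MulAut.conj c).toMonoidHom K₀)) : (Subgroup.map (MulAut.conj c).toMonoidHom K₀) = (Subgroup.map (MulAut.conj k).toMonoidHom K₀) := by
  have h1 : (Subgroup.map (MulAut.conj c).toMonoidHom K₀) ≤ K := map_conj_le_of_mem h.1 hc
  have h2 : (Subgroup.map (MulAut.conj c).toMonoidHom K₀) ≠ K := fun e => h.not_le_conj c e.ge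
  have h3 := h.le_conj hk h1 h2 hle
  apply Subgroup.eq_of_le_of_card_ge h3
  rw [card_map_conj, card_map_conj]

theorem TMinW.exists_conj [Finite G] [Fact p.Prime] {K K₀ S : Subgroup G} (h : TMinW p K K₀ S)
    {B : Subgroup G} {c : G} (hB : IsPGroup p B) (hc : c ∈ K) (hBc : B ≤ (Subgroup.map (MulAut.conj c).toMonoidHom K₀)) :
    ∃ k ∈ K, B ≤ (Subgroup.map (MulAut.conj k).toMonoidHom S) ∧ (Subgroup.map (MulAut.conj k).toMonoidHom K₀) = (Subgroup.map (MulAut.conj c).toMonoidHom K₀) := by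
  have h1 := h.2.1.map_conj c
  rw [map_conj_self_of_mem hc] at h1
  have h2 : IsSylowIn p ((Subgroup.map (MulAut.conj c).toMonoidHom S)) ((Subgroup.map (MulAut.conj c).toMonoidHom K₀)) :=
    ⟨Subgroup.map_mono h.2.2.1, h1.2.1, fun R' hR' hle hR'K =>
      h1.2.2 R' hR' hle (hR'K.trans (map_conj_le_of_mem h.1 hc))⟩
  obtain ⟨m, hm, hBm⟩ := h2.exists_conj_le hB hBc
  refine ⟨m * c, K.mul_mem (map_conj_le_of_mem h.1 hc hm) hc, ?_, ?_⟩
  · rw [map_conj_mul]; exact hBm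
  · rw [map_conj_mul, map_conj_self_of_mem hm]

theorem LGood.conj {A L K₀ : Subgroup G} {c : G} (h : LGood A L K₀ c) (g : G) :
    LGood ((Subgroup.map (MulAut.conj g).toMonoidHom A)) ((Subgroup.map (MulAut.conj g).toMonoidHom L)) K₀ (g * c) := by
  refine ⟨Subgroup.map_mono h.1, ?_, ?_, ?_⟩
  · rw [map_conj_mul]; exact Subgroup.map_mono h.2.1
  · intro hle
    apply h.2.2.1
    rw [map_conj_mul, map_conj_le_iff, map_conj_inv_cancel] at hle
    exact hle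
  · intro l' hl' hle
    rw [mem_map_conj_iff] at hl'
    have e : l' * (g * c) = g * ((g⁻¹ * l' * g) * c) := by group
    rw [e, map_conj_mul, map_conj_le_iff, map_conj_inv_cancel] at hle
    rw [e, map_conj_mul, h.2.2.2 _ hl' hle, ← map_conj_mul]

theorem LGood.mem_of_le {K K₀ A₁ L₁ : Subgroup G} {c₁ l : G} (hg : LGood A₁ L₁ K₀ c₁)
    (hT : TMin p K K₀) (hL₁ : L₁ ≤ K) (hc₁ : c₁ ∈ K) (hl : l ∈ L₁)
    (hle : A₁ ≤ (Subgroup.map (MulAut.conj (l * c₁)).toMonoidHom K₀)) : l ∈ (Subgroup.map (MulAut.conj c₁).toMonoidHom K₀) := by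
  obtain ⟨S, hS⟩ := hT
  exact hS.mem_of_conj_eq hc₁ (hL₁ hl) (hg.2.2.2 l hl hle)

theorem LGood.mem_inf {K K₀ A₁ L₁ : Subgroup G} {c₁ l : G} (hg : LGood A₁ L₁ K₀ c₁)
    (hT : TMin p K K₀) (hL₁ : L₁ ≤ K) (hc₁ : c₁ ∈ K) (hl : l ∈ L₁)
    (hle : A₁ ≤ (Subgroup.map (MulAut.conj l).toMonoidHom (L₁ ⊓ (Subgroup.map (MulAut.conj c₁).toMonoidHom K₀)))) : l ∈ L₁ ⊓ (Subgroup.map (MulAut.conj c₁).toMonoidHom K₀) := by
  refine ⟨hl, hg.mem_of_le hT hL₁ hc₁ hl ?_⟩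
  rw [map_conj_mul]
  exact hle.trans (Subgroup.map_mono inf_le_right)

theorem LGood.not_isPGroup [Finite G] [Fact p.Prime] {K K₀ A₁ L₁ : Subgroup G} {c₁ : G}
    (hg : LGood A₁ L₁ K₀ c₁) (hT : TMin p K K₀) (hL₁ : L₁ ≤ K) (hc₁ : c₁ ∈ K) :
    ¬ IsPGroup p L₁ := by
  intro hp
  have hlt : L₁ ⊓ (Subgroup.map (MulAut.conj c₁).toMonoidHom K₀) < L₁ :=
    lt_of_le_of_ne inf_le_left (fun e => hg.2.2.1 (e ▸ inf_le_right))
  obtain ⟨u, huL, huN, hu⟩ := exists_mem_normalizer_not_mem hp hlt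
  apply hu
  apply hg.mem_inf hT hL₁ hc₁ huL
  rw [map_conj_eq_of_mem_normalizer _ huN]
  exact le_inf hg.1 hg.2.1

theorem LGood.tmin [Finite G] [Fact p.Prime] {K K₀ A₁ L₁ : Subgroup G} {c₁ : G}
    (hg : LGood A₁ L₁ K₀ c₁) (hT : TMin p K K₀) (hL₁ : L₁ ≤ K) (hc₁ : c₁ ∈ K)
    (hA₁ : IsPGroup p A₁)
    (hmin : ∀ X : Subgroup G, A₁ ≤ X → X ≤ L₁ → X ≠ L₁ → X ≤ (Subgroup.map (MulAut.conj c₁).toMonoidHom K₀)) :
    TMin p L₁ (L₁ ⊓ (Subgroup.map (MulAut.conj c₁).toMonoidHom K₀)) := by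
  obtain ⟨SL, hSL, hASL⟩ := exists_isSylowIn_ge hA₁ hg.1
  have hSLne : SL ≠ L₁ := by
    intro e
    exact hg.not_isPGroup hT hL₁ hc₁ (e ▸ hSL.2.1)
  refine ⟨SL, inf_le_left, hSL, le_inf hSL.1 (hmin SL hASL hSL.1 hSLne), ?_, ?_⟩
  · intro X hSX hXL hXne
    exact le_inf hXL (hmin X (hASL.trans hSX) hXL hXne)
  · intro hle
    apply hg.2.2.1
    intro l hl
    have h1 := hg.mem_inf hT hL₁ hc₁ hl
      (by rw [map_conj_eq_of_mem_normalizer _ (hle hl)]; exact le_inf hg.1 hg.2.1)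
    exact h1.2

theorem LGood.lift {K K₀ A₁ L₁ B L' : Subgroup G} {c₁ l₀ : G}
    (hB : LGood B L' (L₁ ⊓ (Subgroup.map (MulAut.conj c₁).toMonoidHom K₀)) l₀) (hg : LGood A₁ L₁ K₀ c₁)
    (hT : TMin p K K₀) (hL₁ : L₁ ≤ K) (hc₁ : c₁ ∈ K) (hL' : L' ≤ L₁) (hl₀ : l₀ ∈ L₁) :
    LGood B L' K₀ (l₀ * c₁) := by
  have key : ∀ (X : Subgroup G) (l : G), l ∈ L₁ → X ≤ L₁ → X ≤ (Subgroup.map (MulAut.conj (l * c₁)).toMonoidHom K₀) →
      X ≤ (Subgroup.map (MulAut.conj l).toMonoidHom (L₁ ⊓ (Subgroup.map (MulAut.conj c₁).toMonoidHom K₀))) := by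
    intro X l hl hX hXl x hx
    have h1 := hXl hx
    rw [map_conj_mul, mem_map_conj_iff] at h1
    rw [mem_map_conj_iff]
    exact ⟨L₁.mul_mem (L₁.mul_mem (L₁.inv_mem hl) (hX hx)) hl, h1⟩
  refine ⟨hB.1, ?_, ?_, ?_⟩
  · rw [map_conj_mul]
    exact hB.2.1.trans (Subgroup.map_mono inf_le_right)
  · intro hle
    exact hB.2.2.1 (key L' l₀ hl₀ hL' hle)
  · intro l hl hle
    have hl1 : l ∈ L₁ := hL' hl
    have h1 : B ≤ (Subgroup.map (MulAut.conj (l * l₀)).toMonoidHom (L₁ ⊓ (Subgroup.map (MulAut.conj c₁).toMonoidHom K₀))) := by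
      apply key B (l * l₀) (L₁.mul_mem hl1 hl₀) (hB.1.trans hL')
      rw [mul_assoc]; exact hle
    have h2 := hB.2.2.2 l hl h1
    have h3 : l₀⁻¹ * (l * l₀) ∈ L₁ ⊓ (Subgroup.map (MulAut.conj c₁).toMonoidHom K₀) := by
      apply hg.mem_inf hT hL₁ hc₁ (L₁.mul_mem (L₁.inv_mem hl₀) (L₁.mul_mem hl1 hl₀))
      rw [map_conj_mul, h2, map_conj_inv_cancel]
      exact le_inf hg.1 hg.2.1
    have e : l * (l₀ * c₁) = l₀ * ((l₀⁻¹ * (l * l₀)) * c₁) := by group
    rw [e, map_conj_mul, map_conj_mul K₀ (l₀⁻¹ * (l * l₀)) c₁,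
      map_conj_self_of_mem h3.2, ← map_conj_mul]

theorem exists_good_aux [Finite G] [Fact p.Prime] :
    ∀ (n : ℕ) (K K₀ : Subgroup G), Nat.card K = n → TMin p K K₀ →
      ∀ (d : ℕ) (A : Subgroup G), Nat.card K - Nat.card A = d → IsPGroup p A → A ≤ K →
        (∃ k ∈ K, ¬ A ≤ (Subgroup.map (MulAut.conj k).toMonoidHom K₀)) →
        ∃ L c, L ≤ K ∧ c ∈ K ∧ LGood A L K₀ c := by
  intro n
  induction n using Nat.strong_induction_on with
  | _ n ihn =>
  intro K K₀ hn hT d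
  induction d using Nat.strong_induction_on with
  | _ d ihm =>
  intro A hd hA hAK hex
  by_contra hno
  have hno' : ∀ L c, L ≤ K → c ∈ K → ¬ LGood A L K₀ c :=
    fun L c hL hc hg => hno ⟨L, c, hL, hc, hg⟩
  obtain ⟨S, hS⟩ := hT
  have hT : TMin p K K₀ := ⟨S, hS⟩
  have hSK₀ : ∀ k : G, (Subgroup.map (MulAut.conj k).toMonoidHom S) ≤ (Subgroup.map (MulAut.conj k).toMonoidHom K₀) := fun k => Subgroup.map_mono hS.2.2.1
  -- (1)
  obtain ⟨k₁, hk₁, hAk₁⟩ := hS.2.1.exists_conj_le hA hAK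
  have h1 : ∃ l ∈ K, A ≤ (Subgroup.map (MulAut.conj (l * k₁)).toMonoidHom K₀) ∧ (Subgroup.map (MulAut.conj (l * k₁)).toMonoidHom K₀) ≠ (Subgroup.map (MulAut.conj k₁).toMonoidHom K₀) := by
    by_contra hcon
    push Not at hcon
    exact hno' K k₁ le_rfl hk₁ ⟨hAK, hAk₁.trans (hSK₀ k₁), hS.not_le_conj k₁, hcon⟩
  obtain ⟨l, hl, hAl, hne⟩ := h1
  obtain ⟨k₂, hk₂, hAk₂, hk₂e⟩ := hS.exists_conj hA (K.mul_mem hl hk₁) hAl
  have hne12 : (Subgroup.map (MulAut.conj k₂).toMonoidHom K₀) ≠ (Subgroup.map (MulAut.conj k₁).toMonoidHom K₀) := by rw [hk₂e]; exact hne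
  -- (3)
  have hKN : ¬ K ≤ Subgroup.normalizer (A : Set G) := by
    intro hKN
    obtain ⟨k, hk, hAk⟩ := hex
    apply hAk
    have e1 : (Subgroup.map (MulAut.conj (k * k₁⁻¹)).toMonoidHom A) = A :=
      map_conj_eq_of_mem_normalizer A (hKN (K.mul_mem hk (K.inv_mem hk₁)))
    have e2 : (Subgroup.map (MulAut.conj (k * k₁⁻¹)).toMonoidHom A) ≤ (Subgroup.map (MulAut.conj (k * k₁⁻¹)).toMonoidHom ((Subgroup.map (MulAut.conj k₁).toMonoidHom K₀))) :=
      Subgroup.map_mono (hAk₁.trans (hSK₀ k₁))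
    rw [e1, ← map_conj_mul, inv_mul_cancel_right] at e2
    exact e2
  -- (5)
  have key : ∀ k ∈ K, A ≤ (Subgroup.map (MulAut.conj k).toMonoidHom S) → ∃ B : Subgroup G, B ≤ K ∧
      B ≤ Subgroup.normalizer (A : Set G) ∧
      (∀ X : Subgroup G, B ≤ X → X ≤ K → X ≠ K → X ≤ (Subgroup.map (MulAut.conj k).toMonoidHom K₀)) ∧
      (∀ c ∈ K, B ≤ (Subgroup.map (MulAut.conj c).toMonoidHom K₀) → (Subgroup.map (MulAut.conj c).toMonoidHom K₀) = (Subgroup.map (MulAut.conj k).toMonoidHom K₀)) := by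
    intro k hk hAk
    have hSkK : (Subgroup.map (MulAut.conj k).toMonoidHom S) ≤ K := map_conj_le_of_mem hS.2.1.1 hk
    by_cases hSN : (Subgroup.map (MulAut.conj k).toMonoidHom S) ≤ Subgroup.normalizer (A : Set G)
    · exact ⟨(Subgroup.map (MulAut.conj k).toMonoidHom S), hSkK, hSN, fun X hX hXK hXne => hS.le_conj hk hXK hXne hX,
        fun c hc hle => hS.conj_eq hk hc hle⟩
    · obtain ⟨R, hR⟩ : ∃ R, R = (Subgroup.map (MulAut.conj k).toMonoidHom S) ⊓ Subgroup.normalizer (A : Set G) := ⟨_, rfl⟩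
      have hRle : R ≤ (Subgroup.map (MulAut.conj k).toMonoidHom S) := by rw [hR]; exact inf_le_left
      have hRN : R ≤ Subgroup.normalizer (A : Set G) := by rw [hR]; exact inf_le_right
      have hRlt : R < (Subgroup.map (MulAut.conj k).toMonoidHom S) :=
        lt_of_le_of_ne hRle (fun e => hSN (e ▸ hRN))
      have hSkp : IsPGroup p ((Subgroup.map (MulAut.conj k).toMonoidHom S)) := hS.2.1.2.1.map _
      obtain ⟨t, htS, htN, htR⟩ := exists_mem_normalizer_not_mem hSkp hRlt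
      have hAR : A ≤ R := by rw [hR]; exact le_inf hAk Subgroup.le_normalizer
      have htA : t ∉ Subgroup.normalizer (A : Set G) := fun h => htR (by rw [hR]; exact ⟨htS, h⟩)
      have hAtR : (Subgroup.map (MulAut.conj t).toMonoidHom A) ≤ R :=
        calc (Subgroup.map (MulAut.conj t).toMonoidHom A) ≤ (Subgroup.map (MulAut.conj t).toMonoidHom R) := Subgroup.map_mono hAR
          _ = R := map_conj_eq_of_mem_normalizer R htN
      obtain ⟨A₁, hA₁⟩ : ∃ A₁, A₁ = A ⊔ (Subgroup.map (MulAut.conj t).toMonoidHom A) := ⟨_, rfl⟩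
      have hA₁R : A₁ ≤ R := by rw [hA₁]; exact sup_le hAR hAtR
      have hA₁S : A₁ ≤ (Subgroup.map (MulAut.conj k).toMonoidHom S) := hA₁R.trans hRle
      have hA₁N : A₁ ≤ Subgroup.normalizer (A : Set G) := hA₁R.trans hRN
      have hA₁K : A₁ ≤ K := hA₁S.trans hSkK
      have hA₁p : IsPGroup p A₁ := hSkp.to_le hA₁S
      have hAA₁ : A ≤ A₁ := by rw [hA₁]; exact le_sup_left
      have hAtA₁ : (Subgroup.map (MulAut.conj t).toMonoidHom A) ≤ A₁ := by rw [hA₁]; exact le_sup_right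
      have hcard : Nat.card A < Nat.card A₁ := by
        by_contra hc
        push Not at hc
        have e : A = A₁ := Subgroup.eq_of_le_of_card_ge hAA₁ hc
        apply htA
        apply mem_normalizer_of_map_conj_eq
        apply Subgroup.eq_of_le_of_card_ge
        · exact hAtA₁.trans e.ge
        · rw [card_map_conj]
      have hd' : Nat.card K - Nat.card A₁ < d := by
        have h1 : Nat.card A₁ ≤ Nat.card K := Subgroup.card_le_of_le hA₁K
        omega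
      have hex₁ : ∃ k ∈ K, ¬ A₁ ≤ (Subgroup.map (MulAut.conj k).toMonoidHom K₀) := by
        obtain ⟨k', hk', hAk'⟩ := hex
        exact ⟨k', hk', fun h => hAk' (hAA₁.trans h)⟩
      have hgood₁ := ihm _ hd' A₁ rfl hA₁p hA₁K hex₁
      classical
      have hexn : ∃ m, ∃ (L₁ : Subgroup G) (c₁ : G),
          Nat.card L₁ = m ∧ L₁ ≤ K ∧ c₁ ∈ K ∧ LGood A₁ L₁ K₀ c₁ := by
        obtain ⟨L₁, c₁, h1, h2, h3⟩ := hgood₁
        exact ⟨_, L₁, c₁, rfl, h1, h2, h3⟩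
      obtain ⟨L₁, c₁, hcL₁, hL₁K, hc₁, hg₁⟩ := Nat.find_spec hexn
      have hminL : ∀ (X : Subgroup G) (c : G), X ≤ K → c ∈ K → LGood A₁ X K₀ c →
          Nat.card L₁ ≤ Nat.card X := by
        intro X c hX hc hg
        rw [hcL₁]
        exact Nat.find_min' hexn ⟨X, c, rfl, hX, hc, hg⟩
      have m1 : ∀ X : Subgroup G, A₁ ≤ X → X ≤ L₁ → X ≠ L₁ → X ≤ (Subgroup.map (MulAut.conj c₁).toMonoidHom K₀) := by
        intro X hAX hXL hXne
        by_contra hXC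
        have hg : LGood A₁ X K₀ c₁ := ⟨hAX, hg₁.2.1, hXC, fun l hl => hg₁.2.2.2 l (hXL hl)⟩
        have h1 := hminL X c₁ (hXL.trans hL₁K) hc₁ hg
        exact hXne (Subgroup.eq_of_le_of_card_ge hXL h1)
      have hL₁eq : L₁ = K := by
        by_contra hL₁ne
        have hclt : Nat.card L₁ < n := by
          rw [← hn]
          by_contra hc
          push Not at hc
          exact hL₁ne (Subgroup.eq_of_le_of_card_ge hL₁K hc)
        have hT₁ : TMin p L₁ (L₁ ⊓ (Subgroup.map (MulAut.conj c₁).toMonoidHom K₀)) := hg₁.tmin hT hL₁K hc₁ hA₁p m1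
        have conv : ∀ B : Subgroup G, IsPGroup p B → B ≤ L₁ →
            (∃ l ∈ L₁, ¬ B ≤ (Subgroup.map (MulAut.conj l).toMonoidHom (L₁ ⊓ (Subgroup.map (MulAut.conj c₁).toMonoidHom K₀)))) →
            ∃ L c, L ≤ K ∧ c ∈ K ∧ LGood B L K₀ c := by
          intro B hB hBL hexB
          obtain ⟨L', l₀, hL', hl₀, hg'⟩ := ihn _ hclt L₁ _ rfl hT₁ _ B rfl hB hBL hexB
          exact ⟨L', l₀ * c₁, hL'.trans hL₁K, K.mul_mem (hL₁K hl₀) hc₁,
            hg'.lift hg₁ hT hL₁K hc₁ hL' hl₀⟩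
        have hAall : ∀ l ∈ L₁, A ≤ (Subgroup.map (MulAut.conj l).toMonoidHom (L₁ ⊓ (Subgroup.map (MulAut.conj c₁).toMonoidHom K₀))) := by
          by_contra hcon
          push Not at hcon
          exact hno (conv A hA (hAA₁.trans hg₁.1) hcon)
        have hAtall : ∀ l ∈ L₁, (Subgroup.map (MulAut.conj t).toMonoidHom A) ≤ (Subgroup.map (MulAut.conj l).toMonoidHom (L₁ ⊓ (Subgroup.map (MulAut.conj c₁).toMonoidHom K₀))) := by
          by_contra hcon
          push Not at hcon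
          obtain ⟨L', c', hL', hc', hg'⟩ := conv ((Subgroup.map (MulAut.conj t).toMonoidHom A)) (hA.map _) (hAtA₁.trans hg₁.1) hcon
          have hg'' := hg'.conj t⁻¹
          rw [map_conj_inv_cancel] at hg''
          have htK : t ∈ K := hSkK htS
          exact hno ⟨_, _, map_conj_le_of_mem hL' (K.inv_mem htK),
            K.mul_mem (K.inv_mem htK) hc', hg''⟩
        apply hg₁.2.2.1
        intro l hl
        have hle : A₁ ≤ (Subgroup.map (MulAut.conj (l * c₁)).toMonoidHom K₀) := by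
          rw [hA₁, map_conj_mul]
          exact sup_le ((hAall l hl).trans (Subgroup.map_mono inf_le_right))
            ((hAtall l hl).trans (Subgroup.map_mono inf_le_right))
        exact hg₁.mem_of_le hT hL₁K hc₁ hl hle
      subst hL₁eq
      have hck : (Subgroup.map (MulAut.conj c₁).toMonoidHom K₀) = (Subgroup.map (MulAut.conj k).toMonoidHom K₀) := by
        have h1 := hg₁.2.2.2 (k * c₁⁻¹) (L₁.mul_mem hk (L₁.inv_mem hc₁))
          (by rw [inv_mul_cancel_right]; exact hA₁S.trans (hSK₀ k))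
        rw [inv_mul_cancel_right] at h1
        exact h1.symm
      refine ⟨A₁, hA₁K, hA₁N, ?_, ?_⟩
      · intro X hAX hXK hXne
        rw [← hck]; exact m1 X hAX hXK hXne
      · intro c hc hle
        have h1 := hg₁.2.2.2 (c * c₁⁻¹) (L₁.mul_mem hc (L₁.inv_mem hc₁))
          (by rw [inv_mul_cancel_right]; exact hle)
        rw [inv_mul_cancel_right] at h1
        rw [h1, hck]
  -- (6)
  obtain ⟨B₁, hB₁K, hB₁N, hB₁max, hB₁u⟩ := key k₁ hk₁ hAk₁
  obtain ⟨B₂, hB₂K, hB₂N, hB₂max, hB₂u⟩ := key k₂ hk₂ hAk₂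
  by_cases hX : B₁ ⊔ B₂ = K
  · exact hKN (hX ▸ sup_le hB₁N hB₂N)
  · have h1 := hB₁max (B₁ ⊔ B₂) le_sup_left (sup_le hB₁K hB₂K) hX
    exact hne12 (hB₂u k₁ hk₁ (le_sup_right.trans h1)).symm

/-- In a group `K` minimal over its Sylow `p`-subgroup (with unique maximal overgroup `K₀`, not
normal in `K`), every `p`-subgroup `A` not contained in all conjugates of `K₀` has a good pair. -/
theorem exists_good [Finite G] [Fact p.Prime] {K K₀ A : Subgroup G} (hT : TMin p K K₀)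
    (hA : IsPGroup p A) (hAK : A ≤ K) (hex : ∃ k ∈ K, ¬ A ≤ (Subgroup.map (MulAut.conj k).toMonoidHom K₀)) :
    ∃ L c, L ≤ K ∧ c ∈ K ∧ LGood A L K₀ c :=
  exists_good_aux _ K K₀ rfl hT _ A rfl hA hAK hex

end Cfsg.Agent.Lib.Helper18
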