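import Cfsg.Agent.Lib.Helper18.Large
import Cfsg.Agent.Lib.Helper18.OddCore
import Cfsg.Agent.Lib.Helper18.Subnormal

set_option autoImplicit false

namespace Cfsg.Agent.Lib.Helper18

open Cfsg
open scoped commutatorElement

section

variable {H : Type*} [Group H] {p : ℕ}

/-- A `p`-group `P` normalising a nontrivial `p`-group `Y` centralises an element of order `p`
of `Y`. -/
theorem exists_fixed_of_le_normalizer [Finite H] [Fact p.Prime] {P Y : Subgroup H}
    (hP : IsPGroup p P) (hY : IsPGroup p Y) (hY1 : Y ≠ ⊥)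
    (hPY : P ≤ Subgroup.normalizer (Y : Set H)) :
    ∃ z ∈ Y, orderOf z = p ∧ ∀ s ∈ P, s * z = z * s := by
  have hS : IsPGroup p (P ⊔ Y : Subgroup H) := IsPGroup.to_sup_of_normal_right' hP hY hPY
  obtain ⟨z, hz, hzo, hzc⟩ := exists_central_mem_of_normal hS le_sup_right
    (sup_le hPY Subgroup.le_normalizer) hY1
  exact ⟨z, hz, hzo, fun s hs => hzc s (Subgroup.mem_sup_left hs)⟩

/-- Two conjugates of a large `p`-subgroup inside a common `p`-subgroup coincide. -/
theorem isLarge_conj_eq_of_le_pGroup [Finite H] [Fact p.Prime] {Q S : Subgroup H}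
    (hQp : IsPGroup p Q) (hQ1 : Q ≠ ⊥) (hL : IsLarge Q) (hS : IsPGroup p S) (hQS : Q ≤ S)
    (g : H) (hg : Q.map (MulAut.conj g).toMonoidHom ≤ S) :
    Q.map (MulAut.conj g).toMonoidHom = Q := by
  have hS1 : S ≠ ⊥ := fun h => hQ1 (le_bot_iff.mp (h ▸ hQS))
  obtain ⟨z, hz, hzo, hzc⟩ := exists_central_orderOf_eq hS hS1
  apply map_conj_eq_of_mem_normalizer
  apply isLarge_mem_normalizer_of_centralizer_inf_ne_bot hQp hQ1 hL g
  intro hbot
  have h1 : z ∈ Subgroup.centralizer (Q : Set H) ⊓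
      Subgroup.centralizer ((Q.map (MulAut.conj g).toMonoidHom : Subgroup H) : Set H) :=
    Subgroup.mem_inf.mpr ⟨Subgroup.mem_centralizer_iff.mpr (fun q hq => hzc q (hQS hq)),
      Subgroup.mem_centralizer_iff.mpr (fun q hq => hzc q (hg hq))⟩
  rw [hbot, Subgroup.mem_bot] at h1
  rw [h1, orderOf_one] at hzo
  exact (Fact.out : p.Prime).one_lt.ne hzo

/-- A `p`-subgroup containing a large `p`-subgroup normalises it. -/
theorem isLarge_le_normalizer_of_le [Finite H] [Fact p.Prime] {Q S : Subgroup H}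
    (hQp : IsPGroup p Q) (hQ1 : Q ≠ ⊥) (hL : IsLarge Q) (hS : IsPGroup p S) (hQS : Q ≤ S) :
    S ≤ Subgroup.normalizer (Q : Set H) := by
  intro s hs
  apply mem_normalizer_of_map_conj_eq
  apply isLarge_conj_eq_of_le_pGroup hQp hQ1 hL hS hQS
  rintro _ ⟨q, hq, rfl⟩
  exact S.mul_mem (S.mul_mem hs (hQS hq)) (S.inv_mem hs)

/-- If a large `p`-subgroup `Q` normalises a nontrivial `p`-subgroup `Y`, then `C(Y)`
normalises `Q`. -/
theorem isLarge_centralizer_le_normalizer [Finite H] [Fact p.Prime] {Q Y : Subgroup H}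
    (hQp : IsPGroup p Q) (hL : IsLarge Q) (hY : IsPGroup p Y) (hY1 : Y ≠ ⊥)
    (hQY : Q ≤ Subgroup.normalizer (Y : Set H)) :
    Subgroup.centralizer (Y : Set H) ≤ Subgroup.normalizer (Q : Set H) := by
  obtain ⟨z, hz, hzo, hzc⟩ := exists_fixed_of_le_normalizer hQp hY hY1 hQY
  have hU : Subgroup.zpowers z ≤ Subgroup.centralizer (Q : Set H) :=
    (Subgroup.zpowers_le).mpr (Subgroup.mem_centralizer_iff.mpr hzc)
  have h1 := hL.2 _ hU (zpowers_ne_bot_of_orderOf hzo)
  refine le_trans ?_ h1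
  refine le_trans ?_ (centralizer_singleton_le_normalizer_zpowers z)
  exact Subgroup.centralizer_le (Set.singleton_subset_iff.mpr hz)

theorem conj_le_weakClosure {Q L : Subgroup H} {g : H}
    (h : Q.map (MulAut.conj g).toMonoidHom ≤ L) :
    Q.map (MulAut.conj g).toMonoidHom ≤ weakClosure Q L :=
  le_iSup (fun g : {g : H // Q.map (MulAut.conj g).toMonoidHom ≤ L} =>
    Q.map (MulAut.conj (g : H)).toMonoidHom) ⟨g, h⟩

theorem weakClosure_le {Q L N : Subgroup H}
    (h : ∀ g : H, Q.map (MulAut.conj g).toMonoidHom ≤ L →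
      Q.map (MulAut.conj g).toMonoidHom ≤ N) : weakClosure Q L ≤ N :=
  iSup_le (fun g => h g.1 g.2)

theorem weakClosure_le_self (Q L : Subgroup H) : weakClosure Q L ≤ L :=
  weakClosure_le (fun _ h => h)

theorem le_weakClosure {Q L : Subgroup H} (h : Q ≤ L) : Q ≤ weakClosure Q L := by
  have h1 : Q.map (MulAut.conj (1 : H)).toMonoidHom ≤ L := by rw [map_conj_one]; exact h
  have h2 := conj_le_weakClosure h1
  rwa [map_conj_one] at h2

/-- an element normalising every conjugate of `Q` inside `L` normalises the weak closure. -/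
theorem mem_normalizer_weakClosure {Q L : Subgroup H} {c : H}
    (h : ∀ g : H, Q.map (MulAut.conj g).toMonoidHom ≤ L →
      c ∈ Subgroup.normalizer ((Q.map (MulAut.conj g).toMonoidHom : Subgroup H) : Set H)) :
    (weakClosure Q L).map (MulAut.conj c).toMonoidHom ≤ weakClosure Q L := by
  unfold weakClosure
  rw [Subgroup.map_iSup]
  refine iSup_le (fun g => ?_)
  rw [map_conj_eq_of_mem_normalizer _ (h g.1 g.2)]
  exact le_iSup (fun g : {g : H // Q.map (MulAut.conj g).toMonoidHom ≤ L} =>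
    Q.map (MulAut.conj (g : H)).toMonoidHom) g

/-- `[V, ⨆ X i] ≤ N` when `N` is normalised by all `X i` and contains all `[V, X i]`. -/
theorem commutator_iSup_le {ι : Sort*} {V N : Subgroup H} {X : ι → Subgroup H}
    (hX : ∀ i, X i ≤ Subgroup.normalizer (N : Set H)) (h1 : ∀ i, ⁅V, X i⁆ ≤ N) :
    ⁅V, ⨆ i, X i⁆ ≤ N := by
  let K : Subgroup H :=
    { carrier := {l | l ∈ Subgroup.normalizer (N : Set H) ∧ ∀ v ∈ V, ⁅v, l⁆ ∈ N}
      mul_mem' := by
        rintro l l' ⟨hl, hlv⟩ ⟨hl', hlv'⟩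
        refine ⟨Subgroup.mul_mem _ hl hl', fun v hv => ?_⟩
        have e : ⁅v, l * l'⁆ = ⁅v, l⁆ * (l * ⁅v, l'⁆ * l⁻¹) := by
          simp only [commutatorElement_def]; group
        rw [e]
        exact N.mul_mem (hlv v hv) ((Subgroup.mem_normalizer_iff.mp hl _).mp (hlv' v hv))
      one_mem' := ⟨Subgroup.one_mem _, fun v _ => by
        simp only [commutatorElement_def]; simp⟩
      inv_mem' := by
        rintro l ⟨hl, hlv⟩
        refine ⟨Subgroup.inv_mem _ hl, fun v hv => ?_⟩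
        have e : ⁅v, l⁻¹⁆ = l⁻¹ * (⁅v, l⁆)⁻¹ * l⁻¹⁻¹ := by
          simp only [commutatorElement_def]; group
        rw [e]
        exact (Subgroup.mem_normalizer_iff.mp (Subgroup.inv_mem _ hl) _).mp
          (N.inv_mem (hlv v hv)) }
  have hXK : ∀ i, X i ≤ K := fun i x hx =>
    ⟨hX i hx, fun v hv => h1 i (Subgroup.commutator_mem_commutator hv hx)⟩
  rw [Subgroup.commutator_le]
  intro v hv l hl
  exact ((iSup_le hXK) hl).2 v hv

end

end Cfsg.Agent.Lib.Helper18
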