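import Cfsg.Agent.Lib.Helper18.Trace

set_option autoImplicit false
open Cfsg

namespace Cfsg.Agent.Lib.Helper18

open scoped commutatorElement

variable {G : Type*} [Group G]

open scoped IsMulCommutative in
/-- Trace map as a homomorphism: if `V` is an abelian normal subgroup centralised by `S`, then a
central element of `V` lying in `[V, G]` has order dividing `|G : S|`. -/
theorem pow_index_eq_one_of_mem_commutator [Finite G] (V S : Subgroup G) [IsMulCommutative V]
    [hVn : V.Normal] (hSV : S ≤ Subgroup.centralizer (V : Set G)) {x : G}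
    (hx : x ∈ V ⊓ Subgroup.center G) (hxc : x ∈ ⁅V, (⊤ : Subgroup G)⁆) :
    x ^ S.index = 1 := by
  classical
  have hfin : Fintype (G ⧸ S) := Fintype.ofFinite _
  obtain ⟨θ, hθ⟩ : ∃ θ : V →* V, ∀ v, θ v =
      ∏ q : G ⧸ S, MulAut.conjNormal ((Quotient.out q : G)⁻¹) v := by
    refine ⟨∏ q : G ⧸ S, (MulAut.conjNormal ((Quotient.out q : G)⁻¹) : MulAut V).toMonoidHom,
      fun v => ?_⟩
    simp only [MonoidHom.finsetProd_apply]
    rfl
  have hinv : ∀ (g : G) (v : V), θ (MulAut.conjNormal g v) = θ v := by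
    intro g v
    rw [hθ, hθ]
    refine Fintype.prod_equiv (MulAction.toPerm g⁻¹) _ _ (fun q => ?_)
    apply Subtype.ext
    rw [MulAut.conjNormal_apply, MulAut.conjNormal_apply, MulAut.conjNormal_apply]
    have h1 : ((Quotient.out (g⁻¹ • q) : G) : G ⧸ S) = ((g⁻¹ * Quotient.out q : G) : G ⧸ S) := by
      rw [QuotientGroup.out_eq', ← smul_eq_mul, ← MulAction.Quotient.smul_mk,
        QuotientGroup.out_eq']
    have h2 : (Quotient.out (g⁻¹ • q) : G)⁻¹ * (g⁻¹ * Quotient.out q) ∈ S :=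
      QuotientGroup.eq.mp h1
    have hmem : (Quotient.out (g⁻¹ • q) : G)⁻¹ * (v : G) * Quotient.out (g⁻¹ • q) ∈ V := by
      have := hVn.conj_mem v v.2 (Quotient.out (g⁻¹ • q) : G)⁻¹
      simpa using this
    have h3 := Subgroup.mem_centralizer_iff.mp (hSV h2) _ hmem
    simp only [MulAction.toPerm_apply, inv_inv]
    calc (Quotient.out q : G)⁻¹ * (g * (v : G) * g⁻¹) * Quotient.out q
        = ((Quotient.out (g⁻¹ • q) : G)⁻¹ * (g⁻¹ * Quotient.out q))⁻¹ *
            (((Quotient.out (g⁻¹ • q) : G)⁻¹ * (v : G) * Quotient.out (g⁻¹ • q)) *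
            ((Quotient.out (g⁻¹ • q) : G)⁻¹ * (g⁻¹ * Quotient.out q))) := by group
      _ = (Quotient.out (g⁻¹ • q) : G)⁻¹ * (v : G) * Quotient.out (g⁻¹ • q) := by
          rw [h3, inv_mul_cancel_left]
  have hker : ⁅V, (⊤ : Subgroup G)⁆ ≤ θ.ker.map V.subtype := by
    rw [Subgroup.commutator_le]
    intro v hv g _
    refine ⟨(⟨v, hv⟩ : V) * (MulAut.conjNormal g ⟨v, hv⟩)⁻¹, ?_, ?_⟩
    · rw [SetLike.mem_coe, MonoidHom.mem_ker, map_mul, map_inv, hinv, mul_inv_cancel]
    · simp only [Subgroup.coe_subtype, Subgroup.coe_mul, Subgroup.coe_inv,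
        MulAut.conjNormal_apply, commutatorElement_def]
      group
  obtain ⟨hxV, hxZ⟩ := Subgroup.mem_inf.mp hx
  obtain ⟨x', hx'ker, hx'x⟩ := hker hxc
  have hx'x' : (x' : G) = x := hx'x
  have hval : θ x' = x' ^ S.index := by
    rw [hθ]
    have h1 : ∀ q : G ⧸ S, MulAut.conjNormal ((Quotient.out q : G)⁻¹) x' = x' := by
      intro q
      apply Subtype.ext
      rw [MulAut.conjNormal_apply, hx'x']
      have h2 := Subgroup.mem_center_iff.mp hxZ ((Quotient.out q : G)⁻¹)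
      rw [h2, mul_inv_cancel_right]
    rw [Fintype.prod_congr _ _ h1, Finset.prod_const, Finset.card_univ,
      Subgroup.index_eq_card, Nat.card_eq_fintype_card]
  rw [SetLike.mem_coe, MonoidHom.mem_ker, hval] at hx'ker
  have h5 := congrArg Subtype.val hx'ker
  rw [← hx'x']
  exact h5

/-- Relative form. -/
theorem pow_relIndex_eq_one_of_mem_commutator [Finite G] {V S L : Subgroup G}
    (hVc : ∀ a ∈ V, ∀ b ∈ V, a * b = b * a) (hVL : V ≤ L)
    (hLV : L ≤ Subgroup.normalizer (V : Set G)) (hSV : S ≤ Subgroup.centralizer (V : Set G))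
    {x : G} (hx : x ∈ V ⊓ Subgroup.centralizer (L : Set G)) (hxc : x ∈ ⁅V, L⁆) :
    x ^ S.relIndex L = 1 := by
  have hcomm : IsMulCommutative (V.subgroupOf L) :=
    ⟨⟨fun a b => Subtype.ext (Subtype.ext (hVc _ a.2 _ b.2))⟩⟩
  have hnorm : (V.subgroupOf L).Normal := (Subgroup.normal_subgroupOf_iff_le_normalizer hVL).mpr hLV
  obtain ⟨hxV, hxC⟩ := Subgroup.mem_inf.mp hx
  have hS' : S.subgroupOf L ≤ Subgroup.centralizer ((V.subgroupOf L : Subgroup L) : Set L) := by
    intro s hs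
    rw [Subgroup.mem_centralizer_iff]
    intro v hv
    apply Subtype.ext
    exact Subgroup.mem_centralizer_iff.mp (hSV (Subgroup.mem_subgroupOf.mp hs)) _
      (Subgroup.mem_subgroupOf.mp hv)
  have hx' : (⟨x, hVL hxV⟩ : L) ∈ V.subgroupOf L ⊓ Subgroup.center L := by
    refine Subgroup.mem_inf.mpr ⟨Subgroup.mem_subgroupOf.mpr hxV, ?_⟩
    rw [Subgroup.mem_center_iff]
    intro l
    apply Subtype.ext
    exact Subgroup.mem_centralizer_iff.mp hxC l l.2
  have hxc' : (⟨x, hVL hxV⟩ : L) ∈ ⁅V.subgroupOf L, (⊤ : Subgroup L)⁆ := by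
    have h1 : ⁅V, L⁆ ≤ (⁅V.subgroupOf L, (⊤ : Subgroup L)⁆).map L.subtype := by
      rw [Subgroup.map_commutator]
      apply Subgroup.commutator_mono
      · rw [Subgroup.subgroupOf_map_subtype]; exact le_inf le_rfl hVL
      · intro l hl; exact ⟨⟨l, hl⟩, Subgroup.mem_top _, rfl⟩
    obtain ⟨w, hw, e⟩ := h1 hxc
    have : w = ⟨x, hVL hxV⟩ := Subtype.ext e
    rw [← this]; exact hw
  have h := pow_index_eq_one_of_mem_commutator (V.subgroupOf L) (S.subgroupOf L) hS' hx' hxc'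
  exact congrArg Subtype.val h

end Cfsg.Agent.Lib.Helper18
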