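import Cfsg.Agent.Lib.Helper18.ZL
import Cfsg.Agent.Lib.Helper18.Trace2
import Cfsg.Agent.Lib.Helper18.Coprime
import Cfsg.Agent.S2802

set_option autoImplicit false
open Cfsg

namespace Cfsg.Agent.Lib.Helper18

variable {H : Type*} [Group H] {p : ℕ}

/-- A `p`-reduced subgroup `Y` for `M` is `p`-reduced for `L` when `L C(Y) = M C(Y)`. -/
theorem IsPRedIn.of_sup_eq {Y L M : Subgroup H} (hYM : IsPRedIn p Y M) (hYL : Y ≤ L)
    (hsup : L ⊔ Subgroup.centralizer (Y : Set H) = M ⊔ Subgroup.centralizer (Y : Set H)) :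
    IsPRedIn p Y L := by
  obtain ⟨hYleM, hMY, hcomm, hexp, hred⟩ := hYM
  have hCY : Subgroup.centralizer (Y : Set H) ≤ Subgroup.normalizer (Y : Set H) :=
    Subgroup.centralizer_le_normalizer _
  have hLsup : L ≤ M ⊔ Subgroup.centralizer (Y : Set H) := hsup ▸ le_sup_left
  have hLY : L ≤ Subgroup.normalizer (Y : Set H) := hLsup.trans (sup_le hMY hCY)
  have hMsup : M ≤ L ⊔ Subgroup.centralizer (Y : Set H) := hsup.symm ▸ le_sup_left
  have hLC : L ≤ Subgroup.normalizer (Subgroup.centralizer (Y : Set H) : Set H) :=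
    hLY.trans (normalizer_le_normalizer_centralizer Y)
  have hMC : M ≤ Subgroup.normalizer (Subgroup.centralizer (Y : Set H) : Set H) :=
    hMY.trans (normalizer_le_normalizer_centralizer Y)
  refine ⟨hYL, hLY, hcomm, hexp, ?_⟩
  intro D hDL hLD hDp
  have hDC : D ≤ Subgroup.normalizer (Subgroup.centralizer (Y : Set H) : Set H) := hDL.trans hLC
  have hE : (D ⊔ Subgroup.centralizer (Y : Set H)) ⊓ M ≤ Subgroup.centralizer (Y : Set H) := by
    apply hred
    · exact inf_le_right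
    · have h1 : L ⊔ Subgroup.centralizer (Y : Set H) ≤
          Subgroup.normalizer ((D ⊔ Subgroup.centralizer (Y : Set H) : Subgroup H) : Set H) := by
        refine sup_le ?_ ?_
        · exact (le_inf hLD hLC).trans (normalizer_inf_le_normalizer_sup D _)
        · exact le_sup_right.trans Subgroup.le_normalizer
      exact (le_inf (hMsup.trans h1) Subgroup.le_normalizer).trans (normalizer_inf_le _ _)
    · intro e he
      obtain ⟨d, hd, c, hc, rfl⟩ := mem_sup_of_le_normalizer hDC (Subgroup.mem_inf.mp he).1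
      obtain ⟨k, hk⟩ := hDp d hd
      obtain ⟨c', hc', e2⟩ := exists_pow_mul_eq (hDC hd) hc (p ^ k)
      exact ⟨k, by rw [e2]; exact Subgroup.mul_mem _ hk hc'⟩
  intro d hd
  obtain ⟨m, hm, c, hc, rfl⟩ := mem_sup_of_le_normalizer hMC (hLsup (hDL hd))
  have hmE : m ∈ (D ⊔ Subgroup.centralizer (Y : Set H)) ⊓ M := by
    refine Subgroup.mem_inf.mpr ⟨?_, hm⟩
    have e3 : m = (m * c) * c⁻¹ := by group
    rw [e3]
    exact Subgroup.mul_mem _ (Subgroup.mem_sup_left hd)
      (Subgroup.mem_sup_right (Subgroup.inv_mem _ hc))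
  exact Subgroup.mul_mem _ (hE hmE) hc

/-- `p`-reducedness seen inside an intermediate subgroup `L`. -/
theorem IsPRedIn.subgroupOf {V R L : Subgroup H} (h : IsPRedIn p V R) (hRL : R ≤ L) :
    IsPRedIn p (V.subgroupOf L) (R.subgroupOf L) := by
  obtain ⟨hVR, hRV, hcomm, hexp, hred⟩ := h
  refine ⟨?_, ?_, ?_, ?_, ?_⟩
  · intro x hx; exact hVR hx
  · intro r hr
    rw [Subgroup.mem_normalizer_iff]
    intro x
    exact Subgroup.mem_normalizer_iff.mp (hRV hr) x
  · intro a ha b hb; exact Subtype.ext (hcomm a ha b hb)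
  · intro a ha; exact Subtype.ext (hexp a ha)
  · intro D' hD'R hRD' hD'p
    have h1 : D'.map L.subtype ≤ Subgroup.centralizer (V : Set H) := by
      apply hred
      · rintro _ ⟨d, hd, rfl⟩; exact hD'R hd
      · intro r hr
        have h2 : (⟨r, hRL hr⟩ : L) ∈ Subgroup.normalizer (D' : Set L) := hRD' hr
        exact Subgroup.le_normalizer_map L.subtype ⟨⟨r, hRL hr⟩, h2, rfl⟩
      · rintro _ ⟨d, hd, rfl⟩
        obtain ⟨k, hk⟩ := hD'p d hd
        refine ⟨k, ?_⟩
        rw [Subgroup.mem_centralizer_iff] at hk ⊢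
        intro v hv
        have h3 := hk ⟨v, hRL (hVR hv)⟩ hv
        exact congrArg Subtype.val h3
    intro d hd
    rw [Subgroup.mem_centralizer_iff]
    intro v hv
    apply Subtype.ext
    exact Subgroup.mem_centralizer_iff.mp (h1 ⟨d, hd, rfl⟩) v hv

/-- Monotonicity of `Y`: a `p`-reduced subgroup for `R` with `T ≤ R ≤ L` lies in `Y_L`. -/
theorem le_largestPReducedOf_of_le [Finite H] [Fact p.Prime] (T : Sylow p H)
    {V R L : Subgroup H} (hTR : (T : Subgroup H) ≤ R) (hRL : R ≤ L)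
    (hchar : Subgroup.centralizer (pCore p ↥L : Set ↥L) ≤ pCore p ↥L)
    (h : IsPRedIn p V R) : V ≤ largestPReducedOf p L := by
  have h1 := isPReducedNormal_of_isPRedIn (h.subgroupOf hRL)
  have hT' : ((T.subtype (hTR.trans hRL) : Sylow p ↥L) : Subgroup ↥L) ≤ R.subgroupOf L := by
    rw [Sylow.coe_subtype]
    intro x hx
    exact hTR hx
  have h2 := Cfsg.Agent.S2802.result hchar (T.subtype (hTR.trans hRL)) (R.subgroupOf L) hT' _ h1
  have h3 : ((V.subgroupOf L).subgroupOf (R.subgroupOf L)).map (R.subgroupOf L).subtype ≤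
      largestPReduced p ↥L := Subgroup.le_normalClosure.trans (le_sSup h2)
  intro v hv
  have hvR := h.1 hv
  exact ⟨⟨v, hRL hvR⟩, h3 ⟨⟨⟨v, hRL hvR⟩, hvR⟩, hv, rfl⟩, rfl⟩

/-- Frattini argument, relative form: `M ≤ N · N_H(R)` for a Sylow subgroup `R` of `N` with `N`
normalised by `M`. -/
theorem exists_mul_of_isSylowIn [Finite H] [Fact p.Prime] {N M R : Subgroup H}
    (hMN : M ≤ Subgroup.normalizer (N : Set H)) (hR : IsSylowIn p R N) {m : H} (hm : m ∈ M) :
    ∃ n ∈ N, ∃ x ∈ Subgroup.normalizer (R : Set H), m = n * x := by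
  have h1 := hR.map_conj m
  rw [map_conj_eq_of_mem_normalizer N (hMN hm)] at h1
  obtain ⟨c, hc, e⟩ := hR.exists_conj_eq h1
  refine ⟨c, hc, c⁻¹ * m, ?_, by group⟩
  apply mem_normalizer_of_map_conj_eq
  rw [map_conj_mul, e, ← map_conj_mul, inv_mul_cancel, map_conj_one]

end Cfsg.Agent.Lib.Helper18
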