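import Cfsg.Agent.Lib.Helper18.YL2
import Cfsg.Agent.Lib.Helper17.CoprimeComm

set_option autoImplicit false
open Cfsg

namespace Cfsg.Agent.Lib.Helper18

variable {H : Type*} [Group H] {p : ℕ}

/-- `p`-reduced normal subgroups of the whole group, in ambient terms. -/
theorem isPRedIn_top_iff [Fact p.Prime] (V : Subgroup H) :
    IsPReducedNormal p V ↔ IsPRedIn p V ⊤ := by
  constructor
  · rintro ⟨hn, ⟨hc, he⟩, hN, hcore⟩
    refine ⟨le_top, le_normalizer_of_normal hn ⊤, ?_, he, ?_⟩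
    · intro a ha b hb
      exact congrArg Subtype.val (hc.is_comm.comm ⟨a, ha⟩ ⟨b, hb⟩)
    · intro D _ hD hDp
      have hDn : D.Normal := Subgroup.normalizer_eq_top_iff.mp (top_le_iff.mp hD)
      exact Cfsg.Agent.Lib.Helper17.le_of_pCore_quot_eq_bot _ hcore D hDn hDp
  · rintro ⟨-, hn, hcomm, hexp, hred⟩
    have hVn : V.Normal := Subgroup.normalizer_eq_top_iff.mp (top_le_iff.mp hn)
    have hcn : (Subgroup.centralizer (V : Set H)).Normal := by
      have := hVn; exact Subgroup.normal_centralizer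
    refine ⟨hVn, ⟨⟨⟨fun a b => Subtype.ext (hcomm _ a.2 _ b.2)⟩⟩, hexp⟩, hcn, ?_⟩
    have := hcn
    apply Cfsg.Agent.Lib.Helper17.pCore_quot_eq_bot_of
    intro D hD _ hDp
    exact hred D le_top (le_normalizer_of_normal hD ⊤) hDp

theorem isPRedIn_bot (p : ℕ) (L : Subgroup H) : IsPRedIn p ⊥ L := by
  refine ⟨bot_le, ?_, ?_, ?_, ?_⟩
  · intro l _
    rw [Subgroup.mem_normalizer_iff]
    intro x
    simp only [Subgroup.mem_bot]
    constructor
    · rintro rfl; simp
    · intro h
      have h2 : x = l⁻¹ * (l * x * l⁻¹) * l := by group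
      rw [h2, h]; simp
  · intro a ha b hb
    rw [Subgroup.mem_bot] at ha hb
    rw [ha, hb]
  · intro a ha
    rw [Subgroup.mem_bot] at ha
    rw [ha, one_pow]
  · intro D _ _ _ d _
    rw [Subgroup.mem_centralizer_iff]
    intro v hv
    rw [SetLike.mem_coe, Subgroup.mem_bot] at hv
    rw [hv, one_mul, mul_one]

theorem IsPRedIn.sup {V₁ V₂ L : Subgroup H} (h₁ : IsPRedIn p V₁ L) (h₂ : IsPRedIn p V₂ L) :
    IsPRedIn p (V₁ ⊔ V₂) L := by
  obtain ⟨hV₁L, hLV₁, hc₁, he₁, hr₁⟩ := h₁
  obtain ⟨hV₂L, hLV₂, hc₂, he₂, hr₂⟩ := h₂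
  have h12 : V₁ ≤ Subgroup.centralizer (V₂ : Set H) := by
    apply hr₂ V₁ hV₁L hLV₁
    intro d hd
    exact ⟨1, by rw [pow_one, he₁ d hd]; exact Subgroup.one_mem _⟩
  have h21 : V₂ ≤ Subgroup.centralizer (V₁ : Set H) := Subgroup.le_centralizer_iff.mp h12
  have h11 : V₁ ≤ Subgroup.centralizer (V₁ : Set H) := fun a ha =>
    Subgroup.mem_centralizer_iff.mpr (fun b hb => hc₁ b hb a ha)
  have h22 : V₂ ≤ Subgroup.centralizer (V₂ : Set H) := fun a ha =>
    Subgroup.mem_centralizer_iff.mpr (fun b hb => hc₂ b hb a ha)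
  have hcc : V₁ ⊔ V₂ ≤ Subgroup.centralizer ((V₁ ⊔ V₂ : Subgroup H) : Set H) := by
    apply sup_le
    · exact Subgroup.le_centralizer_iff.mp (sup_le h11 h21)
    · exact Subgroup.le_centralizer_iff.mp (sup_le h12 h22)
  have hcomm : ∀ a ∈ V₁ ⊔ V₂, ∀ b ∈ V₁ ⊔ V₂, a * b = b * a := fun a ha b hb =>
    Subgroup.mem_centralizer_iff.mp (hcc hb) a ha
  refine ⟨sup_le hV₁L hV₂L, (le_inf hLV₁ hLV₂).trans (normalizer_inf_le_normalizer_sup V₁ V₂),
    hcomm, ?_, ?_⟩
  · intro a ha
    have hV₁N : V₁ ≤ Subgroup.normalizer (V₂ : Set H) := hV₁L.trans hLV₂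
    obtain ⟨u, hu, v, hv, rfl⟩ := mem_sup_of_le_normalizer hV₁N ha
    have hcm : Commute u v := (Subgroup.mem_centralizer_iff.mp (h12 hu) v hv).symm
    rw [hcm.mul_pow, he₁ u hu, he₂ v hv, one_mul]
  · intro D hDL hLD hDp
    have hD1 : D ≤ Subgroup.centralizer (V₁ : Set H) := by
      apply hr₁ D hDL hLD
      intro d hd
      obtain ⟨k, hk⟩ := hDp d hd
      exact ⟨k, Subgroup.centralizer_le (le_sup_left : V₁ ≤ V₁ ⊔ V₂) hk⟩
    have hD2 : D ≤ Subgroup.centralizer (V₂ : Set H) := by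
      apply hr₂ D hDL hLD
      intro d hd
      obtain ⟨k, hk⟩ := hDp d hd
      exact ⟨k, Subgroup.centralizer_le (le_sup_right : V₂ ≤ V₁ ⊔ V₂) hk⟩
    exact Subgroup.le_centralizer_iff.mp
      (sup_le (Subgroup.le_centralizer_iff.mp hD1) (Subgroup.le_centralizer_iff.mp hD2))

theorem isPRedIn_sSup [Finite H] {L : Subgroup H} (T : Set (Subgroup H))
    (hT : ∀ V ∈ T, IsPRedIn p V L) : IsPRedIn p (sSup T) L := by
  have hfin : T.Finite := Set.toFinite T
  induction T, hfin using Set.Finite.induction_on with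
  | empty =>
    rw [sSup_empty]
    exact isPRedIn_bot p L
  | @insert a s _ _ ih =>
    rw [sSup_insert]
    exact (hT a (Set.mem_insert a s)).sup (ih (fun U hU => hT U (Set.mem_insert_of_mem a hU)))

/-- The join of all `p`-reduced normal subgroups is `p`-reduced, in any finite group. -/
theorem isPReducedNormal_largestPReduced' (p : ℕ) [Fact p.Prime] (G : Type*) [Group G] [Finite G] :
    IsPReducedNormal p (largestPReduced p G) := by
  rw [isPRedIn_top_iff]
  apply isPRedIn_sSup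
  intro V hV
  exact (isPRedIn_top_iff V).mp hV

theorem isPRedIn_largestPReduced_top (p : ℕ) [Fact p.Prime] (G : Type*) [Group G] [Finite G] :
    IsPRedIn p (largestPReduced p G) ⊤ :=
  (isPRedIn_top_iff _).mp (isPReducedNormal_largestPReduced' p G)

theorem isPRedIn_largestPReducedOf' [Finite H] [Fact p.Prime] (L : Subgroup H) :
    IsPRedIn p (largestPReducedOf p L) L :=
  isPRedIn_of_isPReducedNormal (isPReducedNormal_largestPReduced' p ↥L)

theorem largestPReducedOf_top [Finite H] [Fact p.Prime] :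
    largestPReducedOf p (⊤ : Subgroup H) = largestPReduced p H := by
  apply le_antisymm
  · exact le_sSup ((isPRedIn_top_iff _).mpr (isPRedIn_largestPReducedOf' ⊤))
  · exact le_largestPReducedOf (isPRedIn_largestPReduced_top p H)

/-- Conjugation equivariance of `p`-reducedness. -/
theorem IsPRedIn.map_conj {V L : Subgroup H} (h : IsPRedIn p V L) (g : H) :
    IsPRedIn p (V.map (MulAut.conj g).toMonoidHom) (L.map (MulAut.conj g).toMonoidHom) := by
  obtain ⟨hVL, hLV, hc, he, hr⟩ := h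
  refine ⟨Subgroup.map_mono hVL, ?_, ?_, ?_, ?_⟩
  · rw [normalizer_map_conj]; exact Subgroup.map_mono hLV
  · rintro _ ⟨a, ha, rfl⟩ _ ⟨b, hb, rfl⟩
    rw [← map_mul, ← map_mul, hc a ha b hb]
  · rintro _ ⟨a, ha, rfl⟩
    rw [← map_pow, he a ha, map_one]
  · intro D hDL hLD hDp
    have h1 : D.map (MulAut.conj g⁻¹).toMonoidHom ≤ Subgroup.centralizer (V : Set H) := by
      apply hr
      · have h2 := Subgroup.map_mono (f := (MulAut.conj g⁻¹).toMonoidHom) hDL
        rwa [← map_conj_mul, inv_mul_cancel, map_conj_one] at h2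
      · rw [normalizer_map_conj]
        have h2 := Subgroup.map_mono (f := (MulAut.conj g⁻¹).toMonoidHom) hLD
        rwa [← map_conj_mul, inv_mul_cancel, map_conj_one] at h2
      · rintro _ ⟨d, hd, rfl⟩
        obtain ⟨k, hk⟩ := hDp d hd
        refine ⟨k, ?_⟩
        rw [← map_pow]
        have h3 : (MulAut.conj g⁻¹).toMonoidHom (d ^ p ^ k) ∈
            (Subgroup.centralizer ((V.map (MulAut.conj g).toMonoidHom : Subgroup H) : Set H)).map
              (MulAut.conj g⁻¹).toMonoidHom := ⟨_, hk, rfl⟩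
        rwa [← centralizer_map_conj, ← map_conj_mul, inv_mul_cancel, map_conj_one] at h3
    have h4 := Subgroup.map_mono (f := (MulAut.conj g).toMonoidHom) h1
    rwa [← map_conj_mul, mul_inv_cancel, map_conj_one, ← centralizer_map_conj] at h4

theorem largestPReducedOf_map_conj_le [Finite H] [Fact p.Prime] (L : Subgroup H) (g : H) :
    (largestPReducedOf p L).map (MulAut.conj g).toMonoidHom ≤
      largestPReducedOf p (L.map (MulAut.conj g).toMonoidHom) :=
  le_largestPReducedOf ((isPRedIn_largestPReducedOf' L).map_conj g)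

theorem normalizer_le_normalizer_largestPReducedOf [Finite H] [Fact p.Prime] (L : Subgroup H) :
    Subgroup.normalizer (L : Set H) ≤
      Subgroup.normalizer ((largestPReducedOf p L : Subgroup H) : Set H) := by
  apply le_normalizer_of_forall_map_conj_le
  intro g hg
  have h1 := largestPReducedOf_map_conj_le (p := p) L g
  rwa [map_conj_eq_of_mem_normalizer L hg] at h1

end Cfsg.Agent.Lib.Helper18
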