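import Mathlib
import Cfsg.Agent.Lib.Helper18.Basic
import Cfsg.Agent.Lib.Helper18.SylowRel
import Cfsg.Agent.Lib.Helper18.Subnormal
import Cfsg.Agent.Lib.Helper18.YL
import Cfsg.Agent.Lib.Helper18.YL2
import Cfsg.Agent.Lib.Helper18.YL3
import Cfsg.Agent.Lib.Helper18.PIrr
import Cfsg.Agent.Lib.Helper18.PClosed2
import Cfsg.Agent.Lib.Helper18.ZL
import Cfsg.Agent.Lib.Helper18.Large
import Cfsg.Agent.Lib.Helper18.PGroupL
import Cfsg.Agent.Lib.Helper18.StrEmb

/-!
Minimal supplements to `C_H(Y)` containing a Sylow subgroup, and the construction of members of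
the family of subgroups with the basic property.
-/

set_option autoImplicit false
open Cfsg

namespace Cfsg.Agent.Lib.Helper18

variable {H : Type*} [Group H] {p : ℕ}

/-- product formula when `V` normalizes `U`. -/
theorem card_sup_mul_card_inf_of_le_normalizer [Finite H] {U V : Subgroup H}
    (h : V ≤ Subgroup.normalizer (U : Set H)) :
    Nat.card (U ⊔ V : Subgroup H) * Nat.card (U ⊓ V : Subgroup H) = Nat.card U * Nat.card V := by
  have i1 := Subgroup.normal_subgroupOf_of_le_normalizer h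
  have i2 := Subgroup.normal_subgroupOf_sup_of_le_normalizer h
  have e : U.relIndex (V ⊔ U) = U.relIndex V :=
    Nat.card_congr (QuotientGroup.quotientInfEquivProdNormalizerQuotient V U h).toEquiv.symm
  have h1 : Nat.card U * U.relIndex (V ⊔ U) = Nat.card (V ⊔ U : Subgroup H) := by
    have := Subgroup.relIndex_mul_relIndex (⊥ : Subgroup H) U (V ⊔ U) bot_le le_sup_right
    rwa [Subgroup.relIndex_bot_left, Subgroup.relIndex_bot_left] at this
  have h2 : Nat.card (U ⊓ V : Subgroup H) * U.relIndex V = Nat.card V := by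
    rw [← Subgroup.inf_relIndex_right]
    have := Subgroup.relIndex_mul_relIndex (⊥ : Subgroup H) (U ⊓ V) V bot_le inf_le_right
    rwa [Subgroup.relIndex_bot_left, Subgroup.relIndex_bot_left] at this
  rw [sup_comm, ← h1, e, ← h2]; ring

/-- minimal supplements: among the subgroups `X` with `T ≤ X ≤ X₀` and `X C_H(Y) = X₀ C_H(Y)` a
minimal one normalizes `T ∩ C_H(Y)` and has `C_X(Y)` "Frattini-like". -/
theorem exists_min_supp [Finite H] [Fact p.Prime] (T : Sylow p H) {Y X₀ : Subgroup H}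
    (hTX : (T : Subgroup H) ≤ X₀) (hXY : X₀ ≤ Subgroup.normalizer (Y : Set H)) :
    ∃ X : Subgroup H, (T : Subgroup H) ≤ X ∧ X ≤ X₀ ∧
      X ⊔ Subgroup.centralizer (Y : Set H) = X₀ ⊔ Subgroup.centralizer (Y : Set H) ∧
      X ≤ Subgroup.normalizer
        (((T : Subgroup H) ⊓ Subgroup.centralizer (Y : Set H) : Subgroup H) : Set H) ∧
      ∀ X' : Subgroup H, X' ≤ X → (T : Subgroup H) ⊓ Subgroup.centralizer (Y : Set H) ≤ X' →
        X' ⊔ (X ⊓ Subgroup.centralizer (Y : Set H)) = X → X' = X := by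
  have hp : p.Prime := Fact.out
  obtain ⟨C, hC⟩ : ∃ C : Subgroup H, C = Subgroup.centralizer (Y : Set H) := ⟨_, rfl⟩
  rw [← hC]
  have hNC : Subgroup.normalizer (Y : Set H) ≤ Subgroup.normalizer (C : Set H) := by
    rw [hC]; exact normalizer_le_normalizer_centralizer Y
  obtain ⟨X, -, hXmin⟩ := Set.Finite.exists_le_minimal
    (Set.toFinite {X : Subgroup H | (T : Subgroup H) ≤ X ∧ X ≤ X₀ ∧ X ⊔ C = X₀ ⊔ C})
    (a := X₀) ⟨hTX, le_rfl, rfl⟩
  obtain ⟨⟨hTXm, hXX₀, hXC⟩, hmin⟩ := hXmin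
  have hXnC : X ≤ Subgroup.normalizer (C : Set H) := hXX₀.trans (hXY.trans hNC)
  have hXnN : X ≤ Subgroup.normalizer ((X ⊓ C : Subgroup H) : Set H) :=
    (le_inf Subgroup.le_normalizer hXnC).trans (normalizer_inf_le _ _)
  have hTD : (T : Subgroup H) ⊓ (X ⊓ C) = (T : Subgroup H) ⊓ C := by
    rw [← inf_assoc, inf_eq_left.mpr hTXm]
  have hSyl : IsSylowIn p ((T : Subgroup H) ⊓ C) (X ⊓ C) := by
    have := isSylowIn_inf_of_le_normalizer T (C := X ⊓ C) (hTXm.trans hXnN)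
    rwa [hTD] at this
  have hi : X ≤ Subgroup.normalizer (((T : Subgroup H) ⊓ C : Subgroup H) : Set H) := by
    have hX'mem : X ⊓ Subgroup.normalizer (((T : Subgroup H) ⊓ C : Subgroup H) : Set H) ∈
        {X : Subgroup H | (T : Subgroup H) ≤ X ∧ X ≤ X₀ ∧ X ⊔ C = X₀ ⊔ C} := by
      refine ⟨le_inf hTXm ?_, inf_le_left.trans hXX₀, ?_⟩
      · exact (le_inf Subgroup.le_normalizer (hTXm.trans hXnC)).trans (normalizer_inf_le _ _)
      · rw [← hXC]
        apply le_antisymm (sup_le_sup_right inf_le_left _)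
        apply sup_le _ le_sup_right
        intro x hx
        obtain ⟨n, hn, y, hy, e⟩ := exists_mul_of_isSylowIn hXnN hSyl hx
        have hyX : y ∈ X := by
          have : y = n⁻¹ * x := by rw [e]; group
          rw [this]; exact X.mul_mem (X.inv_mem hn.1) hx
        rw [e]
        exact Subgroup.mul_mem _ (Subgroup.mem_sup_right hn.2)
          (Subgroup.mem_sup_left ⟨hyX, hy⟩)
    exact (hmin hX'mem inf_le_left).trans inf_le_right
  refine ⟨X, hTXm, hXX₀, hXC, hi, ?_⟩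
  intro X' hX'X hDX' hsup
  have hX'N : X' ≤ Subgroup.normalizer ((X ⊓ C : Subgroup H) : Set H) := hX'X.trans hXnN
  have hcard := card_sup_mul_card_inf_of_le_normalizer hX'N
  rw [sup_comm, hsup] at hcard
  have hfac : (Nat.card X).factorization p +
      (Nat.card ((X ⊓ C) ⊓ X' : Subgroup H)).factorization p =
      (Nat.card (X ⊓ C : Subgroup H)).factorization p + (Nat.card X').factorization p := by
    have h1 : (Nat.card X * Nat.card ((X ⊓ C) ⊓ X' : Subgroup H)).factorization p =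
        (Nat.card (X ⊓ C : Subgroup H) * Nat.card X').factorization p := by rw [hcard]
    rw [Nat.factorization_mul Nat.card_pos.ne' Nat.card_pos.ne',
      Nat.factorization_mul Nat.card_pos.ne' Nat.card_pos.ne'] at h1
    simpa using h1
  have hD := hSyl.card_eq
  have hle1 : (Nat.card (X ⊓ C : Subgroup H)).factorization p ≤
      (Nat.card ((X ⊓ C) ⊓ X' : Subgroup H)).factorization p := by
    have hdvd : Nat.card ((T : Subgroup H) ⊓ C : Subgroup H) ∣
        Nat.card ((X ⊓ C) ⊓ X' : Subgroup H) := Subgroup.card_dvd_of_le (le_inf hSyl.1 hDX')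
    rw [hD] at hdvd
    exact (hp.pow_dvd_iff_le_factorization Nat.card_pos.ne').mp hdvd
  have hle2 : (Nat.card ((X ⊓ C) ⊓ X' : Subgroup H)).factorization p ≤
      (Nat.card (X ⊓ C : Subgroup H)).factorization p := by
    have hdvd : Nat.card ((X ⊓ C) ⊓ X' : Subgroup H) ∣ Nat.card (X ⊓ C : Subgroup H) :=
      Subgroup.card_dvd_of_le inf_le_left
    exact (Nat.factorization_le_iff_dvd Nat.card_pos.ne' Nat.card_pos.ne').mpr hdvd p
  have hv : (Nat.card X).factorization p = (Nat.card X').factorization p := by omega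
  obtain ⟨P', hP', -⟩ := exists_isSylowIn_ge (p := p) (R₀ := ⊥) (K := X') IsPGroup.of_bot bot_le
  have hTsyl : IsSylowIn p (T : Subgroup H) X := isSylowIn_of_sylow_le T hTXm
  obtain ⟨c, hc, hle⟩ := hTsyl.exists_conj_le hP'.2.1 (hP'.1.trans hX'X)
  have heq : P' = (T : Subgroup H).map (MulAut.conj c).toMonoidHom := by
    apply Subgroup.eq_of_le_of_card_ge hle
    rw [card_map_conj, hTsyl.card_eq, hP'.card_eq, hv]
  have hcX : c⁻¹ ∈ X := X.inv_mem hc
  have hTX'' : (T : Subgroup H) ≤ X'.map (MulAut.conj c⁻¹).toMonoidHom := by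
    rw [← map_conj_le_iff, ← heq]; exact hP'.1
  have hX''X : X'.map (MulAut.conj c⁻¹).toMonoidHom ≤ X := by
    have := Subgroup.map_mono (f := (MulAut.conj c⁻¹).toMonoidHom) hX'X
    rwa [map_conj_eq_of_mem_normalizer X (Subgroup.le_normalizer hcX)] at this
  have hX''sup : X'.map (MulAut.conj c⁻¹).toMonoidHom ⊔ (X ⊓ C) = X := by
    have h1 := congrArg (Subgroup.map (MulAut.conj c⁻¹).toMonoidHom) hsup
    rw [Subgroup.map_sup, map_conj_eq_of_mem_normalizer X (Subgroup.le_normalizer hcX),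
      map_conj_eq_of_mem_normalizer (X ⊓ C) (hXnN hcX)] at h1
    exact h1
  have hmem : X'.map (MulAut.conj c⁻¹).toMonoidHom ∈
      {X : Subgroup H | (T : Subgroup H) ≤ X ∧ X ≤ X₀ ∧ X ⊔ C = X₀ ⊔ C} := by
    refine ⟨hTX'', hX''X.trans hXX₀, ?_⟩
    rw [← hXC]
    apply le_antisymm (sup_le_sup_right hX''X _)
    apply sup_le _ le_sup_right
    calc X = X'.map (MulAut.conj c⁻¹).toMonoidHom ⊔ (X ⊓ C) := hX''sup.symm
      _ ≤ X'.map (MulAut.conj c⁻¹).toMonoidHom ⊔ C := sup_le_sup_left inf_le_right _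
  have hXle := hmin hmem hX''X
  apply Subgroup.eq_of_le_of_card_ge hX'X
  calc Nat.card X ≤ Nat.card (X'.map (MulAut.conj c⁻¹).toMonoidHom) :=
        Subgroup.card_le_of_le hXle
    _ = Nat.card X' := card_map_conj _ _


theorem mem_charPSubgroups_iff {X : Subgroup H} :
    X ∈ Cfsg.charPSubgroups p H ↔ pCoreOf p X ≠ ⊥ ∧
      Subgroup.centralizer ((pCoreOf p X : Subgroup H) : Set H) ≤ pCoreOf p X := by
  unfold Cfsg.charPSubgroups Cfsg.pCoreOf
  rw [Set.mem_ofPred_eq, Ne, Ne,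
    Subgroup.map_eq_bot_iff_of_injective _ (Subgroup.subtype_injective _)]

theorem charP_of_mem_charPSubgroups' {X : Subgroup H} (h : X ∈ Cfsg.charPSubgroups p H) :
    Subgroup.centralizer (pCore p ↥X : Set ↥X) ≤ pCore p ↥X :=
  (charP_iff p X).mpr (inf_le_right.trans h.2)

theorem largestPReducedOf_ne_bot [Finite H] [Fact p.Prime] (T : Sylow p H) {X : Subgroup H}
    (hTX : (T : Subgroup H) ≤ X) (hX : X ∈ Cfsg.charPSubgroups p H) :
    largestPReducedOf p X ≠ ⊥ := by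
  have hp : p.Prime := Fact.out
  have hchar := charP_of_mem_charPSubgroups' hX
  have hcore : pCoreOf p X ≠ ⊥ := (mem_charPSubgroups_iff.mp hX).1
  have hT1 : (T : Subgroup H) ≠ ⊥ :=
    fun h => hcore (le_bot_iff.mp (h ▸ pCoreOf_le_sylow T hTX))
  obtain ⟨z, hz, hzo, hzc⟩ := exists_central_orderOf_eq T.isPGroup' hT1
  have hS := omegaOne_center_sylow_le hchar (T.subtype hTX)
  have e : ((T.subtype hTX : Sylow p ↥X) : Subgroup ↥X).map X.subtype = (T : Subgroup H) := by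
    rw [Sylow.coe_subtype]
    exact Subgroup.map_subgroupOf_eq_of_le hTX
  rw [e] at hS
  intro hbot
  have hzY : z ∈ largestPReducedOf p X :=
    hS (Subgroup.subset_closure
      ⟨⟨hz, Subgroup.mem_centralizer_iff.mpr hzc⟩, by rw [← hzo]; exact pow_orderOf_eq_one z⟩)
  rw [hbot, Subgroup.mem_bot] at hzY
  rw [hzY, orderOf_one] at hzo
  exact hp.one_lt.ne hzo

/-- the construction of a member `M` of the basic-property family above a Sylow subgroup `T`,
together with `L*`, under the hypothesis that every overgroup of `T` with nontrivial `O_p` has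
`C_H(O_p(X)) ≤ O_p(X)`. -/
theorem basic_core [Finite H] [Fact p.Prime] (T : Sylow p H)
    (hpar : ∀ X : Subgroup H, (T : Subgroup H) ≤ X → pCoreOf p X ≠ ⊥ →
      Subgroup.centralizer ((pCoreOf p X : Subgroup H) : Set H) ≤ pCoreOf p X)
    (L : Subgroup H) (hTL : (T : Subgroup H) ≤ L) (hL : L ∈ Cfsg.charPSubgroups p H) :
    ∃ M Ls : Subgroup H, (T : Subgroup H) ≤ M ∧ Cfsg.IsInFrakM p M ∧ (T : Subgroup H) ≤ Ls ∧
      Ls ≤ M ∧ Ls ∈ Cfsg.charPSubgroups p H ∧
      largestPReducedOf p L = largestPReducedOf p Ls ∧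
      largestPReducedOf p L ≤ largestPReducedOf p M ∧
      L ⊔ Subgroup.centralizer ((largestPReducedOf p L : Subgroup H) : Set H) =
        Ls ⊔ Subgroup.centralizer ((largestPReducedOf p L : Subgroup H) : Set H) := by
  have hp : p.Prime := Fact.out
  have hmem : ∀ X : Subgroup H, (T : Subgroup H) ≤ X → pCoreOf p X ≠ ⊥ →
      X ∈ Cfsg.charPSubgroups p H :=
    fun X hTX h1 => mem_charPSubgroups_iff.mpr ⟨h1, hpar X hTX h1⟩
  obtain ⟨Y, hY⟩ : ∃ Y : Subgroup H, Y = largestPReducedOf p L := ⟨_, rfl⟩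
  obtain ⟨C, hC⟩ : ∃ C : Subgroup H, C = Subgroup.centralizer (Y : Set H) := ⟨_, rfl⟩
  rw [← hY, ← hC]
  have hcharL := charP_of_mem_charPSubgroups' hL
  have hYred : IsPRedIn p Y L := by rw [hY]; exact isPRedIn_largestPReducedOf' L
  have hY1 : Y ≠ ⊥ := by rw [hY]; exact largestPReducedOf_ne_bot T hTL hL
  have hYT : Y ≤ (T : Subgroup H) := by
    rw [hY]; exact (largestPReducedOf_le_pCoreOf hcharL).trans (pCoreOf_le_sylow T hTL)
  have hYp : IsPGroup p Y := T.isPGroup'.to_le hYT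
  -- Step A
  have hA : ∀ X : Subgroup H, (T : Subgroup H) ≤ X → X ∈ Cfsg.charPSubgroups p H →
      Subgroup.normalizer ((largestPReducedOf p X : Subgroup H) : Set H) ∈
        Cfsg.charPSubgroups p H := by
    intro X hTX hX
    have hred := isPRedIn_largestPReducedOf' (p := p) X
    have hcharX := charP_of_mem_charPSubgroups' hX
    apply hmem _ (hTX.trans hred.2.1)
    have hle : largestPReducedOf p X ≤
        pCoreOf p (Subgroup.normalizer ((largestPReducedOf p X : Subgroup H) : Set H)) :=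
      le_pCoreOf Subgroup.le_normalizer le_rfl (T.isPGroup'.to_le
        ((largestPReducedOf_le_pCoreOf hcharX).trans (pCoreOf_le_sylow T hTX)))
    intro hbot
    exact largestPReducedOf_ne_bot T hTX hX (le_bot_iff.mp (hbot ▸ hle))
  -- Step B
  obtain ⟨𝒳, h𝒳⟩ : ∃ 𝒳 : Set (Subgroup H), 𝒳 = {X | (T : Subgroup H) ≤ X ∧
      X ∈ Cfsg.charPSubgroups p H ∧ Y ≤ largestPReducedOf p X ∧
      ∀ l ∈ L, ∃ x ∈ X, ∃ c ∈ C, l = x * c} := ⟨_, rfl⟩
  have h𝒳iff : ∀ X, X ∈ 𝒳 ↔ ((T : Subgroup H) ≤ X ∧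
      X ∈ Cfsg.charPSubgroups p H ∧ Y ≤ largestPReducedOf p X ∧
      ∀ l ∈ L, ∃ x ∈ X, ∃ c ∈ C, l = x * c) := by
    intro X; rw [h𝒳]; exact Iff.rfl
  have hL𝒳 : L ∈ 𝒳 :=
    (h𝒳iff L).mpr ⟨hTL, hL, hY.le, fun l hl => ⟨l, hl, 1, C.one_mem, (mul_one l).symm⟩⟩
  obtain ⟨X₁, hX₁, hmax⟩ := Set.exists_max_image 𝒳
    (fun X => Nat.card (largestPReducedOf p X)) (Set.toFinite 𝒳) ⟨L, hL𝒳⟩
  obtain ⟨Y₀, hY₀⟩ : ∃ Y₀ : Subgroup H, Y₀ = largestPReducedOf p X₁ := ⟨_, rfl⟩
  obtain ⟨Mt, hMt⟩ : ∃ Mt : Subgroup H, Mt = Subgroup.normalizer (Y₀ : Set H) := ⟨_, rfl⟩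
  obtain ⟨hTX₁, hX₁L, hYX₁, hLX₁⟩ := (h𝒳iff X₁).mp hX₁
  have hX₁red : IsPRedIn p Y₀ X₁ := by rw [hY₀]; exact isPRedIn_largestPReducedOf' X₁
  have hX₁Mt : X₁ ≤ Mt := by rw [hMt]; exact hX₁red.2.1
  have hTMt : (T : Subgroup H) ≤ Mt := hTX₁.trans hX₁Mt
  have hMtL : Mt ∈ Cfsg.charPSubgroups p H := by rw [hMt, hY₀]; exact hA X₁ hTX₁ hX₁L
  have hcharMt := charP_of_mem_charPSubgroups' hMtL
  have hYY₀ : Y ≤ Y₀ := by rw [hY₀]; exact hYX₁
  have hY₀Mt : Y₀ ≤ largestPReducedOf p Mt :=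
    le_largestPReducedOf_of_le T hTX₁ hX₁Mt hcharMt hX₁red
  have hkey : ∀ X : Subgroup H, X ∈ 𝒳 → Y₀ ≤ largestPReducedOf p X →
      largestPReducedOf p X = Y₀ := by
    intro X hX hle
    have h1 := hmax X hX
    rw [← hY₀] at h1
    exact (Subgroup.eq_of_le_of_card_ge hle h1).symm
  have hMt𝒳 : Mt ∈ 𝒳 := by
    refine (h𝒳iff Mt).mpr ⟨hTMt, hMtL, hYY₀.trans hY₀Mt, ?_⟩
    intro l hl
    obtain ⟨x, hx, c, hc, e⟩ := hLX₁ l hl
    exact ⟨x, hX₁Mt hx, c, hc, e⟩
  have hYMt : largestPReducedOf p Mt = Y₀ := hkey Mt hMt𝒳 hY₀Mt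
  -- Step C
  have hY₀T : Y₀ ≤ (T : Subgroup H) := by
    rw [hY₀]
    exact (largestPReducedOf_le_pCoreOf (charP_of_mem_charPSubgroups' hX₁L)).trans
      (pCoreOf_le_sylow T hTX₁)
  have hY₀1 : Y₀ ≠ ⊥ := fun h => hY1 (le_bot_iff.mp (h ▸ hYY₀))
  have hCY₀ : Subgroup.centralizer (Y₀ : Set H) ≤ C := by
    rw [hC]; exact Subgroup.centralizer_le (SetLike.coe_subset_coe.mpr hYY₀)
  obtain ⟨M, hTM, hMMt, hMsup0, hMnorm, hMmin⟩ :=
    exists_min_supp T (Y := Y₀) (X₀ := Mt) hTMt (by rw [hMt])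
  have hCMt : Subgroup.centralizer (Y₀ : Set H) ≤ Mt := by
    rw [hMt]; exact Subgroup.centralizer_le_normalizer _
  have hMsup : M ⊔ Subgroup.centralizer (Y₀ : Set H) = Mt := by
    rw [hMsup0, sup_eq_left.mpr hCMt]
  have hMnC₀ : M ≤ Subgroup.normalizer (Subgroup.centralizer (Y₀ : Set H) : Set H) := by
    refine hMMt.trans ?_
    rw [hMt]; exact normalizer_le_normalizer_centralizer Y₀
  have hMtred : IsPRedIn p Y₀ Mt := by rw [← hYMt]; exact isPRedIn_largestPReducedOf' Mt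
  have hMred : IsPRedIn p Y₀ M := hMtred.of_sup_eq (hY₀T.trans hTM) hMsup0
  have hM1 : pCoreOf p M ≠ ⊥ := by
    have hle : Y₀ ≤ pCoreOf p M :=
      le_pCoreOf (hY₀T.trans hTM) hMred.2.1 (T.isPGroup'.to_le hY₀T)
    intro hbot; exact hY₀1 (le_bot_iff.mp (hbot ▸ hle))
  have hML : M ∈ Cfsg.charPSubgroups p H := hmem M hTM hM1
  have hYM : largestPReducedOf p M = Y₀ := by
    apply le_antisymm
    · rw [← hYMt]
      exact le_largestPReducedOf_of_le T hTM hMMt hcharMt (isPRedIn_largestPReducedOf' M)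
    · exact le_largestPReducedOf hMred
  have hLMC : ∀ l ∈ L, ∃ m ∈ M, ∃ c ∈ C, l = m * c := by
    intro l hl
    obtain ⟨x, hx, c, hc, e⟩ := ((h𝒳iff Mt).mp hMt𝒳).2.2.2 l hl
    rw [← hMsup] at hx
    obtain ⟨m, hm, d, hd, e2⟩ := mem_sup_of_le_normalizer hMnC₀ hx
    exact ⟨m, hm, d * c, C.mul_mem (hCY₀ hd) hc, by rw [e, e2, mul_assoc]⟩
  have hsupX : ∀ X : Subgroup H, X ∈ Cfsg.charPSubgroups p H → M ≤ X → X ≤ Mt := by
    intro X hX hMX
    have hcharX := charP_of_mem_charPSubgroups' hX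
    have h1 : Y₀ ≤ largestPReducedOf p X := le_largestPReducedOf_of_le T hTM hMX hcharX hMred
    have hX𝒳 : X ∈ 𝒳 := by
      refine (h𝒳iff X).mpr ⟨hTM.trans hMX, hX, hYY₀.trans h1, ?_⟩
      intro l hl
      obtain ⟨m, hm, c, hc, e⟩ := hLMC l hl
      exact ⟨m, hMX hm, c, hc, e⟩
    have h2 := hkey X hX𝒳 h1
    have h3 := (isPRedIn_largestPReducedOf' (p := p) X).2.1
    rw [h2] at h3
    rw [hMt]; exact h3
  have hSylM : IsSylowIn p ((T : Subgroup H) ⊓ Subgroup.centralizer (Y₀ : Set H))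
      (M ⊓ Subgroup.centralizer (Y₀ : Set H)) := by
    have hTn : (T : Subgroup H) ≤ Subgroup.normalizer
        ((M ⊓ Subgroup.centralizer (Y₀ : Set H) : Subgroup H) : Set H) :=
      (le_inf (hTM.trans Subgroup.le_normalizer) (hTM.trans hMnC₀)).trans (normalizer_inf_le _ _)
    have := isSylowIn_inf_of_le_normalizer T hTn
    rwa [← inf_assoc, inf_eq_left.mpr hTM] at this
  have hDcore : (T : Subgroup H) ⊓ Subgroup.centralizer (Y₀ : Set H) ≤ pCoreOf p M :=
    le_pCoreOf (inf_le_left.trans hTM) hMnorm (T.isPGroup'.to_le inf_le_left)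
  have hFrat : ((M ⊓ Subgroup.centralizer (Y₀ : Set H)).subgroupOf M).map
      (QuotientGroup.mk' (pCore p ↥M)) ≤ frattini (↥M ⧸ pCore p ↥M) := by
    unfold frattini Order.radical
    apply le_iInf₂
    intro K hK
    by_contra hnot
    have hπ : Function.Surjective (QuotientGroup.mk' (pCore p ↥M)) :=
      QuotientGroup.mk'_surjective _
    have hsup : K ⊔ ((M ⊓ Subgroup.centralizer (Y₀ : Set H)).subgroupOf M).map
        (QuotientGroup.mk' (pCore p ↥M)) = ⊤ := by
      apply hK.2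
      refine lt_of_le_of_ne le_sup_left (fun h => hnot ?_)
      rw [h]; exact le_sup_right
    have hker : pCore p ↥M ≤ K.comap (QuotientGroup.mk' (pCore p ↥M)) := by
      intro x hx
      rw [Subgroup.mem_comap]
      have : QuotientGroup.mk' (pCore p ↥M) x = 1 := (QuotientGroup.eq_one_iff x).mpr hx
      rw [this]; exact K.one_mem
    have h1 : K.comap (QuotientGroup.mk' (pCore p ↥M)) ⊔
        (M ⊓ Subgroup.centralizer (Y₀ : Set H)).subgroupOf M = ⊤ := by
      have h2 := congrArg (Subgroup.comap (QuotientGroup.mk' (pCore p ↥M))) hsup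
      rw [Subgroup.comap_top, ← Subgroup.comap_sup_eq _ _ _ hπ, Subgroup.comap_map_eq,
        QuotientGroup.ker_mk'] at h2
      rw [← h2]
      apply le_antisymm
      · exact sup_le_sup_left le_sup_left _
      · exact sup_le le_sup_left (sup_le le_sup_right (hker.trans le_sup_left))
    have h3 := congrArg (Subgroup.map M.subtype) h1
    rw [Subgroup.map_sup, Subgroup.map_subgroupOf_eq_of_le inf_le_left,
      ← MonoidHom.range_eq_map, Subgroup.range_subtype] at h3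
    have h4 : (K.comap (QuotientGroup.mk' (pCore p ↥M))).map M.subtype = M := by
      apply hMmin _ (Subgroup.map_subtype_le _) _ h3
      refine hDcore.trans ?_
      unfold pCoreOf
      exact Subgroup.map_mono hker
    have h5 : K.comap (QuotientGroup.mk' (pCore p ↥M)) = ⊤ := by
      apply Subgroup.map_injective (Subgroup.subtype_injective M)
      rw [h4, ← MonoidHom.range_eq_map, Subgroup.range_subtype]
    apply hK.1
    rw [← Subgroup.map_comap_eq_self_of_surjective hπ K, h5]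
    exact Subgroup.map_top_of_surjective _ hπ
  have hFrakM : Cfsg.IsInFrakM p M := by
    refine ⟨hML, ?_, ?_, ?_, ?_, ?_⟩
    · rw [hYM, hMsup]
      exact ⟨hMtL, fun X hX hMtX => le_antisymm (hsupX X hX (hMMt.trans hMtX)) hMtX⟩
    · intro X hX hMX
      rw [hYM, hMsup]
      exact (hX.2 Mt hMtL (hsupX X hX.1 hMX)).symm
    · rw [hYM, hMsup, hYMt]
    · rw [hYM]
      exact (isPClosed_subgroup_iff hSylM).mpr (inf_le_left.trans hMnorm)
    · rw [hYM]; exact hFrat
  -- Step D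
  have hLnY : L ≤ Subgroup.normalizer (Y : Set H) := hYred.2.1
  have hCnY : C ≤ Subgroup.normalizer (Y : Set H) := by
    rw [hC]; exact Subgroup.centralizer_le_normalizer _
  have hX₀Y : M ⊓ (L ⊔ C) ≤ Subgroup.normalizer (Y : Set H) :=
    inf_le_right.trans (sup_le hLnY hCnY)
  have hTX₀ : (T : Subgroup H) ≤ M ⊓ (L ⊔ C) := le_inf hTM (hTL.trans le_sup_left)
  have hX₀sup : (M ⊓ (L ⊔ C)) ⊔ C = L ⊔ C := by
    apply le_antisymm (sup_le inf_le_right le_sup_right)
    apply sup_le _ le_sup_right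
    intro l hl
    obtain ⟨m, hm, c, hc, e⟩ := hLMC l hl
    have hmLC : m ∈ L ⊔ C := by
      have : m = l * c⁻¹ := by rw [e]; group
      rw [this]
      exact Subgroup.mul_mem _ (Subgroup.mem_sup_left hl) (Subgroup.mem_sup_right (C.inv_mem hc))
    rw [e]
    exact Subgroup.mul_mem _ (Subgroup.mem_sup_left ⟨hm, hmLC⟩) (Subgroup.mem_sup_right hc)
  obtain ⟨Ls, hTLs, hLsX₀, hLssup, hLsnorm, -⟩ :=
    exists_min_supp T (Y := Y) (X₀ := M ⊓ (L ⊔ C)) hTX₀ hX₀Y
  rw [← hC, hX₀sup] at hLssup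
  rw [← hC] at hLsnorm
  have hYLs : Y ≤ Ls := hYT.trans hTLs
  have hLsnY : Ls ≤ Subgroup.normalizer (Y : Set H) := hLsX₀.trans hX₀Y
  have hLs1 : pCoreOf p Ls ≠ ⊥ := by
    have hle : Y ≤ pCoreOf p Ls := le_pCoreOf hYLs hLsnY hYp
    intro hbot; exact hY1 (le_bot_iff.mp (hbot ▸ hle))
  have hLsL : Ls ∈ Cfsg.charPSubgroups p H := hmem Ls hTLs hLs1
  have hcharLs := charP_of_mem_charPSubgroups' hLsL
  have hLsred : IsPRedIn p Y Ls := hYred.of_sup_eq hYLs (by rw [← hC]; exact hLssup)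
  have hYYLs : Y ≤ largestPReducedOf p Ls := le_largestPReducedOf hLsred
  obtain ⟨D, hD⟩ : ∃ D : Subgroup H, D = (T : Subgroup H) ⊓ C := ⟨_, rfl⟩
  rw [← hD] at hLsnorm
  have hcoreLs : pCoreOf p Ls = D := by
    apply le_antisymm
    · rw [hD]
      apply le_inf (pCoreOf_le_sylow T hTLs)
      refine (pCoreOf_le_centralizer_largestPReducedOf hcharLs).trans ?_
      rw [hC]; exact Subgroup.centralizer_le (SetLike.coe_subset_coe.mpr hYYLs)
    · exact le_pCoreOf (by rw [hD]; exact inf_le_left.trans hTLs) hLsnorm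
        (by rw [hD]; exact T.isPGroup'.to_le inf_le_left)
  have hYLsΩ : largestPReducedOf p Ls ≤ omegaOne p (D ⊓ Subgroup.centralizer (D : Set H)) := by
    have := largestPReducedOf_le_omegaOne hcharLs
    rwa [hcoreLs] at this
  obtain ⟨L₁, hTL₁, hL₁L, hL₁sup, hL₁norm, -⟩ :=
    exists_min_supp T (Y := Y) (X₀ := L) hTL hLnY
  rw [← hC] at hL₁sup hL₁norm
  rw [← hD] at hL₁norm
  have hL₁red : IsPRedIn p Y L₁ := hYred.of_sup_eq (hYT.trans hTL₁) (by rw [← hC]; exact hL₁sup)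
  have hYcomm : Y ≤ C := by
    rw [hC]
    intro y hy
    rw [Subgroup.mem_centralizer_iff]
    intro z hz
    exact hYred.2.2.1 z hz y hy
  have hYΩ : Y ≤ omegaOne p (D ⊓ Subgroup.centralizer (D : Set H)) := by
    intro y hy
    rw [mem_omegaOne_center_iff]
    refine ⟨⟨?_, ?_⟩, hYred.2.2.2.1 y hy⟩
    · rw [hD]; exact ⟨hYT hy, hYcomm hy⟩
    · rw [Subgroup.mem_centralizer_iff]
      intro d hd
      rw [hD] at hd
      have hdC : d ∈ C := hd.2
      rw [hC, Subgroup.mem_centralizer_iff] at hdC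
      exact (hdC y hy).symm
  have hSylL₁ : IsSylowIn p D (L₁ ⊓ C) := by
    have hL₁nC : L₁ ≤ Subgroup.normalizer (C : Set H) := by
      refine (hL₁L.trans hLnY).trans ?_
      rw [hC]; exact normalizer_le_normalizer_centralizer Y
    have hTn : (T : Subgroup H) ≤ Subgroup.normalizer ((L₁ ⊓ C : Subgroup H) : Set H) :=
      (le_inf (hTL₁.trans Subgroup.le_normalizer) (hTL₁.trans hL₁nC)).trans
        (normalizer_inf_le _ _)
    have := isSylowIn_inf_of_le_normalizer T hTn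
    rwa [← inf_assoc, inf_eq_left.mpr hTL₁, ← hD] at this
  have hΩred : IsPRedIn p (omegaOne p (D ⊓ Subgroup.centralizer (D : Set H))) L₁ := by
    refine ⟨?_, ?_, ?_, ?_, ?_⟩
    · refine (omegaOne_le p _).trans (inf_le_left.trans ?_)
      rw [hD]; exact inf_le_left.trans hTL₁
    · intro l hl
      apply mem_normalizer_of_map_conj_eq
      rw [omegaOne_center_map_conj, map_conj_eq_of_mem_normalizer D (hL₁norm hl)]
    · intro a ha b hb
      exact inf_centralizer_comm D a (omegaOne_le p _ ha) b (omegaOne_le p _ hb)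
    · intro a ha
      exact pow_eq_one_of_mem_omegaOne (inf_centralizer_comm D) ha
    · intro D' hD'L hLD' hpow
      have h1 : D' ≤ C := by
        rw [hC]
        apply hL₁red.2.2.2.2 D' hD'L hLD'
        intro d hd
        obtain ⟨k, hk⟩ := hpow d hd
        exact ⟨k, Subgroup.centralizer_le (SetLike.coe_subset_coe.mpr hYΩ) hk⟩
      intro d hd
      obtain ⟨k, hk⟩ := hpow d hd
      apply mem_of_pow_mem_of_pElements_mem (D := L₁ ⊓ C) ⟨hD'L hd, h1 hd⟩ ?_ hk
      intro x hx hxp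
      obtain ⟨c, hc, hle⟩ := hSylL₁.exists_conj_le (isPGroup_zpowers hxp)
        ((Subgroup.zpowers_le).mpr hx)
      rw [map_conj_eq_of_mem_normalizer D (hL₁norm hc.1)] at hle
      have hxD : x ∈ D := hle (Subgroup.mem_zpowers x)
      rw [Subgroup.mem_centralizer_iff]
      intro w hw
      have hw' := (mem_omegaOne_center_iff.mp hw).1.2
      rw [Subgroup.mem_centralizer_iff] at hw'
      exact (hw' x hxD).symm
  have hΩY : omegaOne p (D ⊓ Subgroup.centralizer (D : Set H)) ≤ Y := by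
    rw [hY]; exact le_largestPReducedOf_of_le T hTL₁ hL₁L hcharL hΩred
  exact ⟨M, Ls, hTM, hFrakM, hTLs, hLsX₀.trans inf_le_left, hLsL,
    le_antisymm hYYLs (hYLsΩ.trans hΩY), by rw [hYM]; exact hYY₀, hLssup.symm⟩

end Cfsg.Agent.Lib.Helper18
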