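import Mathlib
import Cfsg.Agent.Lib.Helper18.Basic
import Cfsg.Agent.Lib.Helper18.SylowRel
import Cfsg.Agent.Lib.Helper18.Subnormal
import Cfsg.Agent.Lib.Helper18.WeakClosed
import Cfsg.Agent.Lib.Helper18.Large2
import Cfsg.Agent.Lib.Helper18.Coprime
import Cfsg.Agent.Lib.Helper18.Frattini
import Cfsg.Agent.Lib.Helper18.PIrr
import Cfsg.Agent.S2820

/-!
Weak closures of a weakly closed `p`-subgroup `Q`: `L° = O^p(L°) Q`, `O^p(L°) = [O^p(L°), Q]`,
and the behaviour of `O^p((H_i Q)°)` for a product decomposition `H° = H₁ H₂` with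
`[H₁, H₂] ≤ N(Q)`.  Also the three subgroups lemma modulo a normalised subgroup.
-/

set_option autoImplicit false
open Cfsg

namespace Cfsg.Agent.Lib.Helper18

variable {G : Type*} [Group G] {p : ℕ}

/-- three subgroups lemma modulo a normal subgroup. -/
theorem three_subgroups_mod_normal {A B C N : Subgroup G} [N.Normal]
    (h1 : ⁅⁅A, B⁆, C⁆ ≤ N) (h2 : ⁅⁅B, C⁆, A⁆ ≤ N) : ⁅⁅C, A⁆, B⁆ ≤ N := by
  have key : ∀ X : Subgroup G, X.map (QuotientGroup.mk' N) = ⊥ ↔ X ≤ N := by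
    intro X
    rw [Subgroup.map_eq_bot_iff, QuotientGroup.ker_mk']
  rw [← key, Subgroup.map_commutator, Subgroup.map_commutator] at h1 h2 ⊢
  exact Subgroup.commutator_commutator_eq_bot_of_rotate h1 h2

/-- three subgroups lemma modulo a subgroup normalised by the three. -/
theorem three_subgroups_mod {A B C N : Subgroup G}
    (hA : A ≤ Subgroup.normalizer (N : Set G)) (hB : B ≤ Subgroup.normalizer (N : Set G))
    (hC : C ≤ Subgroup.normalizer (N : Set G))
    (h1 : ⁅⁅A, B⁆, C⁆ ≤ N) (h2 : ⁅⁅B, C⁆, A⁆ ≤ N) : ⁅⁅C, A⁆, B⁆ ≤ N := by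
  obtain ⟨M, hM⟩ : ∃ M : Subgroup G, M = Subgroup.normalizer (N : Set G) := ⟨_, rfl⟩
  rw [← hM] at hA hB hC
  have hNn : (N.subgroupOf M).Normal := Subgroup.normal_subgroupOf_of_le_normalizer hM.le
  have e : ∀ {X Y Z : Subgroup G}, X ≤ M → Y ≤ M → Z ≤ M →
      (⁅⁅X.subgroupOf M, Y.subgroupOf M⁆, Z.subgroupOf M⁆).map M.subtype = ⁅⁅X, Y⁆, Z⁆ := by
    intro X Y Z hX hY hZ
    rw [Subgroup.map_commutator, Subgroup.map_commutator, Subgroup.map_subgroupOf_eq_of_le hX,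
      Subgroup.map_subgroupOf_eq_of_le hY, Subgroup.map_subgroupOf_eq_of_le hZ]
  have down : ∀ {X Y Z : Subgroup G}, X ≤ M → Y ≤ M → Z ≤ M → ⁅⁅X, Y⁆, Z⁆ ≤ N →
      ⁅⁅X.subgroupOf M, Y.subgroupOf M⁆, Z.subgroupOf M⁆ ≤ N.subgroupOf M := by
    intro X Y Z hX hY hZ h x hx
    rw [Subgroup.mem_subgroupOf]
    apply h
    rw [← e hX hY hZ]
    exact ⟨x, hx, rfl⟩
  have h3 := three_subgroups_mod_normal (down hA hB hC h1) (down hB hC hA h2)
  rw [← e hC hA hB]
  rintro _ ⟨x, hx, rfl⟩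
  exact Subgroup.mem_subgroupOf.mp (h3 hx)

theorem commutator_sup_le_of {A B C N : Subgroup G}
    (hA : A ≤ Subgroup.normalizer (N : Set G)) (hB : B ≤ Subgroup.normalizer (N : Set G))
    (h1 : ⁅C, A⁆ ≤ N) (h2 : ⁅C, B⁆ ≤ N) : ⁅C, A ⊔ B⁆ ≤ N := by
  rw [sup_eq_iSup]
  apply commutator_iSup_le
  · rintro (_ | _)
    · exact hB
    · exact hA
  · rintro (_ | _)
    · exact h2
    · exact h1

/-- the weak closure of `Q` in `P` lies in any subgroup containing `Q` and normalised by `P`. -/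
theorem weakClosure_le_of_le_normalizer [Fact p.Prime] [Finite G] {Q P X : Subgroup G}
    (hwc : IsWeaklyClosedSubgroup p Q) (hQP : Q ≤ P) (hQX : Q ≤ X)
    (hPX : P ≤ Subgroup.normalizer (X : Set G)) : weakClosure Q P ≤ X := by
  apply weakClosure_le
  intro g hg
  obtain ⟨k, hk, e⟩ := wcs_exists_conj_eq hwc hQP hg
  rw [e]
  have := Subgroup.map_mono (f := (MulAut.conj k).toMonoidHom) hQX
  rwa [map_conj_eq_of_mem_normalizer X (hPX hk)] at this

theorem le_normalizer_weakClosure (Q P : Subgroup G) :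
    P ≤ Subgroup.normalizer (weakClosure Q P : Set G) := by
  apply le_normalizer_of_forall_map_conj_le
  intro c hc
  unfold weakClosure
  rw [Subgroup.map_iSup]
  apply iSup_le
  intro g
  have h1 : Q.map (MulAut.conj (c * g.1)).toMonoidHom ≤ P := by
    rw [map_conj_mul]
    have := Subgroup.map_mono (f := (MulAut.conj c).toMonoidHom) g.2
    rwa [map_conj_eq_of_mem_normalizer P (Subgroup.le_normalizer hc)] at this
  rw [← map_conj_mul]
  exact le_iSup (fun g : {g : G // Q.map (MulAut.conj g).toMonoidHom ≤ P} =>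
    Q.map (MulAut.conj (g : G)).toMonoidHom) ⟨c * g.1, h1⟩

theorem weakClosure_idem (Q P : Subgroup G) :
    weakClosure Q (weakClosure Q P) = weakClosure Q P := by
  apply le_antisymm (weakClosure_le_self _ _)
  apply weakClosure_le
  intro g hg
  exact conj_le_weakClosure (conj_le_weakClosure hg)

/-- `L° = O^p(L°) Q`. -/
theorem weakClosure_eq_pResOf_sup [Fact p.Prime] [Finite G] {Q P : Subgroup G}
    (hwc : IsWeaklyClosedSubgroup p Q) (hQP : Q ≤ P) :
    weakClosure Q P = pResOf p (weakClosure Q P) ⊔ Q := by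
  obtain ⟨W, hW⟩ : ∃ W : Subgroup G, W = weakClosure Q P := ⟨_, rfl⟩
  rw [← hW]
  have hQW : Q ≤ W := hW ▸ le_weakClosure hQP
  have hQp := wcs_isPGroup hwc
  obtain ⟨S, hS, hQS⟩ := exists_isSylowIn_ge hQp hQW
  have hSQ : S ≤ Subgroup.normalizer (Q : Set G) := wcs_le_normalizer_of_le hwc hS.2.1 hQS
  have hWK : W ≤ Subgroup.normalizer (pResOf p W : Set G) := le_normalizer_pResOf p W
  apply le_antisymm _ (sup_le (pResOf_le p W) hQW)
  have hn : W ≤ Subgroup.normalizer ((pResOf p W ⊔ Q : Subgroup G) : Set G) := by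
    have h1 : pResOf p W ⊔ S ≤ Subgroup.normalizer ((pResOf p W ⊔ Q : Subgroup G) : Set G) := by
      apply sup_le (le_sup_left.trans Subgroup.le_normalizer)
      exact (le_inf (hS.1.trans hWK) hSQ).trans (normalizer_inf_le_normalizer_sup _ _)
    rwa [hS.pResOf_sup] at h1
  have h2 := weakClosure_le_of_le_normalizer hwc hQW (le_sup_right : Q ≤ pResOf p W ⊔ Q) hn
  have e : weakClosure Q W = W := by rw [hW, weakClosure_idem]
  rw [e] at h2
  exact h2

open scoped commutatorElement in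
/-- `O^p(L°) = [O^p(L°), Q]`. -/
theorem commutator_pResOf_weakClosure [Fact p.Prime] [Finite G] {Q P : Subgroup G}
    (hwc : IsWeaklyClosedSubgroup p Q) (hQP : Q ≤ P) :
    ⁅pResOf p (weakClosure Q P), Q⁆ = pResOf p (weakClosure Q P) := by
  obtain ⟨W, hW⟩ : ∃ W : Subgroup G, W = weakClosure Q P := ⟨_, rfl⟩
  rw [← hW]
  have hQW : Q ≤ W := hW ▸ le_weakClosure hQP
  have hQp := wcs_isPGroup hwc
  have hWeq : W = pResOf p W ⊔ Q := by rw [hW]; exact weakClosure_eq_pResOf_sup hwc hQP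
  have hWK : W ≤ Subgroup.normalizer (pResOf p W : Set G) := le_normalizer_pResOf p W
  obtain ⟨K, hK⟩ : ∃ K : Subgroup G, K = pResOf p W := ⟨_, rfl⟩
  rw [← hK] at hWeq hWK ⊢
  apply le_antisymm (commutator_le_of_le_normalizer' (hQW.trans hWK))
  obtain ⟨N, hN⟩ : ∃ N : Subgroup G, N = ⁅K, Q⁆ := ⟨_, rfl⟩
  rw [← hN]
  have hKN : K ≤ Subgroup.normalizer (N : Set G) := hN ▸ le_normalizer_commutator_left K Q
  have hQN : Q ≤ Subgroup.normalizer (N : Set G) := hN ▸ le_normalizer_commutator_right K Q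
  have hn : W ≤ Subgroup.normalizer ((Q ⊔ N : Subgroup G) : Set G) := by
    rw [hWeq]
    apply sup_le
    · apply le_normalizer_of_forall_map_conj_le
      intro k hk
      rw [Subgroup.map_sup, map_conj_eq_of_mem_normalizer N (hKN hk)]
      apply sup_le _ le_sup_right
      rintro _ ⟨q, hq, rfl⟩
      have e2 : (MulAut.conj k).toMonoidHom q = ⁅k, q⁆ * q := by simp [commutatorElement_def]
      rw [e2]
      exact Subgroup.mul_mem _
        (Subgroup.mem_sup_right (hN ▸ Subgroup.commutator_mem_commutator hk hq))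
        (Subgroup.mem_sup_left hq)
    · exact (le_inf Subgroup.le_normalizer hQN).trans (normalizer_inf_le_normalizer_sup _ _)
  have h2 := weakClosure_le_of_le_normalizer hwc hQW (le_sup_left : Q ≤ Q ⊔ N) hn
  have e : weakClosure Q W = W := by rw [hW, weakClosure_idem]
  rw [e] at h2
  rw [hK]
  exact (pResOf_mono p h2).trans (Cfsg.Agent.S2820.pResOf_sup_le hQp hQN)

open scoped commutatorElement in
/-- one factor of a decomposition `H° = H₁ H₂` with `[H₁, H₂] ≤ N(Q)`. -/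
theorem wcprod_side [Fact p.Prime] [Finite G] {Q Hc H₁ H₂ : Subgroup G}
    (hwc : IsWeaklyClosedSubgroup p Q) (hHc : Hc = weakClosure Q ⊤)
    (hn₁ : H₁ ≤ Hc ∧ Hc ≤ Subgroup.normalizer (H₁ : Set G))
    (hn₂ : H₂ ≤ Hc ∧ Hc ≤ Subgroup.normalizer (H₂ : Set G))
    (hprod : H₁ ⊔ H₂ = Hc) (hcomm : ⁅H₁, H₂⁆ ≤ Subgroup.normalizer (Q : Set G)) :
    ⁅pResOf p (weakClosure Q (H₁ ⊔ Q)), Q⁆ = pResOf p (weakClosure Q (H₁ ⊔ Q)) ∧
    ⁅pResOf p (weakClosure Q (H₁ ⊔ Q)), H₁⁆ = pResOf p (weakClosure Q (H₁ ⊔ Q)) ∧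
    pResOf p (weakClosure Q (H₁ ⊔ Q)) ≤ ⁅H₁, H₁⁆ ∧
    Hc ≤ Subgroup.normalizer (pResOf p (weakClosure Q (H₁ ⊔ Q)) : Set G) ∧
    ⁅pResOf p (weakClosure Q (H₁ ⊔ Q)), H₂⁆ ≤ pCoreOf p ⁅H₁, H₂⁆ := by
  have hQp := wcs_isPGroup hwc
  have hQHc : Q ≤ Hc := hHc ▸ le_weakClosure le_top
  have hidem : weakClosure Q Hc = Hc := by rw [hHc, weakClosure_idem]
  obtain ⟨D, hD⟩ : ∃ D : Subgroup G, D = ⁅H₁, H₂⁆ := ⟨_, rfl⟩
  rw [← hD] at hcomm ⊢
  have hH₁H₂ : H₁ ≤ Subgroup.normalizer (H₂ : Set G) := hn₁.1.trans hn₂.2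
  have hH₂H₁ : H₂ ≤ Subgroup.normalizer (H₁ : Set G) := hn₂.1.trans hn₁.2
  have hDH₁ : D ≤ H₁ := hD ▸ commutator_le_of_le_normalizer' hH₂H₁
  have hDH₂ : D ≤ H₂ := hD ▸ commutator_le_of_le_normalizer hH₁H₂
  have hDHc : D ≤ Hc := hDH₁.trans hn₁.1
  have hHcD : Hc ≤ Subgroup.normalizer (D : Set G) := by
    rw [hD]; exact (le_inf hn₁.2 hn₂.2).trans (normalizer_inf_le_normalizer_commutator H₁ H₂)
  obtain ⟨Dp, hDp⟩ : ∃ Dp : Subgroup G, Dp = pCoreOf p D := ⟨_, rfl⟩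
  rw [← hDp]
  have hHcDp : Hc ≤ Subgroup.normalizer (Dp : Set G) :=
    hDp ▸ hHcD.trans (normalizer_le_normalizer_pCoreOf p D)
  have hDpp : IsPGroup p Dp := hDp ▸ pCoreOf_isPGroup p D
  have hDpD : Dp ≤ D := hDp ▸ pCoreOf_le p D
  have hDHc' : ⁅D, Hc⁆ ≤ Dp := by
    rw [← hidem]
    unfold weakClosure
    apply commutator_iSup_le
    · intro g; exact g.2.trans hHcDp
    · intro g
      obtain ⟨x, hx, e⟩ := wcs_exists_conj_eq hwc hQHc g.2
      rw [e]
      have hDn : D ≤ Subgroup.normalizer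
          ((Q.map (MulAut.conj x).toMonoidHom : Subgroup G) : Set G) := by
        apply le_normalizer_of_forall_map_conj_le
        intro d hd
        have hd' : x⁻¹ * d * x ∈ D := by
          have := (Subgroup.mem_normalizer_iff.mp (Subgroup.inv_mem _ (hHcD hx)) d).mp hd
          simpa using this
        have e1 : d * x = x * (x⁻¹ * d * x) := by group
        rw [← map_conj_mul, e1, map_conj_mul, map_conj_eq_of_mem_normalizer Q (hcomm hd')]
      have hle : Q.map (MulAut.conj x).toMonoidHom ≤ Hc := by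
        have := Subgroup.map_mono (f := (MulAut.conj x).toMonoidHom) hQHc
        rwa [map_conj_eq_of_mem_normalizer Hc (Subgroup.le_normalizer hx)] at this
      have h1 : ⁅D, Q.map (MulAut.conj x).toMonoidHom⁆ ≤
          D ⊓ Q.map (MulAut.conj x).toMonoidHom :=
        le_inf (commutator_le_of_le_normalizer' (hle.trans hHcD))
          (commutator_le_of_le_normalizer hDn)
      refine h1.trans ?_
      rw [hDp]
      apply le_pCoreOf inf_le_left
      · exact (le_inf Subgroup.le_normalizer hDn).trans (normalizer_inf_le _ _)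
      · exact (hQp.map _).to_le inf_le_right
  have hDH₁' : ⁅D, H₁⁆ ≤ Dp := (Subgroup.commutator_mono le_rfl hn₁.1).trans hDHc'
  have hDH₂' : ⁅D, H₂⁆ ≤ Dp := (Subgroup.commutator_mono le_rfl hn₂.1).trans hDHc'
  have h3 : ⁅⁅H₁, H₁⁆, H₂⁆ ≤ Dp := by
    apply three_subgroups_mod (A := H₁) (B := H₂) (C := H₁) (hn₁.1.trans hHcDp)
      (hn₂.1.trans hHcDp) (hn₁.1.trans hHcDp)
    · rw [← hD]; exact hDH₁'
    · rw [Subgroup.commutator_comm H₂ H₁, ← hD]; exact hDH₁'
  obtain ⟨E, hE⟩ : ∃ E : Subgroup G, E = ⁅H₁, H₁⁆ ⊔ D := ⟨_, rfl⟩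
  have hH₁'Hc : ⁅H₁, H₁⁆ ≤ Hc :=
    (commutator_le_of_le_normalizer Subgroup.le_normalizer).trans hn₁.1
  have hEHc : E ≤ Hc := hE ▸ sup_le hH₁'Hc hDHc
  have hHcE : Hc ≤ Subgroup.normalizer (E : Set G) := by
    rw [hE]
    exact (le_inf (hn₁.2.trans (normalizer_le_normalizer_commutator_self H₁)) hHcD).trans
      (normalizer_inf_le_normalizer_sup _ _)
  have hEH₂ : ⁅E, H₂⁆ ≤ Dp := by
    rw [Subgroup.commutator_comm, hE]
    apply commutator_sup_le_of (hH₁'Hc.trans hHcDp) (hDHc.trans hHcDp)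
    · rw [Subgroup.commutator_comm]; exact h3
    · rw [Subgroup.commutator_comm]; exact hDH₂'
  have hH₁Hc : ⁅H₁, Hc⁆ ≤ E := by
    rw [← hprod]
    apply commutator_sup_le_of (hn₁.1.trans hHcE) (hn₂.1.trans hHcE)
    · rw [hE]; exact le_sup_left
    · rw [hE, hD]; exact le_sup_right
  obtain ⟨W, hW⟩ : ∃ W : Subgroup G, W = weakClosure Q (H₁ ⊔ Q) := ⟨_, rfl⟩
  obtain ⟨K, hK⟩ : ∃ K : Subgroup G, K = pResOf p W := ⟨_, rfl⟩
  rw [← hW, ← hK]
  have hQE : Q ≤ Subgroup.normalizer (E : Set G) := hQHc.trans hHcE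
  have hWle : W ≤ Q ⊔ E := by
    rw [hW]
    apply weakClosure_le_of_le_normalizer hwc le_sup_right le_sup_left
    apply sup_le
    · apply le_normalizer_of_forall_map_conj_le
      intro h hh
      rw [Subgroup.map_sup, map_conj_eq_of_mem_normalizer E (hHcE (hn₁.1 hh))]
      apply sup_le _ le_sup_right
      rintro _ ⟨q, hq, rfl⟩
      have e2 : (MulAut.conj h).toMonoidHom q = ⁅h, q⁆ * q := by simp [commutatorElement_def]
      rw [e2]
      exact Subgroup.mul_mem _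
        (Subgroup.mem_sup_right (hH₁Hc (Subgroup.commutator_mem_commutator hh (hQHc hq))))
        (Subgroup.mem_sup_left hq)
    · exact (le_inf Subgroup.le_normalizer hQE).trans (normalizer_inf_le_normalizer_sup _ _)
  have hKE : K ≤ E := by
    rw [hK]; exact (pResOf_mono p hWle).trans (Cfsg.Agent.S2820.pResOf_sup_le hQp hQE)
  have hKH₂ : ⁅K, H₂⁆ ≤ Dp := (Subgroup.commutator_mono hKE le_rfl).trans hEH₂
  have hWP : W ≤ H₁ ⊔ Q := hW ▸ weakClosure_le_self _ _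
  have hKH₁ : K ≤ H₁ := by
    rw [hK]
    refine (pResOf_mono p hWP).trans ?_
    rw [sup_comm]
    exact Cfsg.Agent.S2820.pResOf_sup_le hQp (hQHc.trans hn₁.2)
  have hPK : H₁ ⊔ Q ≤ Subgroup.normalizer (K : Set G) := by
    rw [hK]
    refine le_trans ?_ (normalizer_le_normalizer_pResOf p W)
    rw [hW]; exact le_normalizer_weakClosure Q _
  have hidK : pResOf p K = K := by rw [hK]; exact Cfsg.Agent.S2820.pResOf_idem p W
  have hHcK : Hc ≤ Subgroup.normalizer (K : Set G) := by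
    have h1 : Hc ≤ Subgroup.normalizer ((Dp ⊔ K : Subgroup G) : Set G) := by
      rw [← hprod]
      apply sup_le
      · exact (le_inf (hn₁.1.trans hHcDp) (le_sup_left.trans hPK)).trans
          (normalizer_inf_le_normalizer_sup _ _)
      · apply le_normalizer_of_forall_map_conj_le
        intro h hh
        rw [Subgroup.map_sup, map_conj_eq_of_mem_normalizer Dp (hHcDp (hn₂.1 hh))]
        apply sup_le le_sup_left
        rintro _ ⟨k, hk, rfl⟩
        have e2 : (MulAut.conj h).toMonoidHom k = ⁅h, k⁆ * k := by simp [commutatorElement_def]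
        rw [e2]
        have h5 : ⁅h, k⁆ ∈ Dp := by
          rw [← commutatorElement_inv]
          exact Dp.inv_mem (hKH₂ (Subgroup.commutator_mem_commutator hk hh))
        exact Subgroup.mul_mem _ (Subgroup.mem_sup_left h5) (Subgroup.mem_sup_right hk)
    have h2 := h1.trans (normalizer_le_normalizer_pResOf p (Dp ⊔ K))
    rwa [pResOf_sup_eq hDpp ((hDpD.trans hDH₁).trans (le_sup_left.trans hPK)), hidK] at h2
  have ha1 : ⁅K, Q⁆ = K := by
    rw [hK, hW]; exact commutator_pResOf_weakClosure hwc le_sup_right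
  have ha2 : ⁅K, H₁⁆ = K := by
    apply le_antisymm (commutator_le_of_le_normalizer' (le_sup_left.trans hPK))
    obtain ⟨N, hN⟩ : ∃ N : Subgroup G, N = ⁅K, H₁⁆ := ⟨_, rfl⟩
    rw [← hN]
    have hHcN : Hc ≤ Subgroup.normalizer (N : Set G) := by
      rw [hN]; exact (le_inf hHcK hn₁.2).trans (normalizer_inf_le_normalizer_commutator K H₁)
    have hHcDN : Hc ≤ Subgroup.normalizer ((Dp ⊔ N : Subgroup G) : Set G) :=
      (le_inf hHcDp hHcN).trans (normalizer_inf_le_normalizer_sup _ _)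
    have h1 : ⁅K, Hc⁆ ≤ Dp ⊔ N := by
      rw [← hprod]
      apply commutator_sup_le_of (hn₁.1.trans hHcDN) (hn₂.1.trans hHcDN)
      · rw [hN]; exact le_sup_right
      · exact hKH₂.trans le_sup_left
    have h2 : K ≤ Dp ⊔ N := by
      conv_lhs => rw [← ha1]
      exact (Subgroup.commutator_mono le_rfl hQHc).trans h1
    have h4 := pResOf_mono p h2
    rw [hidK, pResOf_sup_eq hDpp ((hDpD.trans hDHc).trans hHcN)] at h4
    exact h4.trans (pResOf_le p N)
  refine ⟨ha1, ha2, ?_, hHcK, hKH₂⟩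
  conv_lhs => rw [← ha2]
  exact Subgroup.commutator_mono hKH₁ le_rfl

/-- `O^p(H°) = K₁ K₂` and `[K₁, K₂] ≤ O_p(H°)`. -/
theorem wcprod_main [Fact p.Prime] [Finite G] {Q Hc H₁ H₂ : Subgroup G}
    (hwc : IsWeaklyClosedSubgroup p Q) (hHc : Hc = weakClosure Q ⊤)
    (hn₁ : H₁ ≤ Hc ∧ Hc ≤ Subgroup.normalizer (H₁ : Set G))
    (hn₂ : H₂ ≤ Hc ∧ Hc ≤ Subgroup.normalizer (H₂ : Set G))
    (hprod : H₁ ⊔ H₂ = Hc) (hcomm : ⁅H₁, H₂⁆ ≤ Subgroup.normalizer (Q : Set G)) :
    pResOf p (weakClosure Q (H₁ ⊔ Q)) ⊔ pResOf p (weakClosure Q (H₂ ⊔ Q)) = pResOf p Hc ∧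
    ⁅pResOf p (weakClosure Q (H₁ ⊔ Q)), pResOf p (weakClosure Q (H₂ ⊔ Q))⁆ ≤ pCoreOf p Hc := by
  obtain ⟨-, -, -, a4, a5⟩ := wcprod_side hwc hHc hn₁ hn₂ hprod hcomm
  obtain ⟨-, -, -, b4, -⟩ := wcprod_side hwc hHc hn₂ hn₁ (by rw [sup_comm]; exact hprod)
    (by rw [Subgroup.commutator_comm]; exact hcomm)
  have hQp := wcs_isPGroup hwc
  have hQHc : Q ≤ Hc := hHc ▸ le_weakClosure le_top
  have hidem : weakClosure Q Hc = Hc := by rw [hHc, weakClosure_idem]
  have hW₁ := weakClosure_eq_pResOf_sup hwc (le_sup_right : Q ≤ H₁ ⊔ Q)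
  have hW₂ := weakClosure_eq_pResOf_sup hwc (le_sup_right : Q ≤ H₂ ⊔ Q)
  have hK₂H₂ : pResOf p (weakClosure Q (H₂ ⊔ Q)) ≤ H₂ := by
    refine (pResOf_mono p (weakClosure_le_self _ _)).trans ?_
    rw [sup_comm]
    exact Cfsg.Agent.S2820.pResOf_sup_le hQp (hQHc.trans hn₂.2)
  have hle₁ : pResOf p (weakClosure Q (H₁ ⊔ Q)) ≤ pResOf p Hc :=
    pResOf_mono p ((weakClosure_le_self _ _).trans (sup_le hn₁.1 hQHc))
  have hle₂ : pResOf p (weakClosure Q (H₂ ⊔ Q)) ≤ pResOf p Hc :=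
    pResOf_mono p ((weakClosure_le_self _ _).trans (sup_le hn₂.1 hQHc))
  obtain ⟨K₁, hK₁⟩ : ∃ K₁ : Subgroup G, K₁ = pResOf p (weakClosure Q (H₁ ⊔ Q)) := ⟨_, rfl⟩
  obtain ⟨K₂, hK₂⟩ : ∃ K₂ : Subgroup G, K₂ = pResOf p (weakClosure Q (H₂ ⊔ Q)) := ⟨_, rfl⟩
  rw [← hK₁] at a4 a5 hW₁ hle₁ ⊢
  rw [← hK₂] at b4 hW₂ hK₂H₂ hle₂ ⊢
  have hHcK : Hc ≤ Subgroup.normalizer ((K₁ ⊔ K₂ : Subgroup G) : Set G) :=
    (le_inf a4 b4).trans (normalizer_inf_le_normalizer_sup _ _)
  constructor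
  · apply le_antisymm (sup_le hle₁ hle₂)
    have hn : Hc ≤ Subgroup.normalizer ((Q ⊔ (K₁ ⊔ K₂) : Subgroup G) : Set G) := by
      rw [← hprod]
      apply sup_le
      · apply le_normalizer_of_forall_map_conj_le
        intro h hh
        rw [Subgroup.map_sup, map_conj_eq_of_mem_normalizer _ (hHcK (hn₁.1 hh))]
        apply sup_le _ le_sup_right
        have h1 : Q.map (MulAut.conj h).toMonoidHom ≤ H₁ ⊔ Q := by
          have := Subgroup.map_mono (f := (MulAut.conj h).toMonoidHom)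
            (le_sup_right : Q ≤ H₁ ⊔ Q)
          rwa [map_conj_eq_of_mem_normalizer _
            (Subgroup.le_normalizer (Subgroup.mem_sup_left hh))] at this
        have h2 := conj_le_weakClosure h1
        rw [hW₁] at h2
        exact h2.trans (sup_le (le_sup_left.trans le_sup_right) le_sup_left)
      · apply le_normalizer_of_forall_map_conj_le
        intro h hh
        rw [Subgroup.map_sup, map_conj_eq_of_mem_normalizer _ (hHcK (hn₂.1 hh))]
        apply sup_le _ le_sup_right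
        have h1 : Q.map (MulAut.conj h).toMonoidHom ≤ H₂ ⊔ Q := by
          have := Subgroup.map_mono (f := (MulAut.conj h).toMonoidHom)
            (le_sup_right : Q ≤ H₂ ⊔ Q)
          rwa [map_conj_eq_of_mem_normalizer _
            (Subgroup.le_normalizer (Subgroup.mem_sup_left hh))] at this
        have h2 := conj_le_weakClosure h1
        rw [hW₂] at h2
        exact h2.trans (sup_le (le_sup_right.trans le_sup_right) le_sup_left)
    have h3 := weakClosure_le_of_le_normalizer hwc hQHc (le_sup_left : Q ≤ Q ⊔ (K₁ ⊔ K₂)) hn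
    rw [hidem] at h3
    exact (pResOf_mono p h3).trans (Cfsg.Agent.S2820.pResOf_sup_le hQp (hQHc.trans hHcK))
  · have hDHc : ⁅H₁, H₂⁆ ≤ Hc :=
      (commutator_le_of_le_normalizer' (hn₂.1.trans hn₁.2)).trans hn₁.1
    have hHcD : Hc ≤ Subgroup.normalizer ((⁅H₁, H₂⁆ : Subgroup G) : Set G) :=
      (le_inf hn₁.2 hn₂.2).trans (normalizer_inf_le_normalizer_commutator H₁ H₂)
    exact ((Subgroup.commutator_mono le_rfl hK₂H₂).trans a5).trans
      (pCoreOf_le_pCoreOf_of_normal hDHc hHcD)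

end Cfsg.Agent.Lib.Helper18
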