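import Mathlib
import Cfsg.Prelude
import Cfsg.Agent.Lib.Helper18.FStarComm
import Cfsg.Agent.Lib.Helper18.Large2
import Cfsg.Agent.Lib.Helper18.WCProd
import Cfsg.Agent.Lib.Helper18.PClosed
import Cfsg.Agent.Lib.Helper18.Subnormal
import Cfsg.Agent.Lib.Helper18.Coprime
import Cfsg.Agent.Lib.Helper11.Bender

/-!
Quasisimple sections and large subgroups: the structure of `O^p` of the weak closure of a
large `p`-subgroup `Q` in a subgroup `E` acting on a `p`-group `U` with `O^p(E) C_E(U) / C_E(U)`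
quasisimple and `O_p(E / C_E(U)) = 1`.
-/

set_option autoImplicit false
open Cfsg

namespace Cfsg.Agent.Lib.Helper18

open scoped commutatorElement

section QSAbstract

variable {H : Type*} [Group H] {p : ℕ}

/-- If `O_p(H) = 1`, `K` is a quasisimple normal subgroup with `H / K` a `p`-group, then
`[K, Y] = K` for every nontrivial `p`-subgroup `Y`. -/
theorem qs_commutator_eq [Finite H] [Fact p.Prime] (hO : pCore p H = ⊥) {K : Subgroup H}
    (hKn : K.Normal) (hq : IsQuasisimple ↥K) (hK : pResidual p H ≤ K) {Y : Subgroup H}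
    (hY : IsPGroup p Y) (hY1 : Y ≠ ⊥) : ⁅K, Y⁆ = K := by
  have := hKn
  have hperf : ⁅K, K⁆ = K := Subgroup.isPerfect_iff.mp hq.1
  by_contra hne
  have h1 : ⁅K, Y⁆ ≤ K := Subgroup.commutator_le_left K Y
  have h2 : ⁅K, Y⁆ ≤ Subgroup.centralizer (K : Set H) :=
    qs_normal_le_centralizer hq h1 (le_normalizer_commutator_left K Y) hne
  have h3 : ⁅⁅K, Y⁆, K⁆ = ⊥ := Subgroup.commutator_eq_bot_iff_le_centralizer.mpr h2
  have h4 : ⁅⁅Y, K⁆, K⁆ = ⊥ := by rw [Subgroup.commutator_comm Y K]; exact h3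
  have h5 : ⁅⁅K, K⁆, Y⁆ = ⊥ := Subgroup.commutator_commutator_eq_bot_of_rotate h3 h4
  rw [hperf] at h5
  have h6 : Y ≤ Subgroup.centralizer (K : Set H) := by
    rw [← Subgroup.commutator_eq_bot_iff_le_centralizer, Subgroup.commutator_comm]; exact h5
  have hDn : (Subgroup.centralizer (K : Set H)).Normal := inferInstance
  have hnil : Group.IsNilpotent ↥(Subgroup.centralizer (K : Set H)) := by
    have hPQ : IsPGroup p (H ⧸ K) := isPGroup_quotient_of_pResidual_le K hK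
    have hnQ : Group.IsNilpotent (H ⧸ K) := hPQ.isNilpotent
    refine Subgroup.isNilpotent_of_ker_le_center ((QuotientGroup.mk' K).comp
      (Subgroup.centralizer (K : Set H)).subtype) ?_
    intro x hx
    rw [MonoidHom.mem_ker] at hx
    have hxK : (x : H) ∈ K := by
      have : QuotientGroup.mk' K (x : H) = 1 := hx
      rwa [QuotientGroup.mk'_apply, QuotientGroup.eq_one_iff] at this
    rw [Subgroup.mem_center_iff]
    intro y
    apply Subtype.ext
    exact (Subgroup.mem_centralizer_iff.mp y.2 x hxK).symm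
  have hcop := card_coprime_of_normal_nilpotent hO hDn hnil
  exact hY1 (eq_bot_of_isPGroup_of_le_of_coprime hcop hY h6)

/-- A perfect subgroup has no proper normal subgroup with quotient a `p`-group. -/
theorem le_of_perfect_of_forall_pow_mem [Finite H] [Fact p.Prime] {X N : Subgroup H}
    (hperf : ⁅X, X⁆ = X) (hnorm : X ≤ Subgroup.normalizer (N : Set H))
    (hpow : ∀ x ∈ X, ∃ k : ℕ, x ^ p ^ k ∈ N) : X ≤ N := by
  have hNn : (N.subgroupOf X).Normal := Subgroup.normal_subgroupOf_of_le_normalizer hnorm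
  have hP : IsPGroup p (↥X ⧸ N.subgroupOf X) := by
    intro q
    obtain ⟨x, rfl⟩ := QuotientGroup.mk_surjective q
    obtain ⟨k, hk⟩ := hpow x.1 x.2
    refine ⟨k, ?_⟩
    rw [← QuotientGroup.mk_pow, QuotientGroup.eq_one_iff]
    exact Subgroup.mem_subgroupOf.mpr (by simpa using hk)
  have hnil : Group.IsNilpotent (↥X ⧸ N.subgroupOf X) := hP.isNilpotent
  have hperf' : Group.IsPerfect ↥X := Subgroup.isPerfect_iff.mpr hperf
  have hsub : Subsingleton (↥X ⧸ N.subgroupOf X) := by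
    by_contra hns
    rw [not_subsingleton_iff_nontrivial] at hns
    exact Group.IsPerfect.not_isNilpotent (↥X ⧸ N.subgroupOf X) hnil
  intro x hx
  have h1 : (QuotientGroup.mk (⟨x, hx⟩ : ↥X) : ↥X ⧸ N.subgroupOf X) = 1 := Subsingleton.elim _ _
  rw [QuotientGroup.eq_one_iff] at h1
  exact Subgroup.mem_subgroupOf.mp h1

theorem pResOf_idem (p : ℕ) (W : Subgroup H) : pResOf p (pResOf p W) = pResOf p W := by
  apply le_antisymm (pResOf_le p _)
  have h : pResOf p W = Subgroup.closure {g : H | g ∈ W ∧ (orderOf g).Coprime p} := rfl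
  conv_lhs => rw [h]
  rw [Subgroup.closure_le]
  rintro g ⟨hg, hc⟩
  exact mem_pResOf (mem_pResOf hg hc) hc

/-- In a group generated by its `p'`-elements, every `p`-element lies in the derived group. -/
theorem mem_commutator_of_pResidual_eq_top {X : Type*} [Group X] (h : pResidual p X = ⊤) {y : X}
    {k : ℕ} (hy : y ^ p ^ k = 1) : y ∈ commutator X := by
  have key : ∀ x : X, ∃ m : ℕ, m.Coprime p ∧ (Abelianization.of x) ^ m = 1 := by
    intro x
    have hx : x ∈ pResidual p X := by rw [h]; exact Subgroup.mem_top x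
    unfold pResidual at hx
    induction hx using Subgroup.closure_induction with
    | mem g hg => exact ⟨orderOf g, hg, by rw [← map_pow, pow_orderOf_eq_one, map_one]⟩
    | one => exact ⟨1, Nat.coprime_one_left p, by simp⟩
    | mul a b _ _ iha ihb =>
      obtain ⟨m, hm, e1⟩ := iha
      obtain ⟨m', hm', e2⟩ := ihb
      refine ⟨m * m', Nat.Coprime.mul_left hm hm', ?_⟩
      rw [map_mul, mul_pow, pow_mul, e1, one_pow, one_mul, mul_comm m m', pow_mul, e2, one_pow]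
    | inv a _ iha =>
      obtain ⟨m, hm, e1⟩ := iha
      exact ⟨m, hm, by rw [map_inv, inv_pow, e1, inv_one]⟩
  obtain ⟨m, hm, e⟩ := key y
  have e2 : (Abelianization.of y) ^ p ^ k = 1 := by rw [← map_pow, hy, map_one]
  have h1 : orderOf (Abelianization.of y) ∣ m := orderOf_dvd_of_pow_eq_one e
  have h2 : orderOf (Abelianization.of y) ∣ p ^ k := orderOf_dvd_of_pow_eq_one e2
  have h3 : orderOf (Abelianization.of y) = 1 :=
    Nat.eq_one_of_dvd_coprimes (Nat.Coprime.pow_right k hm) h1 h2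
  have h4 : Abelianization.of y = 1 := orderOf_eq_one_iff.mp h3
  rw [← Abelianization.ker_of X]
  exact h4

theorem mem_commutator_of_pResOf_eq {L : Subgroup H} (hL : pResOf p L = L) {y : H} (hy : y ∈ L)
    {k : ℕ} (hyk : y ^ p ^ k = 1) : y ∈ ⁅L, L⁆ := by
  have h1 : pResidual p ↥L = ⊤ := by
    apply Subgroup.map_injective (Subgroup.subtype_injective L)
    rw [map_pResidual_subtype, hL, ← MonoidHom.range_eq_map, Subgroup.range_subtype]
  have h2 : (⟨y, hy⟩ : ↥L) ∈ commutator ↥L :=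
    mem_commutator_of_pResidual_eq_top h1 (k := k) (Subtype.ext (by simpa using hyk))
  have e : (commutator ↥L).map L.subtype = ⁅L, L⁆ := by
    rw [commutator_def, Subgroup.map_commutator, ← MonoidHom.range_eq_map, Subgroup.range_subtype]
  rw [← e]
  exact ⟨⟨y, hy⟩, h2, rfl⟩

/-- `O^p(T)` is perfect when `T` is generated by a family of `p`-subgroups each normalised by
a subgroup `D` with `O^p(T) = O^p(T)' D`. -/
theorem pResidual_perfect_of_gen {T : Type*} [Group T] [Finite T] [Fact p.Prime]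
    (𝒬 : Set (Subgroup T)) (hp : ∀ R ∈ 𝒬, IsPGroup p R)
    (hgen : ∀ N : Subgroup T, (∀ R ∈ 𝒬, R ≤ N) → N = ⊤)
    (D : Subgroup T) (hD : ∀ R ∈ 𝒬, D ≤ Subgroup.normalizer (R : Set T))
    (hL : pResidual p T ≤ ⁅pResidual p T, pResidual p T⁆ ⊔ D) :
    pResidual p T ≤ ⁅pResidual p T, pResidual p T⁆ := by
  obtain ⟨L, hLdef⟩ : ∃ L : Subgroup T, L = pResidual p T := ⟨_, rfl⟩
  rw [← hLdef] at hL ⊢
  have hLn : L.Normal := by rw [hLdef]; infer_instance
  have hL'n : (⁅L, L⁆).Normal := inferInstance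
  have hL'L : ⁅L, L⁆ ≤ L := Subgroup.commutator_le_left L L
  have hLL : pResOf p L = L := by rw [hLdef, ← pResOf_top, pResOf_idem]
  have hAB : ∀ y ∈ L, ∀ k : ℕ, y ^ p ^ k = 1 → y ∈ ⁅L, L⁆ :=
    fun y hy k hyk => mem_commutator_of_pResOf_eq hLL hy hyk
  have hb : ∀ R ∈ 𝒬, ∀ d ∈ L, d ∈ D → ∀ r ∈ R, d * r * d⁻¹ * r⁻¹ ∈ ⁅L, L⁆ := by
    intro R hR d hdL hdD r hr
    have h1 : d * r * d⁻¹ * r⁻¹ ∈ L := by
      have : d * r * d⁻¹ * r⁻¹ = d * (r * d⁻¹ * r⁻¹) := by group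
      rw [this]
      exact L.mul_mem hdL (hLn.conj_mem _ (L.inv_mem hdL) r)
    have h2 : d * r * d⁻¹ * r⁻¹ ∈ R :=
      R.mul_mem ((Subgroup.mem_normalizer_iff.mp (hD R hR hdD) r).mp hr) (R.inv_mem hr)
    obtain ⟨k, hk⟩ := hp R hR ⟨_, h2⟩
    exact hAB _ h1 k (by simpa using congrArg Subtype.val hk)
  have hc : ∀ R ∈ 𝒬, ∀ l ∈ L, ∀ r ∈ R, l * r * l⁻¹ * r⁻¹ ∈ ⁅L, L⁆ := by
    intro R hR l hl r hr
    have h1 : l ∈ ((⁅L, L⁆ ⊔ D : Subgroup T) : Set T) := hL hl
    rw [Subgroup.normal_mul] at h1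
    obtain ⟨l', hl', d, hd, rfl⟩ := Set.mem_mul.mp h1
    have hdL : d ∈ L := by
      have : d = l'⁻¹ * (l' * d) := by group
      rw [this]
      exact L.mul_mem (L.inv_mem (hL'L hl')) hl
    have e : l' * d * r * (l' * d)⁻¹ * r⁻¹ = l' * (d * r * d⁻¹ * r⁻¹) * (r * l'⁻¹ * r⁻¹) := by
      group
    rw [e]
    exact Subgroup.mul_mem _ (Subgroup.mul_mem _ hl' (hb R hR d hdL hd r hr))
      (hL'n.conj_mem _ (Subgroup.inv_mem _ hl') r)
  have hcen : L.map (QuotientGroup.mk' ⁅L, L⁆) ≤ Subgroup.center (T ⧸ ⁅L, L⁆) := by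
    have hN := hgen ((Subgroup.centralizer ((L.map (QuotientGroup.mk' ⁅L, L⁆) :
      Subgroup (T ⧸ ⁅L, L⁆)) : Set (T ⧸ ⁅L, L⁆))).comap (QuotientGroup.mk' ⁅L, L⁆)) (by
      intro R hR r hr
      rw [Subgroup.mem_comap, Subgroup.mem_centralizer_iff]
      rintro _ ⟨l, hl, rfl⟩
      rw [← map_mul, ← map_mul]
      show (QuotientGroup.mk (l * r) : T ⧸ ⁅L, L⁆) = QuotientGroup.mk (r * l)
      rw [QuotientGroup.eq]
      have h := hc R hR l⁻¹ (L.inv_mem hl) r hr
      have e : (l * r)⁻¹ * (r * l) = r⁻¹ * (l⁻¹ * r * l⁻¹⁻¹ * r⁻¹) * r⁻¹⁻¹ := by group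
      rw [e]
      exact hL'n.conj_mem _ h _)
    intro x hx
    rw [Subgroup.mem_center_iff]
    intro y
    obtain ⟨t, rfl⟩ := QuotientGroup.mk'_surjective _ y
    have ht : t ∈ (Subgroup.centralizer ((L.map (QuotientGroup.mk' ⁅L, L⁆) :
        Subgroup (T ⧸ ⁅L, L⁆)) : Set (T ⧸ ⁅L, L⁆))).comap (QuotientGroup.mk' ⁅L, L⁆) := by
      rw [hN]; exact Subgroup.mem_top t
    exact (Subgroup.mem_centralizer_iff.mp (Subgroup.mem_comap.mp ht) x hx).symm
  have hPQ : IsPGroup p (T ⧸ L) := isPGroup_quotient_of_pResidual_le L hLdef.ge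
  have hnQ : Group.IsNilpotent (T ⧸ L) := hPQ.isNilpotent
  have hnil : Group.IsNilpotent (T ⧸ ⁅L, L⁆) := by
    refine Subgroup.isNilpotent_of_ker_le_center (QuotientGroup.map ⁅L, L⁆ L (MonoidHom.id T) (by
      intro x hx; exact hL'L hx)) ?_
    intro x hx
    obtain ⟨t, rfl⟩ := QuotientGroup.mk'_surjective _ x
    apply hcen
    rw [MonoidHom.mem_ker] at hx
    have : (QuotientGroup.mk t : T ⧸ L) = 1 := hx
    rw [QuotientGroup.eq_one_iff] at this
    exact Subgroup.mem_map_of_mem _ this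
  have P : Sylow p (T ⧸ ⁅L, L⁆) := default
  have hPn : (P : Subgroup (T ⧸ ⁅L, L⁆)).Normal := by
    have h0 := ((Group.isNilpotent_of_finite_tfae (G := T ⧸ ⁅L, L⁆)).out 0 3).mp hnil
    exact h0 p inferInstance P
  have hall : ∀ t : T, QuotientGroup.mk' ⁅L, L⁆ t ∈ (P : Subgroup (T ⧸ ⁅L, L⁆)) := by
    have h1 := hgen ((P : Subgroup (T ⧸ ⁅L, L⁆)).comap (QuotientGroup.mk' ⁅L, L⁆)) (by
      intro R hR
      rw [← Subgroup.map_le_iff_le_comap]
      obtain ⟨P', hP'⟩ := ((hp R hR).map (QuotientGroup.mk' ⁅L, L⁆)).exists_le_sylow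
      obtain ⟨g, hg⟩ := MulAction.exists_smul_eq (T ⧸ ⁅L, L⁆) P P'
      rw [Sylow.smul_eq_of_normal] at hg
      rw [hg]; exact hP')
    intro t
    have : t ∈ (P : Subgroup (T ⧸ ⁅L, L⁆)).comap (QuotientGroup.mk' ⁅L, L⁆) := by
      rw [h1]; exact Subgroup.mem_top t
    exact this
  have hfin : pResOf p (⊤ : Subgroup T) ≤ ⁅L, L⁆ := by
    apply pResOf_le_of_forall_pow_mem
    intro t _
    obtain ⟨k, hk⟩ := P.isPGroup' ⟨_, hall t⟩
    refine ⟨k, ?_⟩
    have h2 : (QuotientGroup.mk' ⁅L, L⁆ t) ^ p ^ k = 1 := by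
      simpa using congrArg Subtype.val hk
    rw [← map_pow, QuotientGroup.mk'_apply, QuotientGroup.eq_one_iff] at h2
    exact h2
  rwa [pResOf_top, ← hLdef] at hfin

/-- If `X / D` is quasisimple, `X` is perfect, `O ≤ D` and `[D, X] ≤ O`, then `X / O` is
quasisimple. -/
theorem qs_quotient_of_central {X : Type*} [Group X] (D O : Subgroup X) [D.Normal] [O.Normal]
    (hOD : O ≤ D) (hDO : ∀ d ∈ D, ∀ x : X, d * x * d⁻¹ * x⁻¹ ∈ O) (hperf : commutator X = ⊤)
    (hq : IsQuasisimple (X ⧸ D)) : IsQuasisimple (X ⧸ O) := by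
  have : Group.IsPerfect X := ⟨hperf⟩
  have hperfO : commutator (X ⧸ O) = ⊤ :=
    (Group.IsPerfect.ofSurjective (f := QuotientGroup.mk' O)
      (QuotientGroup.mk'_surjective O)).commutator_eq_top
  have hntD : Nontrivial (X ⧸ D) := Cfsg.Agent.Lib.Helper11.qs_nontrivial hq
  have hDtop : D ≠ ⊤ := QuotientGroup.nontrivial_iff.mp hntD
  have hOtop : O ≠ ⊤ := fun h => hDtop (top_le_iff.mp (h ▸ hOD))
  have hntO : Nontrivial (X ⧸ O) := QuotientGroup.nontrivial_iff.mpr hOtop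
  apply Cfsg.Agent.Lib.Helper11.qs_of_normal_central hperfO hntO
  intro N' hN' hne
  obtain ⟨N, hNdef⟩ : ∃ N : Subgroup X, N = N'.comap (QuotientGroup.mk' O) := ⟨_, rfl⟩
  have hNn : N.Normal := by rw [hNdef]; exact hN'.comap _
  have hON : O ≤ N := by
    rw [hNdef]; intro o ho
    rw [Subgroup.mem_comap, QuotientGroup.mk'_apply, (QuotientGroup.eq_one_iff o).mpr ho]
    exact N'.one_mem
  have hNtop : N ≠ ⊤ := by
    intro h
    apply hne
    rw [eq_top_iff]
    intro y _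
    obtain ⟨x, rfl⟩ := QuotientGroup.mk'_surjective O y
    have : x ∈ N := by rw [h]; exact Subgroup.mem_top x
    rw [hNdef] at this
    exact this
  have hmapn : (N.map (QuotientGroup.mk' D)).Normal := hNn.map _ (QuotientGroup.mk'_surjective D)
  by_cases hcase : N.map (QuotientGroup.mk' D) = ⊤
  · exfalso
    apply hNtop
    have hdec : ∀ x : X, ∃ n ∈ N, ∃ d ∈ D, x = n * d := by
      intro x
      have hx : QuotientGroup.mk' D x ∈ N.map (QuotientGroup.mk' D) := by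
        rw [hcase]; exact Subgroup.mem_top _
      obtain ⟨n, hn, hnx⟩ := hx
      refine ⟨n, hn, n⁻¹ * x, ?_, by group⟩
      exact QuotientGroup.eq.mp hnx
    have hcomm : commutator X ≤ N := by
      rw [commutator_def, Subgroup.commutator_le]
      intro a _ b _
      obtain ⟨n, hn, d, hd, rfl⟩ := hdec a
      have e : ⁅n * d, b⁆ = n * (d * b * d⁻¹ * b⁻¹) * (b * n⁻¹ * b⁻¹) := by
        rw [commutatorElement_def]; group
      rw [e]
      exact N.mul_mem (N.mul_mem hn (hON (hDO d hd b))) (hNn.conj_mem _ (N.inv_mem hn) b)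
    rw [hperf] at hcomm
    exact top_le_iff.mp hcomm
  · have hcen := Cfsg.Agent.Lib.Helper11.qs_normal_le_center hq _ hmapn hcase
    have h1 : ∀ n ∈ N, ∀ x : X, n * x * n⁻¹ * x⁻¹ ∈ D := by
      intro n hn x
      have h2 := Subgroup.mem_center_iff.mp (hcen (Subgroup.mem_map_of_mem _ hn))
        (QuotientGroup.mk' D x)
      rw [← map_mul, ← map_mul] at h2
      have h3 : (x * n)⁻¹ * (n * x) ∈ D := QuotientGroup.eq.mp h2
      have e : n * x * n⁻¹ * x⁻¹ = (x * n) * ((x * n)⁻¹ * (n * x)) * (x * n)⁻¹ := by group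
      rw [e]
      exact (inferInstance : D.Normal).conj_mem _ h3 _
    have h2 : ⁅⁅N', (⊤ : Subgroup (X ⧸ O))⁆, (⊤ : Subgroup (X ⧸ O))⁆ = ⊥ := by
      rw [Subgroup.commutator_eq_bot_iff_le_centralizer, Subgroup.commutator_le]
      intro a ha b _
      obtain ⟨n, rfl⟩ := QuotientGroup.mk'_surjective O a
      obtain ⟨x, rfl⟩ := QuotientGroup.mk'_surjective O b
      have hn : n ∈ N := by rw [hNdef]; exact ha
      rw [Subgroup.mem_centralizer_iff]
      intro c _
      obtain ⟨y, rfl⟩ := QuotientGroup.mk'_surjective O c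
      rw [← map_commutatorElement, ← map_mul, ← map_mul]
      show (QuotientGroup.mk (y * ⁅n, x⁆) : X ⧸ O) = QuotientGroup.mk (⁅n, x⁆ * y)
      rw [QuotientGroup.eq]
      have hd : ⁅n, x⁆ ∈ D := by rw [commutatorElement_def]; exact h1 n hn x
      have h3 := hDO _ (D.inv_mem hd) y⁻¹
      have e : (y * ⁅n, x⁆)⁻¹ * (⁅n, x⁆ * y) = ⁅n, x⁆⁻¹ * y⁻¹ * ⁅n, x⁆⁻¹⁻¹ * y⁻¹⁻¹ := by group
      rw [e]; exact h3
    have h3 : ⁅⁅(⊤ : Subgroup (X ⧸ O)), N'⁆, (⊤ : Subgroup (X ⧸ O))⁆ = ⊥ := by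
      rw [Subgroup.commutator_comm ⊤ N']; exact h2
    have h4 : ⁅⁅(⊤ : Subgroup (X ⧸ O)), (⊤ : Subgroup (X ⧸ O))⁆, N'⁆ = ⊥ :=
      Subgroup.commutator_commutator_eq_bot_of_rotate h3 h2
    rw [← commutator_def, hperfO] at h4
    rw [Subgroup.commutator_comm, Subgroup.commutator_eq_bot_iff_le_centralizer] at h4
    intro a ha
    rw [Subgroup.mem_center_iff]
    intro g
    exact Subgroup.mem_centralizer_iff.mp (h4 ha) g (Subgroup.mem_top g)

/-- `(n o)^m (o^m)⁻¹ ∈ N` when `o` normalises `N` and `n ∈ N`. -/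
theorem mul_pow_mul_inv_mem {N : Subgroup H} {n o : H} (hn : n ∈ N)
    (ho : o ∈ Subgroup.normalizer (N : Set H)) (m : ℕ) : (n * o) ^ m * (o ^ m)⁻¹ ∈ N := by
  induction m with
  | zero => simp
  | succ m ih =>
    have hom : o ^ m ∈ Subgroup.normalizer (N : Set H) := Subgroup.pow_mem _ ho m
    have e : (n * o) ^ (m + 1) * (o ^ (m + 1))⁻¹ =
        ((n * o) ^ m * (o ^ m)⁻¹) * (o ^ m * n * (o ^ m)⁻¹) := by
      rw [pow_succ, pow_succ]; group
    rw [e]
    exact N.mul_mem ih ((Subgroup.mem_normalizer_iff.mp hom n).mp hn)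

end QSAbstract

section ImQ

variable {G : Type*} [Group G] {p : ℕ} {E CU : Subgroup G} [hn : (CU.subgroupOf E).Normal]

/-- image of a subgroup of `G` in `E / (CU ∩ E)` -/
def imQ (E CU : Subgroup G) [hn : (CU.subgroupOf E).Normal] (X : Subgroup G) :
    Subgroup (↥E ⧸ CU.subgroupOf E) :=
  (X.subgroupOf E).map (QuotientGroup.mk' (CU.subgroupOf E))

theorem mem_imQ {X : Subgroup G} {z : ↥E ⧸ CU.subgroupOf E} (hz : z ∈ imQ E CU X) :
    ∃ x ∈ X, ∃ hx : x ∈ E, z = QuotientGroup.mk' (CU.subgroupOf E) ⟨x, hx⟩ := by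
  obtain ⟨y, hy, rfl⟩ := hz
  exact ⟨y.1, Subgroup.mem_subgroupOf.mp hy, y.2, rfl⟩

theorem imQ_mem {X : Subgroup G} (y : ↥E) (hy : (y : G) ∈ X) :
    QuotientGroup.mk' (CU.subgroupOf E) y ∈ imQ E CU X :=
  Subgroup.mem_map_of_mem _ (Subgroup.mem_subgroupOf.mpr hy)

theorem imQ_mono {X Y : Subgroup G} (h : X ≤ Y) : imQ E CU X ≤ imQ E CU Y := by
  intro z hz
  obtain ⟨x, hx, hxE, rfl⟩ := mem_imQ hz
  exact imQ_mem _ (h hx)

theorem imQ_commutator {X Y : Subgroup G} (hX : X ≤ E) (hY : Y ≤ E) :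
    imQ E CU ⁅X, Y⁆ = ⁅imQ E CU X, imQ E CU Y⁆ := by
  unfold imQ
  rw [← Subgroup.map_commutator]
  congr 1
  apply Subgroup.map_injective (Subgroup.subtype_injective E)
  rw [Subgroup.map_commutator, Subgroup.map_subgroupOf_eq_of_le hX,
    Subgroup.map_subgroupOf_eq_of_le hY,
    Subgroup.map_subgroupOf_eq_of_le ((Subgroup.commutator_mono hX hY).trans
      (commutator_le_of_le_normalizer Subgroup.le_normalizer))]

theorem imQ_normal {X : Subgroup G} (h : E ≤ Subgroup.normalizer (X : Set G)) :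
    (imQ E CU X).Normal :=
  (Subgroup.normal_subgroupOf_of_le_normalizer h).map _ (QuotientGroup.mk'_surjective _)

theorem imQ_isPGroup {X : Subgroup G} (h : IsPGroup p X) : IsPGroup p (imQ E CU X) :=
  (h.comap_subtype).map _

theorem imQ_eq_bot {X : Subgroup G} (hX : X ≤ E) (h : imQ E CU X = ⊥) : X ≤ CU := by
  intro x hx
  have h1 := imQ_mem (E := E) (CU := CU) (X := X) ⟨x, hX hx⟩ hx
  rw [h, Subgroup.mem_bot, QuotientGroup.mk'_apply, QuotientGroup.eq_one_iff] at h1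
  exact Subgroup.mem_subgroupOf.mp h1

theorem imQ_elt {X Y : Subgroup G} (hX : X ≤ E) (h : imQ E CU X ≤ imQ E CU Y) :
    ∀ x ∈ X, ∃ y ∈ Y, ∃ c ∈ E ⊓ CU, x = y * c := by
  intro x hx
  have h1 := h (imQ_mem (E := E) (CU := CU) (X := X) ⟨x, hX hx⟩ hx)
  obtain ⟨y, hy, e⟩ := h1
  have h2 : y⁻¹ * ⟨x, hX hx⟩ ∈ CU.subgroupOf E := QuotientGroup.eq.mp e
  exact ⟨y.1, Subgroup.mem_subgroupOf.mp hy, y.1⁻¹ * x,
    ⟨E.mul_mem (E.inv_mem y.2) (hX hx), Subgroup.mem_subgroupOf.mp h2⟩, by group⟩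

theorem imQ_pResOf [Finite G] [Fact p.Prime] :
    imQ E CU (pResOf p E) = pResidual p (↥E ⧸ CU.subgroupOf E) := by
  unfold imQ
  have h : (pResOf p E).subgroupOf E = pResidual p ↥E := by
    rw [← map_pResidual_subtype]
    exact Subgroup.comap_map_eq_self_of_injective (Subgroup.subtype_injective E) _
  rw [h, map_pResidual_mk]

end ImQ

section Main

variable {G : Type*} [Group G] {p : ℕ}

/-- The structure of `L = O^p(⟨Q^G ∩ E⟩)` when `O^p(E) CU / CU` is quasisimple, `O_p(E/CU) = 1`,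
`CU` normalises every conjugate of the `p`-group `Q` inside `E`, and `Q ≰ CU`. -/
theorem large_qs_main [Finite G] [Fact p.Prime] (Q E CU : Subgroup G)
    (hQp : IsPGroup p ↥Q) (hQE : Q ≤ E) (hECU : E ≤ Subgroup.normalizer (CU : Set G))
    (hCN : ∀ g : G, Q.map (MulAut.conj g).toMonoidHom ≤ E →
      CU ≤ Subgroup.normalizer ((Q.map (MulAut.conj g).toMonoidHom : Subgroup G) : Set G))
    (hQC : ¬ Q ≤ CU)
    [hn : (CU.subgroupOf E).Normal] (hred : pCore p (↥E ⧸ CU.subgroupOf E) = ⊥)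
    (hqs : IsQuasisimple ↥(pResidual p (↥E ⧸ CU.subgroupOf E)))
    (L : Subgroup G) (hL : L = pResOf p (weakClosure Q E)) [hn2 : (CU.subgroupOf L).Normal] :
    pResOf p E ⊔ (E ⊓ CU) = L ⊔ (E ⊓ CU) ∧ ⁅L, L⁆ = L ∧ pResOf p L = L ∧
    IsQuasisimple (↥L ⧸ CU.subgroupOf L) ∧ IsQuasisimple (↥L ⧸ pCore p ↥L) ∧
    ∀ Y : Subgroup G, Y ≤ E → IsPGroup p ↥Y → ¬ Y ≤ CU → ⁅L, Y⁆ = L := by
  obtain ⟨W, hW⟩ : ∃ W : Subgroup G, W = weakClosure Q E := ⟨_, rfl⟩
  rw [← hW] at hL
  have hWE : W ≤ E := hW ▸ weakClosure_le_self Q E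
  have hEW : E ≤ Subgroup.normalizer (W : Set G) := hW ▸ le_normalizer_weakClosure Q E
  have hQW : Q ≤ W := hW ▸ le_weakClosure hQE
  have hLW : L ≤ W := hL ▸ pResOf_le p W
  have hLE : L ≤ E := hLW.trans hWE
  have hEL : E ≤ Subgroup.normalizer (L : Set G) :=
    hL ▸ hEW.trans (normalizer_le_normalizer_pResOf p W)
  have hLL : pResOf p L = L := by rw [hL, pResOf_idem]
  have hLK : L ≤ pResOf p E := hL ▸ pResOf_mono p hWE
  have hL'L : ⁅L, L⁆ ≤ L := commutator_le_of_le_normalizer Subgroup.le_normalizer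
  obtain ⟨Kb, hKb⟩ : ∃ Kb : Subgroup (↥E ⧸ CU.subgroupOf E),
      Kb = pResidual p (↥E ⧸ CU.subgroupOf E) := ⟨_, rfl⟩
  rw [← hKb] at hqs
  have hKn : Kb.Normal := by rw [hKb]; infer_instance
  have hS1 : ∀ Y : Subgroup (↥E ⧸ CU.subgroupOf E), IsPGroup p Y → Y ≠ ⊥ → ⁅Kb, Y⁆ = Kb :=
    fun Y hY hY1 => qs_commutator_eq hred hKn hqs hKb.ge hY hY1
  have hKperf : ⁅Kb, Kb⁆ = Kb := Subgroup.isPerfect_iff.mp hqs.1
  have himK : imQ E CU (pResOf p E) = Kb := by rw [hKb]; exact imQ_pResOf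
  -- step 2
  have h2 : Kb ≤ imQ E CU W := by
    have hQbp : IsPGroup p (imQ E CU Q) := imQ_isPGroup hQp
    have hQb1 : imQ E CU Q ≠ ⊥ := fun h => hQC (imQ_eq_bot hQE h)
    have hWn : (imQ E CU W).Normal := imQ_normal hEW
    rw [← hS1 _ hQbp hQb1]
    exact (Subgroup.commutator_mono le_top (imQ_mono hQW)).trans (Subgroup.commutator_le_right _ _)
  -- step 3
  have hLKb : imQ E CU L ≤ Kb := by rw [← himK]; exact imQ_mono hLK
  have h3 : Kb ≤ imQ E CU L := by
    apply le_of_perfect_of_forall_pow_mem (p := p) hKperf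
    · have hLn : (imQ E CU L).Normal := imQ_normal hEL
      exact le_top.trans (Subgroup.normalizer_eq_top_iff.mpr hLn).ge
    · intro x hx
      obtain ⟨w, hw, hwE, rfl⟩ := mem_imQ (h2 hx)
      obtain ⟨n, hn'⟩ := exists_pow_mem_pResOf (p := p) hw (isOfFinOrder_of_finite w)
      refine ⟨n, ?_⟩
      rw [← map_pow]
      apply imQ_mem
      rw [hL]
      exact hn'
  have h3' : imQ E CU L = Kb := le_antisymm hLKb h3
  -- (1)
  have c1 : pResOf p E ⊔ (E ⊓ CU) = L ⊔ (E ⊓ CU) := by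
    apply le_antisymm
    · apply sup_le _ le_sup_right
      intro x hx
      obtain ⟨y, hy, c, hc, rfl⟩ := imQ_elt (pResOf_le p E) (himK.le.trans h3) x hx
      exact Subgroup.mul_mem _ (Subgroup.mem_sup_left hy) (Subgroup.mem_sup_right hc)
    · exact sup_le_sup_right hLK _
  -- (2)
  have hLperf1 : ∀ l ∈ L, ∃ l' ∈ ⁅L, L⁆, ∃ c ∈ E ⊓ CU, l = l' * c := by
    have h : imQ E CU L ≤ imQ E CU ⁅L, L⁆ := by
      rw [imQ_commutator hLE hLE, h3', hKperf]
    exact imQ_elt hLE h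
  have emap : (⁅pResidual p ↥W, pResidual p ↥W⁆).map W.subtype = ⁅L, L⁆ := by
    rw [Subgroup.map_commutator, map_pResidual_subtype, ← hL]
  have c2 : ⁅L, L⁆ = L := by
    apply le_antisymm hL'L
    have key := pResidual_perfect_of_gen (p := p) (T := ↥W)
      {R' | ∃ g : G, Q.map (MulAut.conj g).toMonoidHom ≤ E ∧
        R' = (Q.map (MulAut.conj g).toMonoidHom).subgroupOf W}
      ?_ ?_ (CU.subgroupOf W) ?_ ?_
    · intro l hl
      have hl' : l ∈ (pResidual p ↥W).map W.subtype := by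
        rw [map_pResidual_subtype, ← hL]; exact hl
      obtain ⟨x, hx, rfl⟩ := hl'
      rw [← emap]
      exact Subgroup.mem_map_of_mem _ (key hx)
    · rintro R' ⟨g, hg, rfl⟩
      exact (isPGroup_map_conj hQp g).comap_subtype
    · intro N hN
      rw [eq_top_iff]
      have h1 : W ≤ N.map W.subtype := by
        have h0 : weakClosure Q E ≤ N.map W.subtype := by
          apply weakClosure_le
          intro g hg x hx
          have hxW : x ∈ W := hW ▸ conj_le_weakClosure hg hx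
          have h := hN _ ⟨g, hg, rfl⟩ (show (⟨x, hxW⟩ : ↥W) ∈
            (Q.map (MulAut.conj g).toMonoidHom).subgroupOf W from Subgroup.mem_subgroupOf.mpr hx)
          exact ⟨⟨x, hxW⟩, h, rfl⟩
        exact hW.le.trans h0
      intro x _
      obtain ⟨y, hy, hyx⟩ := h1 x.2
      have e : y = x := Subtype.ext hyx
      rwa [e] at hy
    · rintro R' ⟨g, hg, rfl⟩ d hd
      have hdN := hCN g hg (Subgroup.mem_subgroupOf.mp hd)
      rw [Subgroup.mem_normalizer_iff] at hdN ⊢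
      intro x
      rw [Subgroup.mem_subgroupOf, Subgroup.mem_subgroupOf]
      exact hdN x.1
    · intro x hx
      have hxL : (x : G) ∈ L := by
        rw [hL, ← map_pResidual_subtype]; exact Subgroup.mem_map_of_mem _ hx
      obtain ⟨l', hl', c, hc, e⟩ := hLperf1 _ hxL
      have hl'W : l' ∈ W := hLW (hL'L hl')
      have hcW : c ∈ W := by
        have e2 : c = l'⁻¹ * (x : G) := by rw [e]; group
        rw [e2]; exact W.mul_mem (W.inv_mem hl'W) x.2
      have e3 : x = ⟨l', hl'W⟩ * ⟨c, hcW⟩ := Subtype.ext e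
      rw [e3]
      apply Subgroup.mul_mem
      · apply Subgroup.mem_sup_left
        have h4 : l' ∈ (⁅pResidual p ↥W, pResidual p ↥W⁆).map W.subtype := by
          rw [emap]; exact hl'
        obtain ⟨z, hz, hzl⟩ := h4
        have e4 : z = ⟨l', hl'W⟩ := Subtype.ext hzl
        rwa [e4] at hz
      · apply Subgroup.mem_sup_right
        exact Subgroup.mem_subgroupOf.mpr hc.2
  -- (4)
  have c4 : IsQuasisimple (↥L ⧸ CU.subgroupOf L) := by
    obtain ⟨f, hf⟩ : ∃ f : ↥L →* (↥E ⧸ CU.subgroupOf E),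
        f = (QuotientGroup.mk' (CU.subgroupOf E)).comp (Subgroup.inclusion hLE) := ⟨_, rfl⟩
    have hker : f.ker = CU.subgroupOf L := by
      ext x
      rw [MonoidHom.mem_ker, Subgroup.mem_subgroupOf, hf]
      show (QuotientGroup.mk (Subgroup.inclusion hLE x) : ↥E ⧸ CU.subgroupOf E) = 1 ↔ _
      rw [QuotientGroup.eq_one_iff, Subgroup.mem_subgroupOf]
      rfl
    have hrange : f.range = Kb := by
      rw [← h3']
      ext z
      constructor
      · rintro ⟨x, rfl⟩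
        rw [hf]
        exact imQ_mem (Subgroup.inclusion hLE x) x.2
      · intro hz
        obtain ⟨l, hl, hlE, rfl⟩ := mem_imQ hz
        exact ⟨⟨l, hl⟩, by rw [hf]; rfl⟩
    have h1 : IsQuasisimple ↥f.range := by rw [hrange]; exact hqs
    have h4 : IsQuasisimple (↥L ⧸ f.ker) :=
      Cfsg.Agent.Lib.Helper11.qs_of_mulEquiv (QuotientGroup.quotientKerEquivRange f).symm h1
    have key : ∀ (D' : Subgroup ↥L) [D'.Normal], D' = f.ker → IsQuasisimple (↥L ⧸ D') := by
      intro D' _ hD'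
      subst hD'
      exact h4
    exact key _ hker.symm
  -- (5)
  have hEC₀ : E ≤ Subgroup.normalizer ((CU ⊓ L : Subgroup G) : Set G) :=
    (le_inf hECU hEL).trans (normalizer_inf_le _ _)
  obtain ⟨O₁, hO₁⟩ : ∃ O₁ : Subgroup G, O₁ = pCoreOf p (CU ⊓ L) := ⟨_, rfl⟩
  have hEO₁ : E ≤ Subgroup.normalizer (O₁ : Set G) :=
    hO₁ ▸ hEC₀.trans (normalizer_le_normalizer_pCoreOf p _)
  have hcw : ⁅CU ⊓ L, W⁆ ≤ O₁ := by
    rw [hW]; unfold weakClosure
    apply commutator_iSup_le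
    · intro g; exact g.2.trans hEO₁
    · intro g
      have h1 : ⁅CU ⊓ L, Q.map (MulAut.conj g.1).toMonoidHom⁆ ≤
          Q.map (MulAut.conj g.1).toMonoidHom :=
        commutator_le_of_le_normalizer (inf_le_left.trans (hCN g.1 g.2))
      have h4 : ⁅CU ⊓ L, Q.map (MulAut.conj g.1).toMonoidHom⁆ ≤ CU ⊓ L :=
        commutator_le_of_le_normalizer' (g.2.trans hEC₀)
      rw [hO₁]
      apply (le_inf h1 h4).trans
      apply le_pCoreOf inf_le_right
      · exact (le_inf (inf_le_left.trans (hCN g.1 g.2)) Subgroup.le_normalizer).trans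
          (normalizer_inf_le _ _)
      · exact (isPGroup_map_conj hQp g.1).to_le inf_le_left
  have hcl : ⁅CU ⊓ L, L⁆ ≤ pCoreOf p L := by
    refine (Subgroup.commutator_mono le_rfl hLW).trans (hcw.trans ?_)
    rw [hO₁]
    exact le_pCoreOf ((pCoreOf_le p _).trans inf_le_right) (hLE.trans (hO₁ ▸ hEO₁))
      (pCoreOf_isPGroup p _)
  have hOC : pCoreOf p L ≤ CU := by
    apply imQ_eq_bot (E := E) ((pCoreOf_le p L).trans hLE)
    have hn' : (imQ E CU (pCoreOf p L)).Normal :=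
      imQ_normal (hEL.trans (normalizer_le_normalizer_pCoreOf p L))
    have hp' : IsPGroup p (imQ E CU (pCoreOf p L)) := imQ_isPGroup (pCoreOf_isPGroup p L)
    have h := le_pCore hn' hp'
    rw [hred] at h
    exact le_bot_iff.mp h
  have c5 : IsQuasisimple (↥L ⧸ pCore p ↥L) := by
    apply qs_quotient_of_central (CU.subgroupOf L) (pCore p ↥L) _ _
      (Subgroup.isPerfect_iff.mpr c2).commutator_eq_top c4
    · intro x hx
      rw [Subgroup.mem_subgroupOf]
      apply hOC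
      exact ⟨x, hx, rfl⟩
    · intro d hd x
      have h1 : (d : G) * x * (d : G)⁻¹ * (x : G)⁻¹ ∈ pCoreOf p L := by
        apply hcl
        have h := Subgroup.commutator_mem_commutator (H₁ := CU ⊓ L) (H₂ := L)
          ⟨Subgroup.mem_subgroupOf.mp hd, d.2⟩ x.2
        rwa [commutatorElement_def] at h
      obtain ⟨o, ho, hoe⟩ := h1
      have e : o = d * x * d⁻¹ * x⁻¹ := Subtype.ext hoe
      rwa [e] at ho
  -- (6)
  have c6 : ∀ Y : Subgroup G, Y ≤ E → IsPGroup p ↥Y → ¬ Y ≤ CU → ⁅L, Y⁆ = L := by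
    intro Y hYE hYp hYC
    have hYL : Y ≤ Subgroup.normalizer (L : Set G) := hYE.trans hEL
    apply le_antisymm (commutator_le_of_le_normalizer' hYL)
    obtain ⟨N, hN⟩ : ∃ N : Subgroup G, N = ⁅L, Y⁆ := ⟨_, rfl⟩
    rw [← hN]
    have hNL : N ≤ L := hN ▸ commutator_le_of_le_normalizer' hYL
    have hLN : L ≤ Subgroup.normalizer (N : Set G) := hN ▸ le_normalizer_commutator_left L Y
    have him : imQ E CU L ≤ imQ E CU N := by
      rw [hN, imQ_commutator hLE hYE, h3']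
      exact (hS1 _ (imQ_isPGroup hYp) (fun h => hYC (imQ_eq_bot hYE h))).ge
    have hdec := imQ_elt hLE him
    obtain ⟨M, hM⟩ : ∃ M : Subgroup G, M = N ⊔ pCoreOf p L := ⟨_, rfl⟩
    have hLM : L ≤ Subgroup.normalizer (M : Set G) := by
      rw [hM]
      exact (le_inf hLN (le_normalizer_pCoreOf p L)).trans (normalizer_inf_le_normalizer_sup _ _)
    have hcomm : ⁅L, L⁆ ≤ M := by
      rw [Subgroup.commutator_le]
      intro a ha b hb
      obtain ⟨n, hn', c, hc, rfl⟩ := hdec a ha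
      have hcL : c ∈ L := by
        have e : c = n⁻¹ * (n * c) := by group
        rw [e]; exact L.mul_mem (L.inv_mem (hNL hn')) ha
      have e : ⁅n * c, b⁆ = n * (c * b * c⁻¹ * b⁻¹) * n⁻¹ * (n * (b * n⁻¹ * b⁻¹)) := by
        rw [commutatorElement_def]; group
      rw [e]
      apply M.mul_mem
      · have h1 : c * b * c⁻¹ * b⁻¹ ∈ M := by
          rw [hM]; apply Subgroup.mem_sup_right; apply hcl
          have h := Subgroup.commutator_mem_commutator (H₁ := CU ⊓ L) (H₂ := L) ⟨hc.2, hcL⟩ hb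
          rwa [commutatorElement_def] at h
        exact (Subgroup.mem_normalizer_iff.mp (hLM (hNL hn')) _).mp h1
      · rw [hM]; apply Subgroup.mem_sup_left
        exact N.mul_mem hn' ((Subgroup.mem_normalizer_iff.mp (hLN hb) _).mp (N.inv_mem hn'))
    rw [c2] at hcomm
    calc L = pResOf p L := hLL.symm
      _ ≤ N := by
        apply pResOf_le_of_forall_pow_mem
        intro l hl
        have hl' : l ∈ N ⊔ pCoreOf p L := hM ▸ hcomm hl
        obtain ⟨n, hn', o, ho, rfl⟩ :=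
          mem_sup_of_le_normalizer (hNL.trans (le_normalizer_pCoreOf p L)) hl'
        obtain ⟨k, hk⟩ := (pCoreOf_isPGroup p L) ⟨o, ho⟩
        refine ⟨k, ?_⟩
        have hoN : o ∈ Subgroup.normalizer (N : Set G) := hLN (pCoreOf_le p L ho)
        have h := mul_pow_mul_inv_mem hn' hoN (p ^ k)
        have ho1 : o ^ p ^ k = 1 := by simpa using congrArg Subtype.val hk
        rwa [ho1, inv_one, mul_one] at h
  exact ⟨c1, c2, hLL, c4, c5, c6⟩

end Main

end Cfsg.Agent.Lib.Helper18
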