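import Cfsg.Agent.Lib.Helper18.Basic
import Mathlib.GroupTheory.Transfer

set_option autoImplicit false

namespace Cfsg.Agent.Lib.Helper18

open scoped Classical in
/-- Transfer of a central involution `z` of a `2`-subgroup `H` of odd index into `{±1}`, when
`N_G(H)` centralises `z` and `ϕ z = -1`: the transfer of `z` is `-1`. -/
theorem transfer_central_involution {G : Type*} [Group G] [Finite G] (H : Subgroup G)
    (hH : IsPGroup 2 H) (hodd : ¬ 2 ∣ H.index) (ϕ : H →* ℤˣ) (z : G) (hzH : z ∈ H)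
    (hz2 : z * z = 1) (hzc : ∀ s ∈ H, s * z = z * s)
    (hN : ∀ n ∈ Subgroup.normalizer (H : Set G), n * z * n⁻¹ = z)
    (hϕz : ϕ ⟨z, hzH⟩ = -1) : MonoidHom.transfer ϕ z = -1 := by
  classical
  let _ : Fintype (G ⧸ H) := H.fintypeQuotientOfFiniteIndex
  let ψ : G → ℤˣ := fun g => if h : g ∈ H then ϕ ⟨g, h⟩ else 1
  have hψ : ∀ (g : G) (h : g ∈ H), ψ g = ϕ ⟨g, h⟩ := fun g h => dif_pos h
  have hψ' : ∀ g : G, g ∉ H → ψ g = 1 := fun g h => dif_neg h
  have hψ1 : ψ 1 = 1 := by
    rw [hψ 1 H.one_mem]; exact map_one ϕ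
  have hψmul : ∀ a b : G, a ∈ H → b ∈ H → ψ (a * b) = ψ a * ψ b := by
    intro a b ha hb
    rw [hψ _ (H.mul_mem ha hb), hψ a ha, hψ b hb, ← map_mul]; rfl
  have hzinv : z⁻¹ = z := inv_eq_of_mul_eq_one_left hz2
  let F' : G → ℤˣ := fun g => ψ (g⁻¹ * z * g)
  have hF'r : ∀ (g h : G), h ∈ H → F' (g * h) = F' g := by
    intro g h hh
    show ψ ((g * h)⁻¹ * z * (g * h)) = ψ (g⁻¹ * z * g)
    have e : (g * h)⁻¹ * z * (g * h) = h⁻¹ * (g⁻¹ * z * g) * h := by group
    rw [e]
    by_cases hx : g⁻¹ * z * g ∈ H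
    · rw [hψmul _ _ (H.mul_mem (H.inv_mem hh) hx) hh, hψmul _ _ (H.inv_mem hh) hx,
        mul_comm (ψ h⁻¹), mul_assoc, ← hψmul _ _ (H.inv_mem hh) hh, inv_mul_cancel, hψ1, mul_one]
    · rw [hψ' _ hx, hψ']
      intro hcon
      apply hx
      have e2 : g⁻¹ * z * g = h * (h⁻¹ * (g⁻¹ * z * g) * h) * h⁻¹ := by group
      rw [e2]; exact H.mul_mem (H.mul_mem hh hcon) (H.inv_mem hh)
  have hF'l : ∀ (s g : G), s ∈ H → F' (s * g) = F' g := by
    intro s g hs
    show ψ ((s * g)⁻¹ * z * (s * g)) = ψ (g⁻¹ * z * g)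
    have e : (s * g)⁻¹ * z * (s * g) = g⁻¹ * (s⁻¹ * (z * s)) * g := by group
    rw [e, ← hzc s hs]
    congr 1
    group
  let F : G ⧸ H → ℤˣ := fun q => F' q.out
  have hF : ∀ g : G, F (g : G ⧸ H) = F' g := by
    intro g
    obtain ⟨h, hh⟩ := QuotientGroup.mk_out_eq_mul H g
    show F' (Quotient.out (g : G ⧸ H)) = F' g
    rw [hh]; exact hF'r g h h.2
  -- the transversal of representatives `out`
  let T : H.LeftTransversal := ⟨Set.range (Quotient.out : G ⧸ H → G),
    Subgroup.isComplement_range_left (QuotientGroup.out_eq')⟩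
  have hT : ∀ q : G ⧸ H, (T.2.leftQuotientEquiv q : G) = q.out := fun q =>
    Subgroup.IsComplement.leftQuotientEquiv_apply (QuotientGroup.out_eq') q
  have hzT : ∀ q : G ⧸ H, ((z • T).2.leftQuotientEquiv q : G) = z * (z • q).out := by
    intro q
    rw [Subgroup.smul_apply_eq_smul_apply_inv_smul, hT, hzinv]; rfl
  let c : G ⧸ H → ℤˣ := fun q => ψ (q.out⁻¹ * (z * (z • q).out))
  have h1 : MonoidHom.transfer ϕ z = ∏ q : G ⧸ H, c q := by
    rw [MonoidHom.transfer_def ϕ T z]
    unfold Subgroup.leftTransversals.diff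
    refine Finset.prod_congr rfl (fun q _ => ?_)
    show ϕ ⟨_, _⟩ = ψ (q.out⁻¹ * (z * (z • q).out))
    rw [← hψ]
    congr 1
    rw [hT, hzT]
  have hσσ : ∀ q : G ⧸ H, z • (z • q) = q := by
    intro q; rw [← mul_smul, hz2, one_smul]
  have hmem : ∀ q : G ⧸ H, q.out⁻¹ * (z * (z • q).out) ∈ H := by
    intro q
    rw [← QuotientGroup.eq, QuotientGroup.out_eq']
    have : ((z * (z • q).out : G) : G ⧸ H) = z • (((z • q).out : G) : G ⧸ H) := rfl
    rw [this, QuotientGroup.out_eq', hσσ]
  have hpair : ∀ q : G ⧸ H, c q * c (z • q) = 1 := by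
    intro q
    show ψ (q.out⁻¹ * (z * (z • q).out)) * ψ ((z • q).out⁻¹ * (z * (z • (z • q)).out)) = 1
    have h2 := hmem (z • q)
    rw [hσσ] at h2 ⊢
    rw [← hψmul _ _ (hmem q) h2]
    have e : q.out⁻¹ * (z * (z • q).out) * ((z • q).out⁻¹ * (z * q.out)) =
        q.out⁻¹ * (z * z) * q.out := by group
    rw [e, hz2, mul_one, inv_mul_cancel, hψ1]
  have hcfix : ∀ q : G ⧸ H, z • q = q → c q = F q := by
    intro q hq
    show ψ (q.out⁻¹ * (z * (z • q).out)) = ψ (q.out⁻¹ * z * q.out)
    rw [hq, mul_assoc]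
  have hFnon : ∀ q : G ⧸ H, z • q ≠ q → F q = 1 := by
    intro q hq
    apply hψ'
    intro hcon
    apply hq
    have h2 : ((q.out : G) : G ⧸ H) = ((z * q.out : G) : G ⧸ H) := by
      rw [QuotientGroup.eq, ← mul_assoc]; exact hcon
    have h3 : ((z * q.out : G) : G ⧸ H) = z • ((q.out : G) : G ⧸ H) := rfl
    rw [h3, QuotientGroup.out_eq'] at h2
    exact h2.symm
  have h2 : ∏ q : G ⧸ H, c q = ∏ q : G ⧸ H, F q := by
    rw [← Finset.prod_filter_mul_prod_filter_not Finset.univ (fun q => z • q = q) c,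
      ← Finset.prod_filter_mul_prod_filter_not Finset.univ (fun q => z • q = q) F]
    congr 1
    · exact Finset.prod_congr rfl (fun q hq => hcfix q (Finset.mem_filter.mp hq).2)
    · rw [Finset.prod_eq_one (f := F) (fun q hq => hFnon q (Finset.mem_filter.mp hq).2)]
      apply Finset.prod_involution (fun q _ => z • q)
      · intro q _; exact hpair q
      · intro q hq _; exact (Finset.mem_filter.mp hq).2
      · intro q _; exact hσσ q
      · intro q hq
        rw [Finset.mem_filter]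
        refine ⟨Finset.mem_univ _, ?_⟩
        rw [hσσ]
        exact fun h => (Finset.mem_filter.mp hq).2 h.symm
  have h3 : ∏ q : G ⧸ H, F q = (-1) ^ (Finset.univ.filter (fun q => F q = -1)).card := by
    rw [← Finset.prod_filter_mul_prod_filter_not Finset.univ (fun q => F q = -1) F,
      Finset.prod_congr rfl (fun q hq => (Finset.mem_filter.mp hq).2), Finset.prod_const,
      Finset.prod_eq_one, mul_one]
    intro q hq
    exact (Int.units_eq_one_or (F q)).resolve_right (Finset.mem_filter.mp hq).2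
  have hodd' : Odd (Finset.univ.filter (fun q => F q = -1)).card := by
    have hFsmul : ∀ (s : H) (q : G ⧸ H), F (s • q) = F q := by
      intro s q
      induction q using QuotientGroup.induction_on with
      | H g =>
        have : (s • (g : G ⧸ H)) = (((s : G) * g : G) : G ⧸ H) := rfl
        rw [this, hF, hF, hF'l _ _ s.2]
    let Bsub : SubMulAction H (G ⧸ H) :=
      { carrier := {q | F q = -1}
        smul_mem' := fun s q hq => by
          show F (s • q) = -1
          rw [hFsmul]; exact hq }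
    have hfixB : ∀ q : G ⧸ H, q ∈ MulAction.fixedPoints H (G ⧸ H) → F q = -1 := by
      intro q hq
      induction q using QuotientGroup.induction_on with
      | H g =>
        rw [Sylow.mem_fixedPoints_mul_left_cosets_iff_mem_normalizer] at hq
        rw [hF]
        show ψ (g⁻¹ * z * g) = -1
        have := hN g⁻¹ (Subgroup.inv_mem _ hq)
        rw [inv_inv] at this
        rw [this, hψ z hzH, hϕz]
    let e : MulAction.fixedPoints H Bsub ≃ MulAction.fixedPoints H (G ⧸ H) :=
      { toFun := fun x => ⟨x.1.1, fun s => congrArg Subtype.val (x.2 s)⟩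
        invFun := fun x => ⟨⟨x.1, hfixB x.1 x.2⟩, fun s => Subtype.ext (x.2 s)⟩
        left_inv := fun x => rfl
        right_inv := fun x => rfl }
    have c1 := hH.card_modEq_card_fixedPoints Bsub
    have c2 := hH.card_modEq_card_fixedPoints (G ⧸ H)
    rw [Nat.card_congr e] at c1
    have c3 : Nat.card Bsub ≡ Nat.card (G ⧸ H) [MOD 2] := c1.trans c2.symm
    have c4 : Nat.card (G ⧸ H) % 2 = 1 := by
      have : H.index = Nat.card (G ⧸ H) := rfl
      rw [← this]; omega
    have c5 : Nat.card Bsub = (Finset.univ.filter (fun q => F q = -1)).card := by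
      have : Nat.card Bsub = Nat.card {q : G ⧸ H // F q = -1} := rfl
      rw [this, Nat.card_eq_fintype_card, Fintype.card_subtype]
    rw [Nat.odd_iff, ← c5]
    exact (show Nat.card Bsub % 2 = Nat.card (G ⧸ H) % 2 from c3).trans c4
  rw [h1, h2, h3, hodd'.neg_one_pow]

end Cfsg.Agent.Lib.Helper18
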