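import Cfsg.Agent.Lib.Helper18.Large3
import Cfsg.Agent.Lib.Helper18.WeakClosed
import Cfsg.Agent.Lib.Helper18.StrEmb

set_option autoImplicit false

namespace Cfsg.Agent.Lib.Helper18

open Cfsg
open scoped commutatorElement

section

variable {H : Type*} [Group H] {p : ℕ}

/-- Stability argument: if `X₀` and `Q` normalise the `p`-group `R`, `Q` normalises `X₀`,
`[R, Q]` is centralised by `X₀`, and `p'`-elements of `X₀` act faithfully on `R`, then
`[X₀, Q] ≤ O_p(X₀)`. -/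
theorem comm_mem_pCoreOf_of_stab [Finite H] [Fact p.Prime] {X₀ R Q : Subgroup H}
    (hR : IsPGroup p R) (hXR : X₀ ≤ Subgroup.normalizer (R : Set H))
    (hQR : Q ≤ Subgroup.normalizer (R : Set H)) (hQX : Q ≤ Subgroup.normalizer (X₀ : Set H))
    (hRQ : ⁅R, Q⁆ ≤ Subgroup.centralizer (X₀ : Set H))
    (hfaith : ∀ c ∈ X₀, (orderOf c).Coprime p → c ∈ Subgroup.centralizer (R : Set H) → c = 1) :
    ∀ x ∈ X₀, ∀ q ∈ Q, x * q * x⁻¹ * q⁻¹ ∈ pCoreOf p X₀ := by
  have hcomm : ∀ n ∈ R ⊓ Subgroup.centralizer (X₀ : Set H), ∀ x ∈ X₀, x * n = n * x :=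
    fun n hn x hx => Subgroup.mem_centralizer_iff.mp (Subgroup.mem_inf.mp hn).2 x hx
  have hconj : ∀ n ∈ R ⊓ Subgroup.centralizer (X₀ : Set H), ∀ x ∈ X₀, x * n * x⁻¹ = n := by
    intro n hn x hx
    rw [hcomm n hn x hx]; group
  let Y₂ : Subgroup H :=
    { carrier := {y | y ∈ X₀ ∧ ∀ r ∈ R, y * r * y⁻¹ * r⁻¹ ∈ R ⊓ Subgroup.centralizer (X₀ : Set H)}
      mul_mem' := by
        rintro y₁ y₂ ⟨h1, h1'⟩ ⟨h2, h2'⟩
        refine ⟨X₀.mul_mem h1 h2, fun r hr => ?_⟩
        have e : y₁ * y₂ * r * (y₁ * y₂)⁻¹ * r⁻¹ =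
            (y₁ * (y₂ * r * y₂⁻¹ * r⁻¹) * y₁⁻¹) * (y₁ * r * y₁⁻¹ * r⁻¹) := by group
        rw [e, hconj _ (h2' r hr) y₁ h1]
        exact Subgroup.mul_mem _ (h2' r hr) (h1' r hr)
      one_mem' := ⟨X₀.one_mem, fun r _ => by simp⟩
      inv_mem' := by
        rintro y ⟨h1, h1'⟩
        refine ⟨X₀.inv_mem h1, fun r hr => ?_⟩
        have hr' : y⁻¹ * r * y ∈ R := by
          have := (Subgroup.mem_normalizer_iff.mp (hXR (X₀.inv_mem h1)) r).mp hr
          simpa using this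
        have h2 := h1' _ hr'
        have e : y⁻¹ * r * y⁻¹⁻¹ * r⁻¹ = (y * (y⁻¹ * r * y) * y⁻¹ * (y⁻¹ * r * y)⁻¹)⁻¹ := by group
        rw [e]
        exact Subgroup.inv_mem _ h2 }
  have hY₂p : IsPGroup p Y₂ := by
    apply isPGroup_of_coprime_eq_one (fun c _ => isOfFinOrder_of_finite c)
    rintro y ⟨hy, hy'⟩ hcop
    apply hfaith y hy hcop
    rw [Subgroup.mem_centralizer_iff]
    apply commute_of_coprime_of_series hR hcop (hXR hy)
      (N := R ⊓ Subgroup.centralizer (X₀ : Set H))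
    · intro w hw
      have e : w * y * w⁻¹ * y⁻¹ = (y * w * y⁻¹ * w⁻¹)⁻¹ := by group
      rw [e]
      exact Subgroup.inv_mem _ (hy' w hw)
    · intro n hn
      exact (hcomm n hn y hy).symm
  have hY₂X : Y₂ ≤ X₀ := fun y hy => hy.1
  have hXY₂ : X₀ ≤ Subgroup.normalizer (Y₂ : Set H) := by
    apply le_normalizer_of_forall_map_conj_le
    rintro x hx _ ⟨y, ⟨hy, hy'⟩, rfl⟩
    refine ⟨X₀.mul_mem (X₀.mul_mem hx hy) (X₀.inv_mem hx), fun r hr => ?_⟩
    have hr' : x⁻¹ * r * x ∈ R := by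
      have := (Subgroup.mem_normalizer_iff.mp (hXR (X₀.inv_mem hx)) r).mp hr
      simpa using this
    have h2 := hy' _ hr'
    have e : (MulAut.conj x).toMonoidHom y * r * ((MulAut.conj x).toMonoidHom y)⁻¹ * r⁻¹ =
        x * (y * (x⁻¹ * r * x) * y⁻¹ * (x⁻¹ * r * x)⁻¹) * x⁻¹ := by
      simp only [MulEquiv.coe_toMonoidHom, MulAut.conj_apply]; group
    rw [e, hconj _ h2 x hx]
    exact h2
  have hY₂core : Y₂ ≤ pCoreOf p X₀ := le_pCoreOf hY₂X hXY₂ hY₂p
  intro x hx q hq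
  apply hY₂core
  have hqx : q * x⁻¹ * q⁻¹ ∈ X₀ :=
    (Subgroup.mem_normalizer_iff.mp (hQX hq) x⁻¹).mp (X₀.inv_mem hx)
  refine ⟨by
    have e : x * q * x⁻¹ * q⁻¹ = x * (q * x⁻¹ * q⁻¹) := by group
    rw [e]; exact X₀.mul_mem hx hqx, fun r hr => ?_⟩
  -- the elements of `N₀` involved
  have hN : ∀ q' ∈ Q, ∀ r' ∈ R, q' * r' * q'⁻¹ * r'⁻¹ ∈ R ⊓ Subgroup.centralizer (X₀ : Set H) := by
    intro q' hq' r' hr'
    have h1 : ⁅r', q'⁆ ∈ ⁅R, Q⁆ := Subgroup.commutator_mem_commutator hr' hq'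
    have h2 : ⁅r', q'⁆ ∈ R := commutator_le_of_le_normalizer' hQR h1
    have e : q' * r' * q'⁻¹ * r'⁻¹ = (⁅r', q'⁆)⁻¹ := by rw [commutatorElement_def]; group
    rw [e]
    exact Subgroup.inv_mem _ (Subgroup.mem_inf.mpr ⟨h2, hRQ h1⟩)
  have hr1 : x⁻¹ * r * x ∈ R := by
    have := (Subgroup.mem_normalizer_iff.mp (hXR (X₀.inv_mem hx)) r).mp hr
    simpa using this
  have ha : q⁻¹ * r * q * r⁻¹ ∈ R ⊓ Subgroup.centralizer (X₀ : Set H) := by
    have := hN q⁻¹ (Q.inv_mem hq) r hr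
    simpa using this
  have hn2 := hN q hq _ hr1
  have ha' : q * (q⁻¹ * r * q * r⁻¹) * q⁻¹ ∈ R ⊓ Subgroup.centralizer (X₀ : Set H) := by
    have hQN : Q ≤ Subgroup.normalizer ((R ⊓ Subgroup.centralizer (X₀ : Set H) : Subgroup H) : Set H) :=
      (le_inf hQR (hQX.trans (normalizer_le_normalizer_centralizer X₀))).trans
        (normalizer_inf_le _ _)
    exact (Subgroup.mem_normalizer_iff.mp (hQN hq) _).mp ha
  have e1 : x * q * x⁻¹ * q⁻¹ * r * (x * q * x⁻¹ * q⁻¹)⁻¹ * r⁻¹ =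
      x * q * (x⁻¹ * (q⁻¹ * r * q * r⁻¹) * x⁻¹⁻¹) * (x⁻¹ * r * x) * q⁻¹ * x⁻¹ * r⁻¹ := by group
  have e2 := hconj _ ha x⁻¹ (X₀.inv_mem hx)
  have e3 : x * q * (q⁻¹ * r * q * r⁻¹) * (x⁻¹ * r * x) * q⁻¹ * x⁻¹ * r⁻¹ =
      x * ((q * (q⁻¹ * r * q * r⁻¹) * q⁻¹) * (q * (x⁻¹ * r * x) * q⁻¹ * (x⁻¹ * r * x)⁻¹)) * x⁻¹ := by
    group
  rw [e1, e2, e3, hconj _ (Subgroup.mul_mem _ ha' hn2) x hx]
  exact Subgroup.mul_mem _ ha' hn2

/-- Relative version: inside a subgroup `K` of characteristic `p`, every subgroup containing a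
self-centralising weakly closed subgroup `Q` has characteristic `p`. -/
theorem charP_of_wcs [Finite H] [Fact p.Prime] {K Q X : Subgroup H}
    (hK : Cfsg.Agent.Lib.Helper18.CharP p K) (hwc : IsWeaklyClosedSubgroup p Q)
    (hCQ : Subgroup.centralizer (Q : Set H) ≤ Q) (hQX : Q ≤ X) (hXK : X ≤ K) :
    Cfsg.Agent.Lib.Helper18.CharP p X := by
  have hQp := wcs_isPGroup hwc
  have hKR : K ≤ Subgroup.normalizer (pCoreOf p K : Set H) := le_normalizer_pCoreOf p K
  have hXD : X ≤ Subgroup.normalizer (pCoreOf p X : Set H) := le_normalizer_pCoreOf p X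
  have hQR : Q ≤ Subgroup.normalizer (pCoreOf p K : Set H) := hQX.trans (hXK.trans hKR)
  have hRQ : pCoreOf p K ≤ Subgroup.normalizer (Q : Set H) :=
    le_sup_right.trans (wcs_le_normalizer_of_le hwc
      (IsPGroup.to_sup_of_normal_right' hQp (pCoreOf_isPGroup p K) hQR) le_sup_left)
  have hX₀N : X ≤ Subgroup.normalizer
      ((X ⊓ Subgroup.centralizer (pCoreOf p X : Set H) : Subgroup H) : Set H) :=
    le_normalizer_inf_centralizer_pCoreOf p X
  have hcomm : ⁅pCoreOf p K, Q⁆ ≤ Subgroup.centralizer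
      ((X ⊓ Subgroup.centralizer (pCoreOf p X : Set H) : Subgroup H) : Set H) := by
    have h1 : ⁅pCoreOf p K, Q⁆ ≤ pCoreOf p K ⊓ X :=
      le_inf (commutator_le_of_le_normalizer' hQR)
        ((commutator_le_of_le_normalizer hRQ).trans hQX)
    have h2 : pCoreOf p K ⊓ X ≤ pCoreOf p X := by
      refine le_pCoreOf inf_le_right ?_ ((pCoreOf_isPGroup p K).to_le inf_le_left)
      exact (le_inf (hXK.trans hKR) Subgroup.le_normalizer).trans (normalizer_inf_le _ _)
    refine (h1.trans h2).trans ?_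
    rw [Subgroup.le_centralizer_iff]
    exact inf_le_right
  have hstab := comm_mem_pCoreOf_of_stab (pCoreOf_isPGroup p K)
    (inf_le_left.trans (hXK.trans hKR)) hQR (hQX.trans hX₀N) hcomm (by
      intro c hc hcop hcR
      exact eq_one_of_mem_of_coprime (pCoreOf_isPGroup p K)
        (hK (Subgroup.mem_inf.mpr ⟨hXK (Subgroup.mem_inf.mp hc).1, hcR⟩)) hcop)
  have hQE : Q ≤ Subgroup.normalizer
      ((pCoreOf p (X ⊓ Subgroup.centralizer (pCoreOf p X : Set H)) : Subgroup H) : Set H) :=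
    (hQX.trans hX₀N).trans (normalizer_le_normalizer_pCoreOf p _)
  have hX₀Q : X ⊓ Subgroup.centralizer (pCoreOf p X : Set H) ≤ Subgroup.normalizer (Q : Set H) := by
    intro x hx
    apply mem_normalizer_of_map_conj_eq
    apply wcs_eq_of_le hwc (IsPGroup.to_sup_of_normal_right' hQp (pCoreOf_isPGroup p _) hQE)
      le_sup_left
    rintro _ ⟨q, hq, rfl⟩
    have e : (MulAut.conj x).toMonoidHom q = (x * q * x⁻¹ * q⁻¹) * q := by
      simp only [MulEquiv.coe_toMonoidHom, MulAut.conj_apply]; group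
    rw [e]
    exact Subgroup.mul_mem _ (Subgroup.mem_sup_right (hstab x hx q hq)) (Subgroup.mem_sup_left hq)
  have hQD : Q ⊓ Subgroup.centralizer (pCoreOf p X : Set H) ≤ pCoreOf p X := by
    refine le_trans ?_ (pCoreOf_inf_centralizer_le p X)
    refine le_pCoreOf (inf_le_inf_right _ hQX) ?_ (hQp.to_le inf_le_left)
    refine (le_inf hX₀Q ?_).trans (normalizer_inf_le _ _)
    exact inf_le_right.trans Subgroup.le_normalizer
  have hDQ : pCoreOf p X ≤ Subgroup.normalizer (Q : Set H) :=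
    le_sup_right.trans (wcs_le_normalizer_of_le hwc
      (IsPGroup.to_sup_of_normal_right' hQp (pCoreOf_isPGroup p X) (hQX.trans hXD)) le_sup_left)
  apply charP_of_coprime_eq_one
  intro c hc hcop
  have h1 : c ∈ Subgroup.centralizer (Q : Set H) := by
    apply centralizes_of_thompson (pCoreOf_isPGroup p X) hQp hcop (Subgroup.mem_inf.mp hc).2 hDQ
      (hX₀Q hc)
    intro x hx
    rw [Subgroup.mem_centralizer_iff]
    intro u hu
    rw [Set.mem_singleton_iff] at hu; subst hu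
    exact (Subgroup.mem_centralizer_iff.mp (Subgroup.mem_inf.mp hc).2 x (hQD hx)).symm
  exact eq_one_of_mem_of_coprime hQp (hCQ h1) hcop

/-- In a group of characteristic `p`, the centraliser of a `p`-element has characteristic `p`. -/
theorem charP_centralizer_singleton [Finite H] [Fact p.Prime]
    (hH : Subgroup.centralizer (pCore p H : Set H) ≤ pCore p H) {y : H}
    (hy : ∃ n : ℕ, y ^ (p ^ n) = 1) :
    Cfsg.Agent.Lib.Helper18.CharP p (Subgroup.centralizer ({y} : Set H)) := by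
  have hDn : ∀ K : Subgroup H, K ≤ Subgroup.normalizer (pCore p H : Set H) :=
    fun K => by rw [Subgroup.normalizer_eq_top_iff.mpr (pCore_normal p H)]; exact le_top
  have hyE : Subgroup.zpowers y ≤ pCoreOf p (Subgroup.centralizer ({y} : Set H)) := by
    refine le_pCoreOf ((Subgroup.zpowers_le).mpr (mem_centralizer_singleton_iff.mpr rfl)) ?_
      (isPGroup_zpowers hy)
    exact centralizer_singleton_le_normalizer_zpowers y
  have hDE : pCore p H ⊓ Subgroup.centralizer ({y} : Set H) ≤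
      pCoreOf p (Subgroup.centralizer ({y} : Set H)) := by
    refine le_pCoreOf inf_le_right ?_ ((pCore_isPGroup p H).to_le inf_le_left)
    exact (le_inf (hDn _) Subgroup.le_normalizer).trans (normalizer_inf_le _ _)
  apply charP_of_coprime_eq_one
  intro c hc hcop
  obtain ⟨hc1, hc2⟩ := Subgroup.mem_inf.mp hc
  have hcy : c ∈ Subgroup.centralizer (Subgroup.zpowers y : Set H) :=
    Subgroup.centralizer_le (SetLike.coe_subset_coe.mpr hyE) hc2
  have h1 : c ∈ Subgroup.centralizer (pCore p H : Set H) := by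
    apply centralizes_of_thompson (isPGroup_zpowers hy) (pCore_isPGroup p H) hcop hcy (hDn _)
      (hDn ⊤ (Subgroup.mem_top c))
    intro x hx
    have hx' : x ∈ pCore p H ⊓ Subgroup.centralizer ({y} : Set H) := by
      refine Subgroup.mem_inf.mpr ⟨(Subgroup.mem_inf.mp hx).1, ?_⟩
      exact Subgroup.centralizer_le (Set.singleton_subset_iff.mpr (Subgroup.mem_zpowers y))
        (Subgroup.mem_inf.mp hx).2
    rw [Subgroup.mem_centralizer_iff]
    intro u hu
    rw [Set.mem_singleton_iff] at hu; subst hu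
    exact (Subgroup.mem_centralizer_iff.mp hc2 x (hDE hx')).symm
  exact eq_one_of_mem_of_coprime (pCore_isPGroup p H) (hH h1) hcop

end

end Cfsg.Agent.Lib.Helper18
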