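import Cfsg.Agent.Lib.Helper18.YL3
import Cfsg.Agent.Lib.Helper18.OddCore
import Cfsg.Agent.Lib.Helper1.Averaging

set_option autoImplicit false
open Cfsg

namespace Cfsg.Agent.Lib.Helper18

open scoped commutatorElement

variable {G : Type*} [Group G] {p : ℕ}

/-- `D = O^p(D) P` elementwise for a Sylow `p`-subgroup `P` of `D`. -/
theorem exists_mul_pResOf_of_isSylowIn [Finite G] [Fact p.Prime] {P D : Subgroup G}
    (hP : IsSylowIn p P D) {c : G} (hc : c ∈ D) :
    ∃ r ∈ pResOf p D, ∃ s ∈ P, c = r * s := by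
  obtain ⟨S, rfl⟩ := hP.exists_sylow
  have h1 := pResidual_sup_sylow S
  have h2 : (⟨c, hc⟩ : D) ∈ pResidual p ↥D ⊔ (S : Subgroup ↥D) := by
    rw [h1]; exact Subgroup.mem_top _
  rw [← SetLike.mem_coe, Subgroup.normal_mul, Set.mem_mul] at h2
  obtain ⟨r, hr, s, hs, e⟩ := h2
  refine ⟨r, ?_, s, ⟨s, hs, rfl⟩, (congrArg Subtype.val e).symm⟩
  rw [← map_pResidual_subtype]
  exact ⟨r, hr, rfl⟩

/-- Thompson's `P × Q` lemma for an abelian `p`-group `U`, "modulo `C(U)`": `D` acts on `U` as a
`p`-group, the `p'`-element `x` commutes with `D` modulo `C(U)`, and `x` centralises `C_U(D)`.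
Then `x` centralises `U`. -/
theorem centralizes_of_thompson_mod [Finite G] [Fact p.Prime] {U D : Subgroup G} {x : G}
    (hUc : ∀ a ∈ U, ∀ b ∈ U, a * b = b * a) (hU : IsPGroup p U)
    (hDU : D ≤ Subgroup.normalizer (U : Set G))
    (hDp : ∀ d ∈ D, ∃ k : ℕ, d ^ (p ^ k) ∈ Subgroup.centralizer (U : Set G))
    (hxU : x ∈ Subgroup.normalizer (U : Set G)) (hx : (orderOf x).Coprime p)
    (hcomm : ∀ d ∈ D, ∀ y ∈ Subgroup.zpowers x,
      d * y * d⁻¹ * y⁻¹ ∈ Subgroup.centralizer (U : Set G))
    (hfix : U ⊓ Subgroup.centralizer (D : Set G) ≤ Subgroup.centralizer ({x} : Set G)) :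
    x ∈ Subgroup.centralizer (U : Set G) := by
  obtain ⟨P, hP, -⟩ := exists_isSylowIn_ge (p := p) (R₀ := ⊥) (K := D) IsPGroup.of_bot bot_le
  have hresC : pResOf p D ≤ Subgroup.centralizer (U : Set G) := pResOf_le_of_forall_pow_mem hDp
  have hfixP : U ⊓ Subgroup.centralizer (P : Set G) ≤ U ⊓ Subgroup.centralizer (D : Set G) := by
    intro u hu
    obtain ⟨hu1, hu2⟩ := Subgroup.mem_inf.mp hu
    refine Subgroup.mem_inf.mpr ⟨hu1, ?_⟩
    rw [Subgroup.mem_centralizer_iff]
    intro d hd
    obtain ⟨r, hr, s, hs, rfl⟩ := exists_mul_pResOf_of_isSylowIn hP hd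
    have h1 := Subgroup.mem_centralizer_iff.mp (hresC hr) u hu1
    have h2 := Subgroup.mem_centralizer_iff.mp hu2 s hs
    calc r * s * u = r * (u * s) := by rw [mul_assoc, h2]
      _ = (u * r) * s := by rw [← mul_assoc, ← h1]
      _ = u * (r * s) := by rw [mul_assoc]
  have hzx : Subgroup.zpowers x ≤ Subgroup.normalizer (U : Set G) :=
    (Subgroup.zpowers_le).mpr hxU
  obtain ⟨M, hMdef⟩ : ∃ M : Subgroup G, M = ⁅U, Subgroup.zpowers x⁆ := ⟨_, rfl⟩
  have hMU : M ≤ U := hMdef ▸ commutator_le_of_le_normalizer' hzx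
  have hPM : P ≤ Subgroup.normalizer (M : Set G) := by
    apply le_normalizer_of_forall_map_conj_le
    intro s hs
    have hsU := hDU (hP.1 hs)
    rw [hMdef, Subgroup.map_commutator, map_conj_eq_of_mem_normalizer U hsU,
      Subgroup.commutator_le]
    rintro u hu _ ⟨y, hy, rfl⟩
    have hc := hcomm s (hP.1 hs) y hy
    have hyU : y * u⁻¹ * y⁻¹ ∈ U :=
      (Subgroup.mem_normalizer_iff.mp (hzx hy) u⁻¹).mp (U.inv_mem hu)
    have h1 := Subgroup.mem_centralizer_iff.mp hc u hu
    have h4 := Subgroup.mem_centralizer_iff.mp hc (u * (y * u⁻¹ * y⁻¹)) (U.mul_mem hu hyU)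
    have h3 : ⁅u, (MulAut.conj s).toMonoidHom y⁆ = ⁅u, y⁆ := by
      simp only [MulEquiv.coe_toMonoidHom, MulAut.conj_apply, commutatorElement_def]
      calc u * (s * y * s⁻¹) * u⁻¹ * (s * y * s⁻¹)⁻¹
          = (u * (s * y * s⁻¹ * y⁻¹)) * (y * u⁻¹ * y⁻¹) * (s * y * s⁻¹ * y⁻¹)⁻¹ := by group
        _ = ((s * y * s⁻¹ * y⁻¹) * u) * (y * u⁻¹ * y⁻¹) * (s * y * s⁻¹ * y⁻¹)⁻¹ := by rw [h1]
        _ = (s * y * s⁻¹ * y⁻¹) * (u * (y * u⁻¹ * y⁻¹)) * (s * y * s⁻¹ * y⁻¹)⁻¹ := by group
        _ = u * (y * u⁻¹ * y⁻¹) := by rw [← h4, mul_inv_cancel_right]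
        _ = u * y * u⁻¹ * y⁻¹ := by group
    rw [h3]
    exact Subgroup.commutator_mem_commutator hu hy
  have hM : M = ⊥ := by
    by_contra hne
    have hMp : IsPGroup p M := hU.to_le hMU
    have hSp : IsPGroup p (P ⊔ M : Subgroup G) :=
      IsPGroup.to_sup_of_normal_right' hP.2.1 hMp hPM
    obtain ⟨z, hzM, hzo, hzc⟩ := exists_central_mem_of_normal hSp le_sup_right
      (sup_le hPM Subgroup.le_normalizer) hne
    have hzU : z ∈ U := hMU hzM
    have hzP : z ∈ Subgroup.centralizer (P : Set G) := by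
      rw [Subgroup.mem_centralizer_iff]
      intro s hs
      exact hzc s (Subgroup.mem_sup_left hs)
    have hzx' := hfix (hfixP (Subgroup.mem_inf.mpr ⟨hzU, hzP⟩))
    have hzZ : z ∈ Subgroup.centralizer (Subgroup.zpowers x : Set G) := by
      have h2 : Subgroup.zpowers x ≤ Subgroup.centralizer ({z} : Set G) := by
        refine (Subgroup.zpowers_le).mpr ?_
        rw [Subgroup.mem_centralizer_iff]
        intro u hu
        rw [Set.mem_singleton_iff] at hu; subst hu
        exact (Subgroup.mem_centralizer_iff.mp hzx' x (Set.mem_singleton x)).symm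
      rw [Subgroup.mem_centralizer_iff]
      intro y hy
      exact (Subgroup.mem_centralizer_iff.mp (h2 hy) z (Set.mem_singleton z)).symm
    have hUcomm : IsMulCommutative U := ⟨⟨fun a b => Subtype.ext (hUc _ a.2 _ b.2)⟩⟩
    have hcop : (Nat.card (Subgroup.zpowers x)).Coprime (Nat.card U) := by
      rw [Nat.card_zpowers]
      obtain ⟨k, hk⟩ := IsPGroup.iff_card.mp hU
      rw [hk]; exact Nat.Coprime.pow_right k hx
    have h5 := Cfsg.Agent.Lib.Helper1.coprime_abelian_inf_commutator (Subgroup.zpowers x) U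
      hzx hcop
    have hz1 : z ∈ (⊥ : Subgroup G) := by
      rw [← h5]; exact Subgroup.mem_inf.mpr ⟨Subgroup.mem_inf.mpr ⟨hzU, hzZ⟩, hMdef ▸ hzM⟩
    rw [Subgroup.mem_bot] at hz1
    rw [hz1, orderOf_one] at hzo
    exact (Nat.Prime.one_lt Fact.out).ne hzo
  rw [hMdef, Subgroup.commutator_eq_bot_iff_le_centralizer] at hM
  rw [Subgroup.mem_centralizer_iff]
  intro u hu
  exact (Subgroup.mem_centralizer_iff.mp (hM hu) x (Subgroup.mem_zpowers x)).symm

/-- Inside a `p`-reduced normal subgroup `U` of `L ⊴ K` (with `U` normalised by `K`) there is a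
`p`-reduced normal subgroup `U'` of `K` with `C_L(U') = C_L(U)`. -/
theorem exists_isPRedIn_of_normal [Finite G] [Fact p.Prime] {L K : Subgroup G} (hLK : L ≤ K)
    (hKL : K ≤ Subgroup.normalizer (L : Set G)) :
    ∀ (n : ℕ) (U : Subgroup G), Nat.card U ≤ n → IsPRedIn p U L →
      K ≤ Subgroup.normalizer (U : Set G) →
      ∃ U' : Subgroup G, U' ≤ U ∧ IsPRedIn p U' K ∧
        L ⊓ Subgroup.centralizer (U' : Set G) ≤ Subgroup.centralizer (U : Set G) := by
  intro n
  induction n using Nat.strong_induction_on with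
  | _ n ih =>
    intro U hn hU hKU
    by_cases hred : IsPRedIn p U K
    · exact ⟨U, le_rfl, hred, inf_le_right⟩
    · obtain ⟨hUL, hLU, hUc, hUe, hUr⟩ := hU
      have hex : ∃ D : Subgroup G, D ≤ K ∧ K ≤ Subgroup.normalizer (D : Set G) ∧
          (∀ d ∈ D, ∃ k : ℕ, d ^ (p ^ k) ∈ Subgroup.centralizer (U : Set G)) ∧
          ¬ D ≤ Subgroup.centralizer (U : Set G) := by
        by_contra hcon
        apply hred
        refine ⟨hUL.trans hLK, hKU, hUc, hUe, ?_⟩
        intro D hDK hKD hDp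
        by_contra hD
        exact hcon ⟨D, hDK, hKD, hDp, hD⟩
      obtain ⟨D, hDK, hKD, hDp, hDU⟩ := hex
      have hUp : IsPGroup p U := by
        rintro ⟨u, hu⟩
        refine ⟨1, Subtype.ext ?_⟩
        show u ^ (p ^ 1) = 1
        rw [pow_one, hUe u hu]
      have hDL : D ⊓ L ≤ Subgroup.centralizer (U : Set G) := by
        apply hUr _ inf_le_right
        · exact (le_inf (hLK.trans hKD) Subgroup.le_normalizer).trans (normalizer_inf_le _ _)
        · intro d hd; exact hDp d hd.1
      have hstar : ∀ x ∈ L, (orderOf x).Coprime p →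
          x ∈ Subgroup.centralizer ((U ⊓ Subgroup.centralizer (D : Set G) : Subgroup G) : Set G) →
          x ∈ Subgroup.centralizer (U : Set G) := by
        intro x hxL hxc hxfix
        apply centralizes_of_thompson_mod hUc hUp (hDK.trans hKU) hDp (hKU (hLK hxL)) hxc
        · intro d hd y hy
          have hyL : y ∈ L := (Subgroup.zpowers_le.mpr hxL) hy
          apply hDL
          refine ⟨?_, ?_⟩
          · have h1 : y * d⁻¹ * y⁻¹ ∈ D :=
              (Subgroup.mem_normalizer_iff.mp (hKD (hLK hyL)) d⁻¹).mp (D.inv_mem hd)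
            have h2 : d * y * d⁻¹ * y⁻¹ = d * (y * d⁻¹ * y⁻¹) := by group
            rw [h2]; exact D.mul_mem hd h1
          · have h1 : d * y * d⁻¹ ∈ L := (Subgroup.mem_normalizer_iff.mp (hKL (hDK hd)) y).mp hyL
            exact L.mul_mem h1 (L.inv_mem hyL)
        · intro u hu
          rw [Subgroup.mem_centralizer_iff]
          intro y hy
          rw [Set.mem_singleton_iff] at hy; subst hy
          exact (Subgroup.mem_centralizer_iff.mp hxfix u hu).symm
      obtain ⟨U₁, hU₁def⟩ : ∃ U₁ : Subgroup G, U₁ = U ⊓ Subgroup.centralizer (D : Set G) :=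
        ⟨_, rfl⟩
      rw [← hU₁def] at hstar
      have hU₁U : U₁ ≤ U := hU₁def ▸ inf_le_left
      have hKU₁ : K ≤ Subgroup.normalizer (U₁ : Set G) := by
        rw [hU₁def]
        exact (le_inf hKU (hKD.trans (normalizer_le_normalizer_centralizer D))).trans
          (normalizer_inf_le _ _)
      have hlt : U₁ < U := by
        refine lt_of_le_of_ne hU₁U ?_
        intro e
        apply hDU
        have h1 : U ≤ Subgroup.centralizer (D : Set G) := by
          rw [← e, hU₁def]; exact inf_le_right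
        exact Subgroup.le_centralizer_iff.mp h1
      have hpow : ∀ d ∈ L, (∃ k : ℕ, d ^ (p ^ k) ∈ Subgroup.centralizer (U₁ : Set G)) →
          ∃ k : ℕ, d ^ (p ^ k) ∈ Subgroup.centralizer (U : Set G) := by
        rintro d hdL ⟨k, hk⟩
        obtain ⟨m, hm⟩ := exists_pow_coprime_order (p := p) (k := d ^ (p ^ k))
          (isOfFinOrder_of_finite _)
        refine ⟨k + m, ?_⟩
        rw [pow_add, pow_mul]
        exact hstar _ (L.pow_mem (L.pow_mem hdL _) _) hm (Subgroup.pow_mem _ hk _)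
      have hLC : L ⊓ Subgroup.centralizer (U₁ : Set G) ≤ Subgroup.centralizer (U : Set G) := by
        apply hUr _ inf_le_left
        · exact (le_inf Subgroup.le_normalizer ((hLK.trans hKU₁).trans
            (normalizer_le_normalizer_centralizer U₁))).trans (normalizer_inf_le _ _)
        · intro d hd
          exact hpow d hd.1 ⟨0, by simpa using hd.2⟩
      have hU₁red : IsPRedIn p U₁ L := by
        refine ⟨hU₁U.trans hUL, hLK.trans hKU₁, fun a ha b hb => hUc a (hU₁U ha) b (hU₁U hb),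
          fun a ha => hUe a (hU₁U ha), ?_⟩
        intro D' hD'L hLD' hD'p
        have h1 : D' ≤ Subgroup.centralizer (U : Set G) := by
          apply hUr D' hD'L hLD'
          intro d hd
          exact hpow d (hD'L hd) (hD'p d hd)
        exact h1.trans (Subgroup.centralizer_le hU₁U)
      have hcard : Nat.card U₁ < n :=
        lt_of_lt_of_le (lt_of_not_ge (fun h => hlt.ne (Subgroup.eq_of_le_of_card_ge hU₁U h))) hn
      obtain ⟨U', hU'le, hU'red, hU'C⟩ := ih (Nat.card U₁) hcard U₁ le_rfl hU₁red hKU₁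
      exact ⟨U', hU'le.trans hU₁U, hU'red, (le_inf inf_le_left hU'C).trans hLC⟩

/-- `C_L(Y_K) ≤ C_L(Y_L)` for `L ⊴ K`. -/
theorem inf_centralizer_largestPReducedOf_le_of_normal [Finite G] [Fact p.Prime]
    {L K : Subgroup G} (hLK : L ≤ K) (hKL : K ≤ Subgroup.normalizer (L : Set G)) :
    L ⊓ Subgroup.centralizer ((largestPReducedOf p K : Subgroup G) : Set G) ≤
      Subgroup.centralizer ((largestPReducedOf p L : Subgroup G) : Set G) := by
  have hYL := isPRedIn_largestPReducedOf' (p := p) L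
  have hKY : K ≤ Subgroup.normalizer ((largestPReducedOf p L : Subgroup G) : Set G) :=
    hKL.trans (normalizer_le_normalizer_largestPReducedOf L)
  obtain ⟨U', hU'le, hU'red, hU'C⟩ := exists_isPRedIn_of_normal hLK hKL _ _ le_rfl hYL hKY
  have h1 : U' ≤ largestPReducedOf p K := le_largestPReducedOf hU'red
  exact (inf_le_inf_left L (Subgroup.centralizer_le h1)).trans hU'C

/-- `C_L(Y_G) ≤ C_L(Y_L)` for `L` subnormal in `G`. -/
theorem inf_centralizer_largestPReduced_le [Finite G] [Fact p.Prime] {L : Subgroup G}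
    (hL : L.IsSubnormal) :
    L ⊓ Subgroup.centralizer ((largestPReduced p G : Subgroup G) : Set G) ≤
      Subgroup.centralizer ((largestPReducedOf p L : Subgroup G) : Set G) := by
  induction hL with
  | top => rw [largestPReducedOf_top]; exact inf_le_right
  | step L K h_le hSubn hN ih =>
    have hKL : K ≤ Subgroup.normalizer (L : Set G) :=
      (Subgroup.normal_subgroupOf_iff_le_normalizer h_le).mp hN
    have h1 := inf_centralizer_largestPReducedOf_le_of_normal (p := p) h_le hKL
    refine le_trans ?_ h1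
    exact le_inf inf_le_left ((inf_le_inf_right _ h_le).trans ih)

end Cfsg.Agent.Lib.Helper18
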