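import Mathlib

/-!
Zsigmondy's theorem for `a ^ n - 1`, via values of cyclotomic polynomials.
-/

set_option autoImplicit false

namespace Cfsg.Agent.Lib.Helper18

open Polynomial

/-- The value of the `n`-th cyclotomic polynomial at the natural number `a`. -/
noncomputable def cycVal (n a : ℕ) : ℕ := ((cyclotomic n ℤ).eval (a : ℤ)).natAbs

theorem cycVal_lt (n a : ℕ) (hn : 1 < n) (ha : 1 < a) : (a - 1) ^ n.totient < cycVal n a :=
  sub_one_pow_totient_lt_natAbs_cyclotomic_eval hn (by omega)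

theorem cycVal_cast (n a : ℕ) (ha : 1 < a) :
    ((cycVal n a : ℕ) : ℝ) = (cyclotomic n ℝ).eval (a : ℝ) := by
  unfold cycVal
  have hpos : 0 < (cyclotomic n ℤ).eval (a : ℤ) := cyclotomic_pos' n (by exact_mod_cast ha)
  have h1 := cyclotomic.eval_apply (a : ℤ) n (Int.castRingHom ℝ)
  have h2 : ((Int.castRingHom ℝ) (a : ℤ)) = (a : ℝ) := by simp
  rw [h2] at h1
  rw [h1, ← Int.cast_natCast, Int.natAbs_of_nonneg hpos.le]
  rfl

theorem isRoot_of_dvd_cycVal {n a r : ℕ} (h : r ∣ cycVal n a) :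
    (cyclotomic n (ZMod r)).IsRoot (a : ZMod r) := by
  have h1 : ((r : ℤ)) ∣ (cyclotomic n ℤ).eval (a : ℤ) := Int.natCast_dvd.mpr h
  have h2 := cyclotomic.eval_apply (a : ℤ) n (Int.castRingHom (ZMod r))
  have h3 : ((Int.castRingHom (ZMod r)) (a : ℤ)) = (a : ZMod r) := by simp
  rw [IsRoot.def, ← h3, h2]
  exact (ZMod.intCast_zmod_eq_zero_iff_dvd _ _).mpr h1

theorem orderOf_of_dvd_cycVal {n a r k m : ℕ} [Fact r.Prime] (h : r ∣ cycVal n a)
    (hnm : n = r ^ k * m) (hm : ¬ r ∣ m) : orderOf (a : ZMod r) = m := by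
  have : NeZero ((m : ZMod r)) := ⟨fun h0 => hm ((ZMod.natCast_eq_zero_iff _ _).mp h0)⟩
  have h1 := isRoot_of_dvd_cycVal h
  rw [hnm, isRoot_cyclotomic_prime_pow_mul_iff_of_charP] at h1
  exact h1.eq_orderOf.symm

theorem dvd_pow_sub_one_iff {a r l : ℕ} (ha : 0 < a) :
    r ∣ a ^ l - 1 ↔ (a : ZMod r) ^ l = 1 := by
  rw [← ZMod.natCast_eq_zero_iff (a ^ l - 1) r, Nat.cast_sub (Nat.one_le_pow _ _ ha),
    Nat.cast_pow, Nat.cast_one, sub_eq_zero]

theorem mul_cycVal_dvd {n d a : ℕ} (ha : 0 < a) (hd : d ∈ n.properDivisors) :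
    (a ^ d - 1) * cycVal n a ∣ a ^ n - 1 := by
  have h := X_pow_sub_one_mul_cyclotomic_dvd_X_pow_sub_one_of_dvd ℤ hd
  have h2 := eval_dvd (x := (a : ℤ)) h
  simp only [eval_mul, eval_sub, eval_pow, eval_X, eval_one] at h2
  have h3 := Int.natAbs_dvd_natAbs.mpr h2
  rw [Int.natAbs_mul] at h3
  have e : ∀ j : ℕ, ((a : ℤ) ^ j - 1).natAbs = a ^ j - 1 := by
    intro j
    have : ((a : ℤ) ^ j - 1) = ((a ^ j - 1 : ℕ) : ℤ) := by
      rw [Nat.cast_sub (Nat.one_le_pow _ _ ha)]; simp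
    rw [this, Int.natAbs_natCast]
  rw [e, e] at h3
  exact h3

theorem sq_mod_four_of_odd {x : ℕ} (hx : Odd x) : x ^ 2 % 4 = 1 := by
  have h : x % 4 = 1 ∨ x % 4 = 3 := by
    have := Nat.odd_iff.mp hx
    omega
  rcases h with h | h <;> simp [Nat.pow_mod, h]

/-- Structure of a non-primitive prime divisor of the cyclotomic value. -/
theorem structure_of_nonprimitive {n a r : ℕ} [hrf : Fact r.Prime] (hn : 2 < n) (ha : 1 < a)
    (h : r ∣ cycVal n a) (hnp : ∃ l, 0 < l ∧ l < n ∧ r ∣ a ^ l - 1) :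
    ∃ k m, 0 < k ∧ n = r ^ k * m ∧ ¬ r ∣ m ∧ m ∣ r - 1 ∧ ¬ r ^ 2 ∣ cycVal n a := by
  have hr := hrf.out
  obtain ⟨k, m, hm, hnm⟩ := Nat.exists_eq_pow_mul_and_not_dvd (by omega : n ≠ 0) r hr.one_lt.ne'
  have hord := orderOf_of_dvd_cycVal h hnm hm
  obtain ⟨l, hl0, hln, hrl⟩ := hnp
  have hal : (a : ZMod r) ^ l = 1 := (dvd_pow_sub_one_iff (by omega)).mp hrl
  have hml : m ∣ l := hord ▸ orderOf_dvd_of_pow_eq_one hal
  have hk : 0 < k := by
    rcases Nat.eq_zero_or_pos k with rfl | hk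
    · rw [pow_zero, one_mul] at hnm
      have := Nat.le_of_dvd hl0 hml
      omega
    · exact hk
  have ha0 : (a : ZMod r) ≠ 0 := by
    intro h0
    rw [h0, zero_pow hl0.ne'] at hal
    exact zero_ne_one hal
  have hmr : m ∣ r - 1 := hord ▸ orderOf_dvd_of_pow_eq_one (ZMod.pow_card_sub_one_eq_one ha0)
  refine ⟨k, m, hk, hnm, hm, hmr, ?_⟩
  -- the proper divisor d = n / r
  obtain ⟨j, rfl⟩ : ∃ j, k = j + 1 := ⟨k - 1, by omega⟩
  have hm0 : 0 < m := by
    rcases Nat.eq_zero_or_pos m with rfl | h0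
    · simp at hm
    · exact h0
  have hnd : n = (r ^ j * m) * r := by rw [hnm, pow_succ]; ring
  have hd0 : 0 < r ^ j * m := Nat.mul_pos (pow_pos hr.pos _) hm0
  have hd : r ^ j * m ∈ n.properDivisors := by
    rw [Nat.mem_properDivisors]
    refine ⟨⟨r, hnd⟩, ?_⟩
    rw [hnd]
    exact lt_mul_of_one_lt_right hd0 hr.one_lt
  have hdvd := mul_cycVal_dvd (a := a) (by omega) hd
  have hc1 : (a : ZMod r) ^ (r ^ j * m) = 1 := by
    rw [mul_comm, pow_mul, ← hord, pow_orderOf_eq_one, one_pow]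
  have hrc : r ∣ a ^ (r ^ j * m) - 1 := (dvd_pow_sub_one_iff (by omega)).mpr hc1
  have hc2 : 1 < a ^ (r ^ j * m) := Nat.one_lt_pow hd0.ne' ha
  have hnrc : ¬ r ∣ a ^ (r ^ j * m) := by
    intro h1
    have h2 := (Nat.dvd_sub h1 hrc)
    have h3 : a ^ (r ^ j * m) - (a ^ (r ^ j * m) - 1) = 1 := by omega
    rw [h3] at h2
    exact hr.one_lt.ne' (Nat.dvd_one.mp h2)
  have han : a ^ n = (a ^ (r ^ j * m)) ^ r := by rw [hnd, pow_mul]
  rw [han] at hdvd
  intro hsq
  rcases hr.eq_two_or_odd' with h2 | hodd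
  · -- r = 2
    subst h2
    have hm1 : m = 1 := by
      have : m ∣ 1 := hmr
      exact Nat.dvd_one.mp this
    subst hm1
    have hj : 0 < j := by
      rcases Nat.eq_zero_or_pos j with rfl | hj
      · simp at hnm; omega
      · exact hj
    obtain ⟨i, rfl⟩ : ∃ i, j = i + 1 := ⟨j - 1, by omega⟩
    have hsq1 : (a ^ (2 ^ (i + 1) * 1)) ^ 2 - 1 =
        (a ^ (2 ^ (i + 1) * 1) - 1) * (a ^ (2 ^ (i + 1) * 1) + 1) := by
      have h1 : 1 ≤ a ^ (2 ^ (i + 1) * 1) := hc2.le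
      obtain ⟨b, hb⟩ : ∃ b, a ^ (2 ^ (i + 1) * 1) = b + 1 := ⟨_, (Nat.sub_add_cancel h1).symm⟩
      rw [hb]
      have : (b + 1) ^ 2 = (b + 1 - 1) * (b + 1 + 1) + 1 := by
        simp only [Nat.add_sub_cancel]; ring
      omega
    rw [hsq1] at hdvd
    have hN : cycVal n a ∣ a ^ (2 ^ (i + 1) * 1) + 1 :=
      Nat.dvd_of_mul_dvd_mul_left (by omega) hdvd
    have haodd : Odd a := by
      rw [Nat.odd_iff]
      by_contra hev
      have : 2 ∣ a := by omega
      exact ha0 ((ZMod.natCast_eq_zero_iff _ _).mpr this)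
    have hc4 : a ^ (2 ^ (i + 1) * 1) % 4 = 1 := by
      have : a ^ (2 ^ (i + 1) * 1) = (a ^ (2 ^ i)) ^ 2 := by
        rw [← pow_mul]; congr 1; ring
      rw [this]
      exact sq_mod_four_of_odd haodd.pow
    have h4 : (2 : ℕ) ^ 2 ∣ a ^ (2 ^ (i + 1) * 1) + 1 := hsq.trans hN
    omega
  · -- r odd
    have hval := padicValNat.pow_sub_pow hodd hc2 hrc hnrc (n := r) hr.ne_zero
    rw [one_pow, padicValNat_self] at hval
    have h1 : r ^ padicValNat r (a ^ (r ^ j * m) - 1) * r ^ 2 ∣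
        (a ^ (r ^ j * m) - 1) * cycVal n a := Nat.mul_dvd_mul pow_padicValNat_dvd hsq
    have h2 := h1.trans hdvd
    rw [← pow_add] at h2
    have hne : (a ^ (r ^ j * m)) ^ r - 1 ≠ 0 := by
      have : 1 < (a ^ (r ^ j * m)) ^ r := Nat.one_lt_pow hr.ne_zero hc2
      omega
    have h3 := (padicValNat_dvd_iff_le hne).mp h2
    omega

theorem three_mul_add_four_le (r : ℕ) (hr : 5 ≤ r) : 3 * r + 4 ≤ 2 ^ r := by
  induction r, hr using Nat.le_induction with
  | base => norm_num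
  | succ r hr ih => rw [pow_succ]; omega

theorem zsigmondy_aux {n a : ℕ} (hn : 2 < n) (ha : 1 < a) (h6 : ¬ (a = 2 ∧ n = 6)) :
    ∃ r : ℕ, r.Prime ∧ r ∣ a ^ n - 1 ∧ ∀ l, 0 < l → l < n → ¬ r ∣ a ^ l - 1 := by
  by_contra hcon
  push Not at hcon
  obtain ⟨N, hNdef⟩ : ∃ N, N = cycVal n a := ⟨_, rfl⟩
  have hN1 : (a - 1) ^ n.totient < N := hNdef ▸ cycVal_lt n a (by omega) ha
  have hN2 : 1 < N := lt_of_le_of_lt (Nat.one_le_pow _ _ (by omega)) hN1
  have hNdvd : N ∣ a ^ n - 1 := by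
    have h1 := mul_cycVal_dvd (n := n) (d := 1) (a := a) (by omega)
      (by rw [Nat.mem_properDivisors]; exact ⟨one_dvd _, by omega⟩)
    rw [hNdef]
    exact (Dvd.intro_left _ rfl).trans h1
  obtain ⟨r, hr, hrN⟩ := Nat.exists_prime_and_dvd (by omega : N ≠ 1)
  have hrf : Fact r.Prime := ⟨hr⟩
  obtain ⟨l, hl0, hln, hrl⟩ := hcon r hr (hrN.trans hNdvd)
  obtain ⟨k, m, hk, hnm, hrm, hmr, hsq⟩ :=
    structure_of_nonprimitive hn ha (hNdef ▸ hrN) ⟨l, hl0, hln, hrl⟩
  have hall : ∀ {q : ℕ}, q.Prime → q ∣ N → q = r := by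
    intro q hq hqN
    have hqf : Fact q.Prime := ⟨hq⟩
    obtain ⟨l', hl0', hln', hql⟩ := hcon q hq (hqN.trans hNdvd)
    obtain ⟨k', m', hk', hnm', hqm', hmq', -⟩ :=
      structure_of_nonprimitive hn ha (hNdef ▸ hqN) ⟨l', hl0', hln', hql⟩
    by_contra hne
    have hq_dvd_n : q ∣ n := hnm' ▸ (dvd_mul_of_dvd_left (dvd_pow_self q hk'.ne') m')
    have hr_dvd_n : r ∣ n := hnm ▸ (dvd_mul_of_dvd_left (dvd_pow_self r hk.ne') m)
    have h1 : q ∣ m := by
      rw [hnm] at hq_dvd_n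
      rcases (Nat.Prime.dvd_mul hq).mp hq_dvd_n with h | h
      · exact absurd ((Nat.prime_dvd_prime_iff_eq hq hr).mp (hq.dvd_of_dvd_pow h)) hne
      · exact h
    have h2 : r ∣ m' := by
      rw [hnm'] at hr_dvd_n
      rcases (Nat.Prime.dvd_mul hr).mp hr_dvd_n with h | h
      · exact absurd ((Nat.prime_dvd_prime_iff_eq hr hq).mp (hr.dvd_of_dvd_pow h)).symm hne
      · exact h
    have hr2 := hr.two_le
    have hq2 := hq.two_le
    have h3 : q ≤ r - 1 := Nat.le_of_dvd (by omega) (h1.trans hmr)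
    have h4 : r ≤ q - 1 := Nat.le_of_dvd (by omega) (h2.trans hmq')
    omega
  have hNr : N = r := by
    have h1 := Nat.eq_prime_pow_of_unique_prime_dvd (by omega : N ≠ 0) hall
    obtain ⟨e, he⟩ : ∃ e, N = r ^ e := ⟨_, h1⟩
    rcases e with _ | _ | e
    · simp at he; omega
    · simpa using he
    · exfalso
      apply hsq
      rw [← hNdef, he]
      exact pow_dvd_pow r (by omega)
  have hrn : r ∣ n := hnm ▸ dvd_mul_of_dvd_left (dvd_pow_self r hk.ne') m
  have htot : r - 1 ≤ n.totient := by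
    have h1 : r.totient ∣ n.totient := Nat.totient_dvd_of_dvd hrn
    rw [Nat.totient_prime hr] at h1
    exact Nat.le_of_dvd (Nat.totient_pos.mpr (by omega)) h1
  have hr2 := hr.two_le
  by_cases ha3 : 3 ≤ a
  · have h1 : 2 ^ (r - 1) ≤ (a - 1) ^ n.totient :=
      (Nat.pow_le_pow_right (by omega) htot).trans (Nat.pow_le_pow_left (by omega) _)
    have h2 : r - 1 < 2 ^ (r - 1) := Nat.lt_two_pow_self
    omega
  · have ha2 : a = 2 := by omega
    subst ha2
    have hrne2 : r ≠ 2 := by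
      rintro rfl
      have h1 := hrN.trans hNdvd
      have h2 : 2 ∣ 2 ^ n := dvd_pow_self 2 (by omega)
      have h3 : 1 ≤ 2 ^ n := Nat.one_le_two_pow
      omega
    by_cases hk2 : 2 ≤ k
    · obtain ⟨n', hn', hrn'⟩ : ∃ n', n = n' * r ∧ r ∣ n' := by
        obtain ⟨j, rfl⟩ : ∃ j, k = j + 2 := ⟨k - 2, by omega⟩
        refine ⟨r ^ (j + 1) * m, ?_, dvd_mul_of_dvd_left (dvd_pow_self r (by omega)) m⟩
        rw [hnm]; ring
      have e1 : cycVal n 2 = cycVal n' (2 ^ r) := by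
        unfold cycVal
        rw [hn', ← cyclotomic_expand_eq_cyclotomic hr hrn' ℤ, expand_eval]
        push_cast
        rfl
      have hn'1 : 1 < n' := lt_of_lt_of_le hr.one_lt (Nat.le_of_dvd (by
        rcases Nat.eq_zero_or_pos n' with rfl | h0
        · simp at hn'; omega
        · exact h0) hrn')
      have h3 : r < 2 ^ r := Nat.lt_two_pow_self
      have h1 : (2 ^ r - 1) ^ n'.totient < cycVal n' (2 ^ r) := cycVal_lt n' (2 ^ r) hn'1 (by omega)
      have h2 : 2 ^ r - 1 ≤ (2 ^ r - 1) ^ n'.totient :=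
        Nat.le_self_pow (Nat.totient_pos.mpr (by omega)).ne' _
      omega
    · have hk1 : k = 1 := by omega
      subst hk1
      rw [pow_one] at hnm
      have hm0 : 0 < m := by
        rcases Nat.eq_zero_or_pos m with rfl | h0
        · simp at hnm; omega
        · exact h0
      have hφ : 1 ≤ m.totient := Nat.totient_pos.mpr hm0
      -- real-valued identity
      have hexp := cyclotomic_expand_eq_cyclotomic_mul hr hrm ℝ
      have hev := congrArg (eval (2 : ℝ)) hexp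
      rw [expand_eval, eval_mul] at hev
      have hNreal : (cyclotomic (m * r) ℝ).eval (2 : ℝ) = (r : ℝ) := by
        have h1 := cycVal_cast n 2 (by omega)
        rw [← hNdef, hNr, hnm, mul_comm r m] at h1
        rw [h1]; norm_num
      rw [hNreal] at hev
      have hlow := sub_one_pow_totient_le_cyclotomic_eval (q := (2 : ℝ) ^ r)
        (one_lt_pow₀ (by norm_num) hr.ne_zero) m
      have hup := cyclotomic_eval_le_add_one_pow_totient (q := (2 : ℝ)) (by norm_num) m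
      have hpos : 0 < (cyclotomic m ℝ).eval (2 : ℝ) := cyclotomic_pos' m (by norm_num)
      by_cases hr5 : 5 ≤ r
      · have hB : (3 * ((r : ℝ) + 1)) ≤ 2 ^ r - 1 := by
          have := three_mul_add_four_le r hr5
          have h' : ((3 * r + 4 : ℕ) : ℝ) ≤ ((2 ^ r : ℕ) : ℝ) := Nat.cast_le.mpr this
          push_cast at h'
          linarith
        have hC : (3 * ((r : ℝ) + 1)) ^ m.totient ≤ ((2 : ℝ) ^ r - 1) ^ m.totient :=
          pow_le_pow_left₀ (by positivity) hB _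
        rw [mul_pow] at hC
        have hE : (r : ℝ) + 1 ≤ ((r : ℝ) + 1) ^ m.totient :=
          le_self_pow₀ (by have : (0 : ℝ) ≤ r := Nat.cast_nonneg r; linarith) (by omega)
        have h3pos : (0 : ℝ) < 3 ^ m.totient := by positivity
        have hF := mul_le_mul_of_nonneg_left hE h3pos.le
        have hG : (r : ℝ) * (cyclotomic m ℝ).eval (2 : ℝ) ≤ (r : ℝ) * (2 + 1) ^ m.totient :=
          mul_le_mul_of_nonneg_left hup (Nat.cast_nonneg r)
        have h21 : ((2 : ℝ) + 1) = 3 := by norm_num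
        rw [h21] at hG
        nlinarith
      · have hr3 : r = 3 := by
          have : r = 3 ∨ r = 4 := by omega
          rcases this with h | h
          · exact h
          · subst h; exact absurd hr (by norm_num)
        subst hr3
        have hm2 : m ≤ 2 := Nat.le_of_dvd (by norm_num) hmr
        have hmc : m = 1 ∨ m = 2 := by omega
        rcases hmc with rfl | rfl
        · -- n = 3
          have hn3 : n = 3 := by omega
          subst hn3
          have : cycVal 3 2 = 7 := by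
            unfold cycVal
            rw [cyclotomic_three]
            simp
          omega
        · exact h6 ⟨rfl, by omega⟩

/-- **Zsigmondy's theorem** for `a ^ n - 1`. -/
theorem zsigmondy (a n : ℕ) (ha : 1 < a) (hn : 1 < n) (h6 : ¬ (a = 2 ∧ n = 6))
    (h2 : ¬ (n = 2 ∧ ∃ m : ℕ, a + 1 = 2 ^ m)) :
    ∃ r : ℕ, r.Prime ∧ r ∣ a ^ n - 1 ∧ ∀ k : ℕ, 0 < k → k < n → ¬ r ∣ a ^ k - 1 := by
  rcases Nat.lt_or_ge 2 n with h | h
  · exact zsigmondy_aux h ha h6
  · have hn2 : n = 2 := by omega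
    subst hn2
    rcases Nat.eq_two_pow_or_exists_odd_prime_and_dvd (a + 1) with ⟨k, hk⟩ | ⟨r, hr, hra, hodd⟩
    · exact absurd ⟨rfl, k, hk⟩ h2
    · refine ⟨r, hr, ?_, ?_⟩
      · have : a ^ 2 - 1 = (a - 1) * (a + 1) := by
          obtain ⟨b, rfl⟩ : ∃ b, a = b + 1 := ⟨a - 1, by omega⟩
          have : (b + 1) ^ 2 = (b + 1 - 1) * (b + 1 + 1) + 1 := by
            simp only [Nat.add_sub_cancel]; ring
          omega
        rw [this]
        exact dvd_mul_of_dvd_right hra _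
      · intro k hk0 hk2 hdvd
        have hk1 : k = 1 := by omega
        subst hk1
        rw [pow_one] at hdvd
        have h3 : r ∣ (a + 1) - (a - 1) := Nat.dvd_sub hra hdvd
        have h4 : (a + 1) - (a - 1) = 2 := by omega
        rw [h4] at h3
        have := (Nat.prime_dvd_prime_iff_eq hr Nat.prime_two).mp h3
        subst this
        exact absurd hodd (by decide)

end Cfsg.Agent.Lib.Helper18
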